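import Groth.Agent.Lib.CBC10.GenRows
import Groth.Prelude.Def_PerfAux

/-!
# Semicontinuity and Euler characteristics over any base
-/

set_option autoImplicit false
set_option linter.style.haveILetI false
set_option linter.unusedSectionVars false
set_option maxHeartbeats 1000000

universe u

open CategoryTheory CategoryTheory.Limits AlgebraicGeometry TopologicalSpace TensorProduct

noncomputable section

namespace Groth.Agent.FibEuler9

open Groth.Agent

section Alg

variable {A : Type u} [CommRing A] (P : ChainComplex (ModuleCat.{u} A) ℤ) [∀ i, Module.Finite A (P.X i)]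
  [∀ i, Module.Projective A (P.X i)]

theorem isLocallyConstant_rank (q : ℤ) :
    IsLocallyConstant fun x : PrimeSpectrum A => (Module.rankAtStalk (P.X q) x : ℤ) :=
  haveI := Module.finitePresentation_of_projective A (P.X q)
  Module.isLocallyConstant_rankAtStalk.comp _

theorem upperSemicontinuous_dRank (p : ℤ) : UpperSemicontinuous (CohIII.dRank P p) := by
  intro x n hn
  have hx := FlatCxLib.dRank_add P x (sub_add_cancel p 1)
  filter_upwards [FlatCxLib.upperSemicontinuous_cokRank P p x (FlatCxLib.cokRank P p x + 1) (Nat.lt_succ_self _),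
    FlatCxLib.upperSemicontinuous_cokRank P (p - 1) x (FlatCxLib.cokRank P (p - 1) x + 1) (Nat.lt_succ_self _),
    (isLocallyConstant_rank P (p - 1)).eventually_eq x] with y h1 h2 h3
  have hy := FlatCxLib.dRank_add P y (sub_add_cancel p 1)
  omega

theorem cokRank_eq_zero {p : ℤ} (h : IsZero (P.X p)) (x : PrimeSpectrum A) :
    FlatCxLib.cokRank P p x = 0 := by
  haveI := ModuleCat.subsingleton_of_isZero h
  haveI : Subsingleton (FlatCxLib.Cok P p) := (Submodule.mkQ_surjective _).subsingleton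
  exact Module.finrank_zero_of_subsingleton

theorem dRank_eq_zero {p : ℤ} (h : IsZero (P.X p)) (h' : IsZero (P.X (p - 1))) (x : PrimeSpectrum A) :
    CohIII.dRank P p x = 0 := by
  have := FlatCxLib.dRank_add P x (sub_add_cancel p 1)
  rw [cokRank_eq_zero P h, cokRank_eq_zero P h'] at this
  omega

/-- The partial Euler characteristic telescopes. -/
theorem sum_dRank (x : PrimeSpectrum A) (N : ℕ) :
    ∑ i ∈ Finset.range N, (-1 : ℤ) ^ i * (CohIII.dRank P (-(i : ℤ)) x : ℤ) =
      (FlatCxLib.cokRank P 0 x : ℤ) - (-1 : ℤ) ^ N * (FlatCxLib.cokRank P (-(N : ℤ)) x : ℤ)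
        - ∑ i ∈ Finset.range N, (-1 : ℤ) ^ i * (Module.rankAtStalk (P.X (-(i : ℤ) - 1)) x : ℤ) := by
  induction N with
  | zero => simp
  | succ N ih =>
    have h := FlatCxLib.dRank_add P x (sub_add_cancel (-(N : ℤ)) 1)
    rw [Finset.sum_range_succ, Finset.sum_range_succ, ih, show -((N + 1 : ℕ) : ℤ) = -(N : ℤ) - 1 by push_cast; ring]
    push_cast [pow_succ]
    have h' : (CohIII.dRank P (-(N : ℤ)) x : ℤ) + (Module.rankAtStalk (P.X (-(N : ℤ) - 1)) x : ℤ) =
      (FlatCxLib.cokRank P (-(N : ℤ)) x : ℤ) + (FlatCxLib.cokRank P (-(N : ℤ) - 1) x : ℤ) := by exact_mod_cast h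
    linear_combination (-1 : ℤ) ^ N * h'

theorem isLocallyConstant_sum (N : ℕ) : IsLocallyConstant fun x : PrimeSpectrum A =>
    ∑ i ∈ Finset.range N, (-1 : ℤ) ^ i * (Module.rankAtStalk (P.X (-(i : ℤ) - 1)) x : ℤ) := by
  induction N with
  | zero => simp only [Finset.range_zero, Finset.sum_empty]; exact IsLocallyConstant.const _
  | succ N ih =>
    simp only [Finset.sum_range_succ]
    exact ih.comp₂ ((isLocallyConstant_rank P (-(N : ℤ) - 1)).comp ((-1 : ℤ) ^ N * ·)) (· + ·)

theorem isLocallyConstant_cokRank_of_flat (p : ℤ) [Module.Flat A (FlatCxLib.Cok P p)] :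
    IsLocallyConstant fun x => (FlatCxLib.cokRank P p x : ℤ) := by
  haveI := CBC10.fp_cok P p
  have h : (fun x => (FlatCxLib.cokRank P p x : ℤ)) =
      fun x => ((Module.rankAtStalk (FlatCxLib.Cok P p) x : ℕ) : ℤ) := by
    funext x
    rw [Module.rankAtStalk_eq]
    rfl
  rw [h]
  exact Module.isLocallyConstant_rankAtStalk.comp _

end Alg

variable {X S : Scheme.{u}} (f : X ⟶ S) [IsProper f] [LocallyOfFinitePresentation f] (F : X.Modules)

/-- The comparison of the two names for the fibre rank. -/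
theorem betti_eq (s : S) (i : ℕ) : PerfAux.betti f F s i = CohIII.fiberRank f F i s := rfl

theorem upperSemicontinuous_betti (hfp : CohB1.IsFP F) (hflat : FlatMod.IsFlatOver f F) (i : ℕ) :
    UpperSemicontinuous fun s => PerfAux.betti f F s i := by
  haveI : Coh.IsQCoh F := M1.isFP_isQCoh hfp
  intro s n hn
  obtain ⟨V, -, M, hsV⟩ := CBC10.exists_model_at f F hfp hflat (U := ⊤) (s := s) trivial
  have hc : Continuous (M.isAffine.primeIdealOf : V → PrimeSpectrum Γ(S, V)) :=
    M.isAffine.isoSpec.hom.continuous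
  have h0 := upperSemicontinuous_dRank M.P (-(i : ℤ)) (M.isAffine.primeIdealOf ⟨s, hsV⟩) n
    (show CohIII.dRank M.P (-(i : ℤ)) (M.isAffine.primeIdealOf ⟨s, hsV⟩) < n by
      rw [← M.fiberRank_eq inferInstance i ⟨s, hsV⟩, ← betti_eq f F]; exact hn)
  have h1 := (hc.continuousAt (x := (⟨s, hsV⟩ : V))).eventually h0
  rw [nhds_subtype] at h1
  obtain ⟨W, hW, hsub⟩ := Filter.mem_comap.1 h1
  refine Filter.mem_of_superset (Filter.inter_mem hW (V.2.mem_nhds hsV)) fun y ⟨hy, hyV⟩ => ?_
  have h2 : CohIII.dRank M.P (-(i : ℤ)) (M.isAffine.primeIdealOf ⟨y, hyV⟩) < n :=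
    hsub (show (⟨y, hyV⟩ : V).1 ∈ W from hy)
  show PerfAux.betti f F y i < n
  rwa [betti_eq, M.fiberRank_eq inferInstance i ⟨y, hyV⟩]

/-- The Euler characteristic of the fibres is locally constant. -/
theorem isLocallyConstant_eulerChar (hfp : CohB1.IsFP F) (hflat : FlatMod.IsFlatOver f F) :
    IsLocallyConstant fun s => PerfAux.eulerChar f F s := by
  haveI : Coh.IsQCoh F := M1.isFP_isQCoh hfp
  refine IsLocallyConstant.iff_exists_open _ |>.2 fun s => ?_
  obtain ⟨V, -, M, hsV⟩ := CBC10.exists_model_at f F hfp hflat (U := ⊤) (s := s) trivial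
  obtain ⟨i₀, hi₀⟩ := M.bounded
  obtain ⟨N, hN⟩ : ∃ N : ℕ, -(N : ℤ) < i₀ := ⟨(1 - i₀).toNat, by omega⟩
  haveI : Module.Flat Γ(S, V) (FlatCxLib.Cok M.P 0) := M.flatCok_zero
  let χ : PrimeSpectrum Γ(S, V) → ℤ := fun x => (FlatCxLib.cokRank M.P 0 x : ℤ) -
    ∑ i ∈ Finset.range N, (-1 : ℤ) ^ i * (Module.rankAtStalk (M.P.X (-(i : ℤ) - 1)) x : ℤ)
  have hχ : IsLocallyConstant χ := by
    refine (isLocallyConstant_cokRank_of_flat M.P 0).comp₂ ?_ (· - ·)
    exact isLocallyConstant_sum M.P N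
  have key : ∀ v : V, PerfAux.eulerChar f F v.1 = χ (M.isAffine.primeIdealOf v) := fun v => by
    rw [PerfAux.eulerChar, finsum_eq_finsetSum_of_support_subset _ (s := Finset.range N)]
    · rw [Finset.sum_congr rfl fun i _ => by rw [betti_eq, M.fiberRank_eq inferInstance i v], sum_dRank,
        cokRank_eq_zero M.P (hi₀ _ hN), Nat.cast_zero, mul_zero, sub_zero]
    · intro i hi
      simp only [Function.mem_support, ne_eq, Finset.coe_range, Set.mem_Iio] at hi ⊢
      by_contra hiN
      exact hi (by rw [betti_eq, M.fiberRank_eq inferInstance i v,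
        dRank_eq_zero M.P (hi₀ _ (by omega)) (hi₀ _ (by omega)), Nat.cast_zero, mul_zero])
  have hc : Continuous (M.isAffine.primeIdealOf : V → PrimeSpectrum Γ(S, V)) :=
    M.isAffine.isoSpec.hom.continuous
  obtain ⟨W, hW, hsW, hWeq⟩ := (IsLocallyConstant.iff_exists_open _).1 (hχ.comp_continuous hc) ⟨s, hsV⟩
  refine ⟨Subtype.val '' W, V.2.isOpenMap_subtype_val W hW, ⟨_, hsW, rfl⟩, ?_⟩
  rintro _ ⟨v, hv, rfl⟩
  rw [key v, key ⟨s, hsV⟩]
  exact hWeq v hv

end Groth.Agent.FibEuler9
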