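import Groth.Agent.Lib.DGen9.Spec
import Groth.Agent.Lib.DBC9.Affine
import Groth.Agent.Lib.DBC9.Good
import Groth.Agent.Lib.DQC.Pull
import Groth.Agent.Lib.SiteCmp16.CohIn
import Mathlib.AlgebraicGeometry.AffineScheme

/-! Perfect and supported objects on affine schemes, through rings. -/

set_option autoImplicit false
set_option linter.unusedSectionVars false
set_option linter.style.haveILetI false
set_option backward.isDefEq.respectTransparency false
set_option backward.isDefEq.respectTransparency.types false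

universe u

open CategoryTheory CategoryTheory.Limits AlgebraicGeometry Pretriangulated

attribute [local instance] HasDerivedCategory.standard

namespace Groth.Agent.DGen9

variable {X : Scheme.{u}}

/-- Cohomology supported in `T`. -/
def SuppOn (T : Set X) (K : DCoh.D X) : Prop := ∀ i : ℤ, CohB1.support (DCoh.HD K i) ⊆ T

theorem suppOn_univ (K : DCoh.D X) : SuppOn Set.univ K := fun _ => Set.subset_univ _

theorem suppOn_of_iso {T : Set X} {K L : DCoh.D X} (e : K ≅ L) (h : SuppOn T K) : SuppOn T L := fun i => by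
  rw [← support_iso ((DerivedCategory.homologyFunctor X.Modules i).mapIso e)]
  exact h i

theorem stalkZero_of_suppOn {T : Set X} {K : DCoh.D X} (h : SuppOn T K) {x : X} (hx : x ∉ T) (i : ℤ) :
    RHom.StalkZero x (DCoh.HD K i) :=
  DMV.stalkZero_of_not_mem_support fun h' => hx (h i h')

theorem suppOn_of_stalks {T : Set X} {K : DCoh.D X} (h : ∀ x, x ∉ T → ∀ i, RHom.StalkZero x (DCoh.HD K i)) :
    SuppOn T K := fun i x hx => by
  by_contra hxT
  exact hx (AddCommGrpCat.subsingleton_of_isZero (h x hxT i))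

theorem suppOn_shift {T : Set X} {K : DCoh.D X} (h : SuppOn T K) (n : ℤ) : SuppOn T (K⟦n⟧) :=
  suppOn_of_stalks fun _ hx i => RHom.stalkZero_iso
    ((((DerivedCategory.homologyFunctor X.Modules 0).shiftIso n i (n + i) rfl).app K).symm)
    (stalkZero_of_suppOn h hx (n + i))

theorem suppOn_triangle₂ {T : Set X} (Tr : Triangle (DCoh.D X)) (hTr : Tr ∈ distTriang _)
    (h₁ : SuppOn T Tr.obj₁) (h₃ : SuppOn T Tr.obj₃) : SuppOn T Tr.obj₂ :=
  suppOn_of_stalks fun x hx i =>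
    ((DerivedCategory.HomologySequence.exact₂ _ hTr i).map (M1.stalkAb x)).isZero_of_both_zeros
      ((stalkZero_of_suppOn h₁ hx i).eq_of_src _ _) ((stalkZero_of_suppOn h₃ hx i).eq_of_tgt _ _)

theorem suppOn_triangle₃ {T : Set X} (Tr : Triangle (DCoh.D X)) (hTr : Tr ∈ distTriang _)
    (h₁ : SuppOn T Tr.obj₁) (h₂ : SuppOn T Tr.obj₂) : SuppOn T Tr.obj₃ :=
  suppOn_triangle₂ Tr.rotate (rot_of_distTriang _ hTr) h₂ (suppOn_shift h₁ 1)

theorem suppOn_resD {T : Set X} {Z : Scheme.{u}} (j : Z ⟶ X) [IsOpenImmersion j] {K : DCoh.D X} (h : SuppOn T K) :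
    SuppOn (j ⁻¹' T) ((DPerf.resD j).obj K) :=
  suppOn_of_stalks fun z hz i => RHom.stalkZero_iso (DPerf.hdResIso j K i).symm
    ((RHom.stalkZero_restrict_iff j z _).2 (stalkZero_of_suppOn h hz i))

/-- Perfectness restricts along open immersions. -/
theorem isPerfect_resD {Z : Scheme.{u}} (j : Z ⟶ X) [IsOpenImmersion j] {K : DCoh.D X} (h : DCoh.IsPerfect K) :
    DCoh.IsPerfect ((DPerf.resD j).obj K) := by
  refine DPerf.isPerfect_iff_approx.2 fun z => ?_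
  obtain ⟨W, hW, hW'⟩ := (DPerf.isPerfect_iff_approx.1 h).exists_opens (j z)
  let k := (j ⁻¹ᵁ W).ι
  have hr : Set.range (k ≫ j) ⊆ Set.range W.ι := by
    rintro _ ⟨w, rfl⟩
    exact ⟨⟨_, w.2⟩, by simp [k]⟩
  obtain ⟨E, hE, α, hα⟩ := (hW' W le_rfl).res (IsOpenImmersion.lift W.ι (k ≫ j) hr) (IsOpenImmersion.lift_fac _ _ _)
  exact ⟨_, k, inferInstance, ⟨⟨z, hW⟩, rfl⟩, E, hE, α ≫ (DPerf.resDComp j k).inv.app K,
    hα.comp (@DPerf.dcond_of_isIso _ _ _ _ _ _ _ _ ((DPerf.resDComp j k).app K).isIso_inv)⟩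

theorem isPerfect_of_iso {K L : DCoh.D X} (e : K ≅ L) (h : DCoh.IsPerfect K) : DCoh.IsPerfect L :=
  DPerf.isPerfect_iff_approx.2 ((DPerf.isPerfect_iff_approx.1 h).of_iso e)

theorem resD_congr {Y : Scheme.{u}} {j j' : Y ⟶ X} [IsOpenImmersion j] [IsOpenImmersion j'] (h : j = j') :
    Nonempty (DPerf.resD j ≅ DPerf.resD j') := by
  subst h; exact ⟨Iso.refl _⟩

/-- Restricting along an isomorphism is an equivalence. -/
noncomputable def resEquiv {Y : Scheme.{u}} (e : X ≅ Y) : DCoh.D Y ≌ DCoh.D X :=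
  CategoryTheory.Equivalence.mk (DPerf.resD e.hom) (DPerf.resD e.inv)
    (((DPerf.resDComp e.hom e.inv) ≪≫ (resD_congr e.inv_hom_id).some ≪≫ (DMon9.lPRes (𝟙 Y)).symm ≪≫ DBC9.lPId Y).symm)
    ((DPerf.resDComp e.inv e.hom) ≪≫ (resD_congr e.hom_inv_id).some ≪≫ (DMon9.lPRes (𝟙 X)).symm ≪≫ DBC9.lPId X)

variable {R : CommRingCat.{u}} (e : X ≅ Spec R)

/-- `tilde` onto an affine scheme. -/
noncomputable def tX : DerivedCategory (ModuleCat.{u} R) ⥤ DCoh.D X :=
  DPerf.tildeDD R ⋙ DPerf.resD e.hom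

noncomputable instance : (tX e).CommShift ℤ :=
  inferInstanceAs ((DPerf.tildeDD R ⋙ DPerf.resD e.hom).CommShift ℤ)

instance : (tX e).IsTriangulated :=
  inferInstanceAs ((DPerf.tildeDD R ⋙ DPerf.resD e.hom).IsTriangulated)

theorem bijective_tX (M N : DerivedCategory (ModuleCat.{u} R)) :
    Function.Bijective fun f : M ⟶ N => (tX e).map f :=
  ((resEquiv e).fullyFaithfulFunctor.map_bijective _ _).comp (DQC.bijective_map M N)

theorem exists_tX_iso {K : DCoh.D X} (hK : DCoh.IsQCohD K) : ∃ M, Nonempty ((tX e).obj M ≅ K) := by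
  obtain ⟨M, ⟨i⟩⟩ := DQC.exists_iso_of_isQCohD _ (DQC.isQCohD_resD e.inv hK)
  exact ⟨M, ⟨(DPerf.resD e.hom).mapIso i ≪≫ (resEquiv e).counitIso.app K⟩⟩

theorem isQCohD_tX (M : DerivedCategory (ModuleCat.{u} R)) : DCoh.IsQCohD ((tX e).obj M) :=
  DQC.isQCohD_resD e.hom fun i => M1.isQCoh_of_isIso (DPerf.hdTildeIso M i).symm
    (inferInstanceAs ((tilde.functor R).obj _).IsQuasicoherent)

theorem isPerfect_tX_iff (M : DerivedCategory (ModuleCat.{u} R)) :
    DCoh.IsPerfect ((tX e).obj M) ↔ DRing.IsPerfect R M :=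
  ⟨fun h => (DPerf.perfect_tilde_iff M).1
      (isPerfect_of_iso ((resEquiv e).unitIso.app _).symm (isPerfect_resD e.inv h)),
    fun h => isPerfect_resD e.hom ((DPerf.perfect_tilde_iff M).2 h)⟩

theorem exists_perfect_tX {K : DCoh.D X} (hKq : DCoh.IsQCohD K) (hK : DCoh.IsPerfect K) :
    ∃ M, DRing.IsPerfect R M ∧ Nonempty ((tX e).obj M ≅ K) := by
  obtain ⟨M, ⟨i⟩⟩ := exists_tX_iso e hKq
  exact ⟨M, (isPerfect_tX_iff e M).1 (isPerfect_of_iso i.symm hK), ⟨i⟩⟩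

/-- The complement of `T` is covered by the basic opens of `l`. -/
def Covers (T : Set X) (l : List R) : Prop := ∀ x : X, x ∉ T ↔ ∃ a ∈ l, e.hom x ∈ M1.bo a

theorem exists_covers {T : Set X} (hT : IsClosed T) (hTc : IsCompact Tᶜ) : ∃ l : List R, Covers e T l := by
  classical
  let h := e.hom.homeomorph
  have hc : IsCompact (h '' Tᶜ) := hTc.image h.continuous
  have hcov : h '' Tᶜ ⊆ ⋃ a ∈ {a : R | (M1.bo a : Set (Spec R)) ⊆ h '' Tᶜ}, (M1.bo a : Set (Spec R)) := fun y hy => by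
    obtain ⟨_, ⟨_, ⟨a, rfl⟩, rfl⟩, hya, hle⟩ := (M1.isBasis_bo (R := R)).exists_subset_of_mem_open hy
      (h.isOpenMap _ hT.isOpen_compl)
    exact Set.mem_biUnion (x := a) hle hya
  obtain ⟨s, hs, hfin, hsub⟩ := hc.elim_finite_subcover_image (fun a _ => (M1.bo a).2) hcov
  refine ⟨hfin.toFinset.toList, fun x => ⟨fun hx => ?_, ?_⟩⟩
  · obtain ⟨a, ha, hxa⟩ := Set.mem_iUnion₂.1 (hsub ⟨x, hx, rfl⟩)
    exact ⟨a, by simpa using ha, hxa⟩
  · rintro ⟨a, ha, hxa⟩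
    obtain ⟨x', hx', hxx'⟩ := hs (show a ∈ s by simpa using ha) hxa
    exact h.injective hxx' ▸ hx'

theorem suppOn_tX_iff {T : Set X} {l : List R} (hl : Covers e T l) (M : DerivedCategory (ModuleCat.{u} R)) :
    SuppOn T ((tX e).obj M) ↔ ∀ a ∈ l, Supp a M := by
  refine ⟨fun h a ha => (supp_iff_support a M).2 fun i y hy hsup => ?_, fun h => ?_⟩
  · obtain ⟨x, rfl⟩ := e.hom.homeomorph.surjective y
    exact hsup (AddCommGrpCat.subsingleton_of_isZero ((RHom.stalkZero_restrict_iff e.hom x _).1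
      (RHom.stalkZero_iso (DPerf.hdResIso e.hom _ i) (stalkZero_of_suppOn h ((hl x).2 ⟨a, ha, hy⟩) i))))
  · refine suppOn_of_stalks fun x hx i => ?_
    obtain ⟨a, ha, hxa⟩ := (hl x).1 hx
    refine RHom.stalkZero_iso (DPerf.hdResIso e.hom _ i).symm ((RHom.stalkZero_restrict_iff e.hom x _).2 ?_)
    exact DMV.stalkZero_of_not_mem_support ((supp_iff_support a M).1 (h a ha) i _ hxa)

/-- Maps from perfect objects into supported objects factor through supported perfect objects. -/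
theorem exists_factor_affine [IsAffine X] {T : Set X} (hT : IsClosed T) (hTc : IsCompact Tᶜ) {A E : DCoh.D X}
    (hAq : DCoh.IsQCohD A) (hA : DCoh.IsPerfect A) (hE : DCoh.IsQCohD E) (hET : SuppOn T E) (α : A ⟶ E) :
    ∃ (C : DCoh.D X) (ι : A ⟶ C) (γ : C ⟶ E),
      DCoh.IsPerfect C ∧ DCoh.IsQCohD C ∧ SuppOn T C ∧ ι ≫ γ = α := by
  obtain ⟨l, hl⟩ := exists_covers X.isoSpec hT hTc
  obtain ⟨MA, hMA, ⟨iA⟩⟩ := exists_perfect_tX X.isoSpec hAq hA
  obtain ⟨ME, ⟨iE⟩⟩ := exists_tX_iso X.isoSpec hE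
  obtain ⟨β, (hβ : (tX X.isoSpec).map β = iA.hom ≫ α ≫ iE.inv)⟩ := (bijective_tX X.isoSpec MA ME).2 (iA.hom ≫ α ≫ iE.inv)
  obtain ⟨C, ι, γ, hC, hCs, -, -, hγ⟩ := exists_factor l hMA
    ((suppOn_tX_iff X.isoSpec hl ME).1 (suppOn_of_iso iE.symm hET)) β
  refine ⟨(tX X.isoSpec).obj C, iA.inv ≫ (tX X.isoSpec).map ι, (tX X.isoSpec).map γ ≫ iE.hom,
    (isPerfect_tX_iff _ C).2 hC, isQCohD_tX _ C, (suppOn_tX_iff _ hl C).2 hCs, ?_⟩
  rw [Category.assoc, ← Category.assoc ((tX X.isoSpec).map ι), ← Functor.map_comp, hγ, hβ]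
  simp

/-- A supported perfect generator. -/
theorem exists_generator_affine [IsAffine X] {T : Set X} (hT : IsClosed T) (hTc : IsCompact Tᶜ) :
    ∃ K : DCoh.D X, DCoh.IsPerfect K ∧ DCoh.IsQCohD K ∧ SuppOn T K ∧
      ∀ E : DCoh.D X, DCoh.IsQCohD E → SuppOn T E → (∀ (n : ℤ) (φ : K⟦n⟧ ⟶ E), φ = 0) → IsZero E := by
  obtain ⟨l, hl⟩ := exists_covers X.isoSpec hT hTc
  obtain ⟨K, hK, hKs, hgen⟩ := exists_generator l
  refine ⟨(tX X.isoSpec).obj K, (isPerfect_tX_iff _ K).2 hK, isQCohD_tX _ K, (suppOn_tX_iff _ hl K).2 hKs,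
    fun E hE hET h0 => ?_⟩
  obtain ⟨M, ⟨iM⟩⟩ := exists_tX_iso X.isoSpec hE
  refine ((tX X.isoSpec).map_isZero (hgen M ((suppOn_tX_iff _ hl M).1 (suppOn_of_iso iM.symm hET)) fun n φ => ?_)).of_iso iM.symm
  refine (bijective_tX X.isoSpec _ _).1 ?_
  change (tX X.isoSpec).map φ = (tX X.isoSpec).map 0
  rw [Functor.map_zero, ← cancel_epi (((tX X.isoSpec).commShiftIso n).inv.app K), ← cancel_mono iM.hom,
    Category.assoc, h0 n (_ ≫ _ ≫ iM.hom)]
  simp

end Groth.Agent.DGen9
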