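import Groth.Agent.Lib.DGen9.Glue

/-! Supported perfect generators on qcqs schemes. -/

set_option autoImplicit false
set_option linter.unusedSectionVars false
set_option linter.style.haveILetI false
set_option backward.isDefEq.respectTransparency false
set_option backward.isDefEq.respectTransparency.types false
set_option maxHeartbeats 800000

universe u

open CategoryTheory CategoryTheory.Limits AlgebraicGeometry Pretriangulated

attribute [local instance] HasDerivedCategory.standard

namespace Groth.Agent.DGen9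

attribute [local instance] DBC9.hasRpush

/-- An open subscheme, seen inside a larger open. -/
noncomputable def subOpenIso {X : Scheme.{u}} {S W : X.Opens} (h : S ≤ W) :
    ((W.ι ⁻¹ᵁ S : (W : Scheme.{u}).Opens) : Scheme.{u}) ≅ (S : Scheme.{u}) :=
  IsOpenImmersion.isoOfRangeEq ((W.ι ⁻¹ᵁ S).ι ≫ W.ι) S.ι (by
    erw [Scheme.Opens.range_ι]
    ext x
    constructor
    · rintro ⟨z, rfl⟩
      exact z.2
    · intro hx
      exact ⟨⟨⟨x, h hx⟩, hx⟩, by simp⟩)

theorem isAffineOpen_sub {X : Scheme.{u}} {S W : X.Opens} (hS : IsAffineOpen S) (h : S ≤ W) :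
    IsAffineOpen (W.ι ⁻¹ᵁ S) :=
  haveI : IsAffine (S : Scheme.{u}) := hS
  IsAffine.of_isIso (subOpenIso h).hom

theorem hasGen (X : Scheme.{u}) [CompactSpace X] [QuasiSeparatedSpace X] : HasGen X := by
  have key : HasGen ((⊤ : X.Opens) : Scheme.{u}) := by
    refine compact_open_induction_on (P := fun S : X.Opens => HasGen (S : Scheme.{u})) (⊤ : X.Opens)
      (by simpa using isCompact_univ) ?_ fun S hS V hg => ?_
    · haveI : IsAffine ((⊥ : X.Opens) : Scheme.{u}) := isAffineOpen_bot X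
      exact hasGen_affine _
    · haveI := QuasiSeparatedSpace.of_isOpenEmbedding (S ⊔ V.1).ι.isOpenEmbedding
      haveI := quasiCompact_ι (W := S ⊔ V.1) (by simpa using hS.union V.2.isCompact)
      refine hasGen_union (U := (S ⊔ V.1).ι ⁻¹ᵁ S) (V := (S ⊔ V.1).ι ⁻¹ᵁ V.1)
        (Scheme.Hom.isCompact_preimage _ (U := S) hS) (isAffineOpen_sub V.2 le_sup_right) ?_
        (hasGen_of_iso (subOpenIso le_sup_left).symm hg)
      rw [← Scheme.Hom.preimage_sup, Scheme.Opens.ι_preimage_self]
  exact hasGen_of_iso X.topIso key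

/-- Generation, as an equivalence. -/
theorem exists_generator_qcqs (X : Scheme.{u}) [CompactSpace X] [QuasiSeparatedSpace X] (T : Set X) (hT : IsClosed T)
    (hTc : IsCompact Tᶜ) :
    ∃ P : DCoh.D X, DCoh.IsPerfect P ∧ DCoh.IsQCohD P ∧ SuppOn T P ∧
      ∀ E : DCoh.D X, DCoh.IsQCohD E → SuppOn T E → (IsZero E ↔ ∀ (n : ℤ) (φ : P⟦n⟧ ⟶ E), φ = 0) := by
  obtain ⟨P, hP, hPT, h⟩ := hasGen X T hT hTc
  exact ⟨P, hP, isQCohD_of_isPerfect hP, hPT, fun E hE hET => ⟨fun hz _ _ => hz.eq_of_tgt _ _, h E hE hET⟩⟩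

end Groth.Agent.DGen9
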