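import Groth.Agent.Lib.DGen9.Ext
import Mathlib.CategoryTheory.Triangulated.HomologicalFunctor

/-! Approximation on affine schemes with support in the zero locus of functions. -/

set_option autoImplicit false
set_option linter.unusedSectionVars false
set_option linter.style.haveILetI false
set_option backward.isDefEq.respectTransparency false
set_option backward.isDefEq.respectTransparency.types false
set_option maxHeartbeats 800000

universe u

open CategoryTheory CategoryTheory.Limits AlgebraicGeometry Pretriangulated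

attribute [local instance] HasDerivedCategory.standard

namespace Groth.Agent.DGen9

theorem isPseudoCoherentD_mono {X : Scheme.{u}} {K : DCoh.D X} {m k : ℤ} (h : DCoh.IsPseudoCoherentD m K)
    (hk : m ≤ k) : DCoh.IsPseudoCoherentD k K :=
  DPerf.isPseudoCoherentD_of_approx ((DPerf.approx_of_isPseudoCoherentD h).mono_set (Set.Ici_subset_Ici.2 hk))

theorem isPseudoCoherentD_of_isoD {X : Scheme.{u}} {K L : DCoh.D X} (e : K ≅ L) {m : ℤ}
    (h : DCoh.IsPseudoCoherentD m K) : DCoh.IsPseudoCoherentD m L :=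
  DPerf.isPseudoCoherentD_of_approx ((DPerf.approx_of_isPseudoCoherentD h).of_iso e)

theorem exists_approx_affine (X : Scheme.{u}) [IsAffine X] (fs : Finset Γ(X, ⊤)) (m : ℤ) (E : DCoh.D X)
    (hq : DCoh.IsQCohD E) (hpc : DCoh.IsPseudoCoherentD m E)
    (hsupp : ∀ i : ℤ, m - (fs.card : ℤ) + 1 ≤ i →
      CohB1.support (DCoh.HD E i) ⊆ X.zeroLocus (U := ⊤) (↑fs : Set Γ(X, ⊤))) :
    ∃ (P : DCoh.D X) (α : P ⟶ E), DCoh.IsPerfect P ∧
      SuppOn (X.zeroLocus (U := ⊤) (↑fs : Set Γ(X, ⊤))) P ∧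
      (∀ i : ℤ, m < i → IsIso ((DerivedCategory.homologyFunctor X.Modules i).map α)) ∧
      Epi ((DerivedCategory.homologyFunctor X.Modules m).map α) := by
  classical
  haveI : CompactSpace X := inferInstance
  let e := X.isoSpec
  let T : Set X := X.zeroLocus (U := ⊤) (↑fs : Set Γ(X, ⊤))
  have hpre : ∀ (a : Γ(X, ⊤)) (x : X), e.hom x ∈ M1.bo a ↔ x ∈ X.basicOpen a := fun a x => by
    rw [← Scheme.toSpecΓ_preimage_basicOpen X a]
    rfl
  have hl : Covers e T fs.toList := fun x => by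
    have hT : x ∈ T ↔ ∀ f ∈ fs, x ∉ X.basicOpen f := Scheme.mem_zeroLocus_iff X _ x
    rw [hT]
    simp only [not_forall, not_not, exists_prop, Finset.mem_toList, hpre]
  obtain ⟨M, ⟨iM⟩⟩ := exists_tX_iso e hq
  have hpcM := isPseudoCoherentD_of_isoD iM.symm hpc
  have hzero : ∀ (Q : DerivedCategory (ModuleCat.{u} Γ(X, ⊤))) (i : ℤ), Loc0 [(1 : Γ(X, ⊤))] Q i →
      IsZero (DCoh.HD ((tX e).obj Q) i) := fun Q i hQ => by
    refine DPerf.isZero_of_stalks fun x => AddCommGrpCat.subsingleton_of_isZero ?_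
    refine RHom.stalkZero_iso (DPerf.hdResIso e.hom _ i).symm ((RHom.stalkZero_restrict_iff e.hom x _).2 ?_)
    refine DMV.stalkZero_of_not_mem_support ((tors_iff_support 1 Q i).1 (hQ 1 (List.mem_singleton_self _)) _ ?_)
    rw [hpre, Scheme.basicOpen_one]
    trivial
  obtain ⟨b, hb⟩ : ∃ b : ℤ, M.IsLE b := by
    obtain ⟨b, hb⟩ := DPerf.exists_isLE_of_pseudoCoherent hpcM
    refine ⟨b, (DerivedCategory.isLE_iff _ _).2 fun q hq' => ?_⟩
    have h1 : IsZero (DCoh.HD ((tX e).obj M) q) := (DerivedCategory.isLE_iff _ _).1 hb q hq'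
    refine DPerf.isZero_of_tilde (IsZero.of_iso ?_ (DPerf.hdTildeIso M q).symm)
    refine DPerf.isZero_of_stalks fun y => ?_
    obtain ⟨x, rfl⟩ := e.hom.homeomorph.surjective y
    exact AddCommGrpCat.subsingleton_of_isZero ((RHom.stalkZero_restrict_iff e.hom x _).1
      (RHom.stalkZero_iso (DPerf.hdResIso e.hom _ q) ((M1.stalkAb x).map_isZero h1)))
  have hs : ∀ a ∈ fs.toList, ∀ i, m + 1 - (fs.toList.length : ℤ) ≤ i → Tors a M i := fun a ha i hi => by
    rw [Finset.length_toList] at hi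
    refine (tors_iff_support a M i).2 fun y hy hsup => ?_
    obtain ⟨x, rfl⟩ := e.hom.homeomorph.surjective y
    have hx : x ∉ T := (hl x).2 ⟨a, ha, hy⟩
    have h0 : RHom.StalkZero x (DCoh.HD E i) :=
      DMV.stalkZero_of_not_mem_support fun h => hx (hsupp i (by omega) h)
    exact hsup (AddCommGrpCat.subsingleton_of_isZero ((RHom.stalkZero_restrict_iff e.hom x _).1
      (RHom.stalkZero_iso (DPerf.hdResIso e.hom _ i)
        (RHom.stalkZero_iso ((DerivedCategory.homologyFunctor X.Modules i).mapIso iM).symm h0))))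
  have hfg : ∀ (Q : DerivedCategory (ModuleCat.{u} Γ(X, ⊤))) (e' : M ⟶ Q), Good fs.toList b e' → ∀ k, m ≤ k →
      (∀ i, k < i → Loc0 [(1 : Γ(X, ⊤))] Q i) → ∃ xs : List (pt k ⟶ Q), Gen [(1 : Γ(X, ⊤))] Q xs := by
    intro Q e' hG k hmk hk
    obtain ⟨Z, u, v, hZT, hZ, -, -⟩ := hG
    have hQ : DCoh.IsPseudoCoherentD k ((tX e).obj Q) :=
      DPerf.isPseudoCoherentD_of_approx (DPerf.approx_Ici₂ k _ ((tX e).map_distinguished _ hZT)
        (DPerf.approx_of_isPseudoCoherentD (isPseudoCoherentD_mono hpcM hmk))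
        ((DPerf.isPerfect_iff_approx.1 ((isPerfect_tX_iff e Z).2 hZ)).mono_set (Set.subset_univ _)))
    have hft := DPerf.finiteType_top hQ fun i hi => hzero Q i (hk i hi)
    have hspan := exists_span_of_isFT ((DerivedCategory.homologyFunctor (ModuleCat.{u} Γ(X, ⊤)) k).obj Q)
      (1 : Γ(X, ⊤)) ?_
    · obtain ⟨s, hs⟩ := hspan
      refine ⟨s.toList.map (eltEquiv k Q).symm, fun g hg y => ?_⟩
      obtain rfl := List.mem_singleton.1 hg
      obtain ⟨n, hn⟩ := hs (eltEquiv k Q y)
      refine ⟨n, ?_⟩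
      have h2 := Submodule.mem_map_of_mem (f := (eltEquiv k Q).symm.toLinearMap) hn
      rw [Submodule.map_span, LinearEquiv.coe_coe, map_smul, LinearEquiv.symm_apply_apply] at h2
      refine Submodule.span_mono ?_ h2
      rintro _ ⟨z, hz, rfl⟩
      exact List.mem_map.2 ⟨z, Finset.mem_toList.2 hz, rfl⟩
    · let q := (M1.bo (1 : Γ(X, ⊤))).ι ≫ e.inv
      refine M1.isFT_of_isIso ?_
        (M1.isFT_restrict (M1.isFT_of_isIso (DPerf.hdResIso e.hom _ k ≪≫
          (Scheme.Modules.restrictFunctor e.hom).mapIso (DPerf.hdTildeIso Q k)) hft) q)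
      exact (Scheme.Modules.restrictFunctorComp q e.hom).symm.app _ ≪≫
        (Scheme.Modules.restrictFunctorCongr (show q ≫ e.hom = (M1.bo (1 : Γ(X, ⊤))).ι by simp [q])).app _
  obtain ⟨Q, e', hG, hQ⟩ := exists_approx fs.toList [1] (E := M) b m hb hs hfg
  obtain ⟨Z, u, v, hZT, hZ, hZs, -⟩ := hG
  let T' := (tX e).mapTriangle.obj (Triangle.mk e' u v).invRotate
  have hT' : T' ∈ distTriang _ := (tX e).map_distinguished _ (inv_rot_of_distTriang _ hZT)
  refine ⟨T'.obj₁, T'.mor₁ ≫ iM.hom, (isPerfect_tX_iff e _).2 (DBaseChange.isPerfect_shift (-1) hZ),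
    (suppOn_tX_iff e hl _).2 fun a ha => supp_shift (hZs a ha) (-1), fun i hi => ?_, ?_⟩
  · haveI : Mono ((DerivedCategory.homologyFunctor X.Modules i).map T'.mor₁) :=
      (DerivedCategory.HomologySequence.mono_homologyMap_mor₁_iff _ hT' (i - 1) i (by omega)).2
        ((hzero Q (i - 1) (hQ _ (by omega))).eq_of_src _ _)
    haveI : Epi ((DerivedCategory.homologyFunctor X.Modules i).map T'.mor₁) :=
      (DerivedCategory.HomologySequence.epi_homologyMap_mor₁_iff _ hT' i).2
        ((hzero Q i (hQ _ (by omega))).eq_of_tgt _ _)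
    haveI := isIso_of_mono_of_epi ((DerivedCategory.homologyFunctor X.Modules i).map T'.mor₁)
    rw [Functor.map_comp]
    infer_instance
  · haveI : Epi ((DerivedCategory.homologyFunctor X.Modules m).map T'.mor₁) :=
      (DerivedCategory.HomologySequence.epi_homologyMap_mor₁_iff _ hT' m).2
        ((hzero Q m (hQ _ le_rfl)).eq_of_tgt _ _)
    rw [Functor.map_comp]
    infer_instance

end Groth.Agent.DGen9
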