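import Groth.Agent.Lib.DGen9.Ring

/-! Approximation by attaching supported perfect objects. -/

set_option autoImplicit false
set_option linter.unusedSectionVars false
set_option linter.style.haveILetI false
set_option backward.isDefEq.respectTransparency false
set_option backward.isDefEq.respectTransparency.types false

universe u

open CategoryTheory CategoryTheory.Limits CategoryTheory.Pretriangulated CategoryTheory.Triangulated ZeroObject

attribute [local instance] HasDerivedCategory.standard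

namespace Groth.Agent.DGen9

open DMod DBaseChange

variable {R : Type u} [CommRing R]

/-- No classes above the amplitude. -/
theorem hom_pt_eq_zero {M : Dual.D R} {m i : ℤ} (hM : M.IsLE m) (hi : m < i) (x : pt i ⟶ M) : x = 0 := by
  apply (DQC.bijective_θ_projective (R := CommRingCat.of R) (ModuleCat.of R R) i M).1
  exact (DerivedCategory.isZero_of_isLE M m i hi).eq_of_tgt _ _

/-- The cohomology vanishes in degree `i` away from `V(gs)`. -/
def Loc0 (gs : List R) (Q : Dual.D R) (i : ℤ) : Prop := ∀ g ∈ gs, Tors g Q i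

/-- The classes `xs` generate in degree `k` away from `V(gs)`. -/
def Gen (gs : List R) (Q : Dual.D R) {k : ℤ} (xs : List (pt k ⟶ Q)) : Prop :=
  ∀ g ∈ gs, ∀ y : pt k ⟶ Q, ∃ n : ℕ, g ^ n • y ∈ Submodule.span R {x | x ∈ xs}

/-- `e : E ⟶ Q` has a supported perfect cone. -/
def Good (l : List R) {E Q : Dual.D R} (b : ℤ) (e : E ⟶ Q) : Prop :=
  ∃ (Z : Dual.D R) (u : Q ⟶ Z) (v : Z ⟶ E⟦(1 : ℤ)⟧), Triangle.mk e u v ∈ distTriang _ ∧
    DRing.IsPerfect R Z ∧ (∀ a ∈ l, Supp a Z) ∧ Z.IsLE (b - 1)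

theorem good_id (l : List R) (E : Dual.D R) (b : ℤ) : Good l b (𝟙 E) := by
  have hz : IsZero (0 : Dual.D R) := isZero_zero _
  refine ⟨0, 0, 0, contractible_distinguished E, isPerfect_of_isZero hz,
    fun a _ i x => ⟨0, hz.eq_of_tgt _ _⟩, ?_⟩
  exact ((DerivedCategory.TStructure.t).isLE_of_iso (hz.iso hz) (b - 1) :)

theorem tors_of_good {l : List R} {E Q : Dual.D R} {b : ℤ} {e : E ⟶ Q} (hG : Good l b e) {a : R} (ha : a ∈ l)
    {i : ℤ} (hE : Tors a E i) : Tors a Q i := fun x => by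
  obtain ⟨Z, u, v, hT, -, hZ, -⟩ := hG
  obtain ⟨n, hn⟩ := hZ a ha i (x ≫ u)
  have hex : ∃ y : pt i ⟶ E, a ^ n • x = y ≫ e := Triangle.coyoneda_exact₂ _ hT (a ^ n • x)
    (show (a ^ n • x) ≫ u = 0 by rw [Linear.smul_comp, hn])
  obtain ⟨y, hy⟩ := hex
  obtain ⟨m, hm⟩ := hE y
  exact ⟨m + n, by rw [pow_add, mul_smul, hy, ← Linear.smul_comp, hm, zero_comp]⟩

theorem isLE_of_good {l : List R} {E Q : Dual.D R} {b : ℤ} {e : E ⟶ Q} (hG : Good l b e) (hE : E.IsLE b) :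
    Q.IsLE b := by
  obtain ⟨Z, u, v, hT, -, -, hZ⟩ := hG
  haveI : (DerivedCategory.TStructure.t).IsLE Z (b - 1) := hZ
  haveI : (DerivedCategory.TStructure.t).IsLE Z b := (DerivedCategory.TStructure.t).isLE_of_le _ (b - 1) b (by omega)
  exact (DerivedCategory.TStructure.t).isLE₂ _ hT b hE ‹_›

/-- Attach supported perfect objects killing given classes. -/
theorem exists_attach (l : List R) {E : Dual.D R} {b k : ℤ} (hk : k ≤ b)
    (hE : ∀ a ∈ l, ∀ i, k + 1 - l.length ≤ i → i ≤ k → Tors a E i) :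
    ∀ {Q : Dual.D R} (e : E ⟶ Q), Good l b e → ∀ xs : List (pt k ⟶ Q),
      ∃ (Q' : Dual.D R) (w : Q ⟶ Q'), Good l b (e ≫ w) ∧ (∀ x ∈ xs, x ≫ w = 0) ∧
        ∀ i, k ≤ i → ∀ y : pt i ⟶ Q', ∃ x : pt i ⟶ Q, x ≫ w = y := by
  suffices h : ∀ (len : ℕ) {Q : Dual.D R} (e : E ⟶ Q), Good l b e → ∀ xs : List (pt k ⟶ Q), xs.length = len →
      ∃ (Q' : Dual.D R) (w : Q ⟶ Q'), Good l b (e ≫ w) ∧ (∀ x ∈ xs, x ≫ w = 0) ∧
        ∀ i, k ≤ i → ∀ y : pt i ⟶ Q', ∃ x : pt i ⟶ Q, x ≫ w = y from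
    fun {Q} e hG xs => h xs.length e hG xs rfl
  intro len
  induction len with
  | zero =>
    intro Q e hG xs hlen
    obtain rfl := List.length_eq_zero_iff.1 hlen
    refine ⟨Q, 𝟙 Q, ?_, by simp, fun i _ y => ⟨y, Category.comp_id y⟩⟩
    rw [Category.comp_id]; exact hG
  | succ len ih =>
    intro Q e hG xs hlen
    obtain ⟨x, xs, rfl⟩ := List.exists_cons_of_length_eq_add_one hlen
    obtain ⟨C, ι, γ, hC, hCs, hCle, -, hγ⟩ := exists_factor_range l x
      (fun a ha i h₁ h₂ => tors_of_good hG ha (hE a ha i h₁ h₂))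
    obtain ⟨Q₁, w₁, δ, hT₁⟩ := distinguished_cocone_triangle γ
    have hG' : Good l b (e ≫ w₁) := by
      obtain ⟨Z, u, v, hT, hZ, hZs, hZle⟩ := hG
      obtain ⟨Z₁, u₁, v₁, hT₁'⟩ := distinguished_cocone_triangle (e ≫ w₁)
      let o := Triangulated.someOctahedron rfl hT (rot_of_distTriang _ hT₁) hT₁'
      refine ⟨Z₁, u₁, v₁, hT₁', isPerfect_triangle₂ o.triangle o.mem hZ (isPerfect_shift _ hC),
        fun a ha => supp_triangle₂ o.triangle o.mem (hZs a ha) (supp_shift (hCs a ha) 1), ?_⟩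
      haveI : (DerivedCategory.TStructure.t).IsLE Z (b - 1) := hZle
      haveI : (DerivedCategory.TStructure.t).IsLE C k := hCle
      haveI : (DerivedCategory.TStructure.t).IsLE (C⟦(1 : ℤ)⟧) (k - 1) :=
        (DerivedCategory.TStructure.t).isLE_shift C k 1 (k - 1) (by omega)
      haveI : (DerivedCategory.TStructure.t).IsLE (C⟦(1 : ℤ)⟧) (b - 1) :=
        (DerivedCategory.TStructure.t).isLE_of_le _ (k - 1) (b - 1) (by omega)
      exact (DerivedCategory.TStructure.t).isLE₂ o.triangle o.mem (b - 1) ‹_› ‹_›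
    obtain ⟨Q', w, hG'', hxs, hsurj⟩ := ih (e ≫ w₁) hG' (xs.map (· ≫ w₁)) (by simpa using hlen)
    refine ⟨Q', w₁ ≫ w, by rw [← Category.assoc]; exact hG'', fun z hz => ?_, fun i hi y => ?_⟩
    · rcases List.mem_cons.1 hz with rfl | hz
      · rw [← hγ, Category.assoc, reassoc_of% (show γ ≫ w₁ = 0 from comp_distTriang_mor_zero₁₂ _ hT₁), zero_comp,
          comp_zero]
      · rw [← Category.assoc]; exact hxs _ (List.mem_map.2 ⟨z, hz, rfl⟩)
    · obtain ⟨y₁, rfl⟩ := hsurj i hi y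
      haveI : (DerivedCategory.TStructure.t).IsLE C k := hCle
      haveI : (DerivedCategory.TStructure.t).IsLE (C⟦(1 : ℤ)⟧) (k - 1) :=
        (DerivedCategory.TStructure.t).isLE_shift C k 1 (k - 1) (by omega)
      have hex : ∃ x₀ : pt i ⟶ Q, y₁ = x₀ ≫ w₁ := Triangle.coyoneda_exact₃ _ hT₁ y₁
        (hom_pt_eq_zero (M := C⟦(1 : ℤ)⟧) (m := k - 1) ‹_› (by omega) _)
      obtain ⟨x₀, rfl⟩ := hex
      exact ⟨x₀, (Category.assoc _ _ _).symm⟩

/-- Approximation down to degree `m`. -/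
theorem exists_approx (l gs : List R) {E : Dual.D R} (b m : ℤ) (hE : E.IsLE b)
    (hs : ∀ a ∈ l, ∀ i, m + 1 - l.length ≤ i → Tors a E i)
    (hfg : ∀ (Q : Dual.D R) (e : E ⟶ Q), Good l b e → ∀ k, m ≤ k → (∀ i, k < i → Loc0 gs Q i) →
      ∃ xs : List (pt k ⟶ Q), Gen gs Q xs) :
    ∃ (Q : Dual.D R) (e : E ⟶ Q), Good l b e ∧ ∀ i, m ≤ i → Loc0 gs Q i := by
  suffices h : ∀ (d : ℕ), ∀ k, k = b + 1 - d → m ≤ k →
      ∃ (Q : Dual.D R) (e : E ⟶ Q), Good l b e ∧ ∀ i, k ≤ i → Loc0 gs Q i by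
    by_cases hm : m ≤ b + 1
    · exact h (b + 1 - m).toNat m (by omega) le_rfl
    · exact ⟨E, 𝟙 E, good_id l E b, fun i hi g _ x => ⟨0, by rw [hom_pt_eq_zero hE (by omega) x, smul_zero]⟩⟩
  intro d
  induction d with
  | zero =>
    exact fun k hk _ => ⟨E, 𝟙 E, good_id l E b, fun i hi g _ x =>
      ⟨0, by rw [hom_pt_eq_zero hE (by omega) x, smul_zero]⟩⟩
  | succ d ihd =>
    intro k hk hmk
    obtain ⟨Q, e, hG, hQ⟩ := ihd (k + 1) (by omega) (by omega)
    obtain ⟨xs, hxs⟩ := hfg Q e hG k hmk (fun i hi => hQ i (by omega))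
    obtain ⟨Q', w, hG', hkill, hsurj⟩ := exists_attach l (b := b) (k := k) (by omega)
      (fun a ha i h₁ _ => hs a ha i (by omega)) e hG xs
    refine ⟨Q', e ≫ w, hG', fun i hi g hg y => ?_⟩
    obtain ⟨x, rfl⟩ := hsurj i hi y
    by_cases hik : i = k
    · subst hik
      obtain ⟨n, hn⟩ := hxs g hg x
      refine ⟨n, ?_⟩
      rw [← Linear.smul_comp]
      refine Submodule.span_induction (p := fun z _ => z ≫ w = 0) (fun z hz => hkill z hz) zero_comp
        (fun _ _ _ _ h₁ h₂ => by rw [Preadditive.add_comp, h₁, h₂, add_zero])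
        (fun r _ _ h => by rw [Linear.smul_comp, h, smul_zero]) hn
    · obtain ⟨n, hn⟩ := hQ i (by omega) g hg x
      exact ⟨n, by rw [← Linear.smul_comp, hn, zero_comp]⟩

end Groth.Agent.DGen9
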