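import Groth.Agent.Lib.DGen9.Basics
import Groth.Agent.Lib.DGen9.Attach
import Groth.Agent.Lib.DMV.Perfect
import Groth.Agent.Lib.DPerf.Noeth

/-! Extending maps and perfect objects from quasi-compact opens of affine schemes. -/

set_option autoImplicit false
set_option linter.unusedSectionVars false
set_option linter.style.haveILetI false
set_option backward.isDefEq.respectTransparency false
set_option backward.isDefEq.respectTransparency.types false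
set_option maxHeartbeats 800000

universe u

open CategoryTheory CategoryTheory.Limits AlgebraicGeometry Pretriangulated

attribute [local instance] HasDerivedCategory.standard

namespace Groth.Agent.DGen9

attribute [local instance] DBC9.hasRpush

open DMon9

/-- The cone of the complement of an idempotent. -/
theorem nonempty_cone_iso {C : Type*} [Category* C] [HasZeroObject C] [Preadditive C] [HasShift C ℤ]
    [∀ n : ℤ, (shiftFunctor C n).Additive] [Pretriangulated C] {F P K : C} [HasBinaryBiproduct F (F⟦(1 : ℤ)⟧)]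
    (i : F ⟶ P) (r : P ⟶ F) (hir : i ≫ r = 𝟙 F) {u : P ⟶ K} {v : K ⟶ P⟦(1 : ℤ)⟧}
    (hT : Triangle.mk (𝟙 P - r ≫ i) u v ∈ distTriang C) : Nonempty (K ≅ F ⊞ F⟦(1 : ℤ)⟧) := by
  have hir' : i⟦(1 : ℤ)⟧' ≫ r⟦(1 : ℤ)⟧' = 𝟙 (F⟦(1 : ℤ)⟧) := by
    rw [← Functor.map_comp, hir, CategoryTheory.Functor.map_id]
  have hpu : (r ≫ i) ≫ u = u := by
    have h : (𝟙 P - r ≫ i) ≫ u = 0 := comp_distTriang_mor_zero₁₂ _ hT
    rw [Preadditive.sub_comp, Category.id_comp, sub_eq_zero] at h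
    exact h.symm
  have hvp : v ≫ r⟦(1 : ℤ)⟧' ≫ i⟦(1 : ℤ)⟧' = v := by
    have h : v ≫ (𝟙 P - r ≫ i)⟦(1 : ℤ)⟧' = 0 := comp_distTriang_mor_zero₃₁ _ hT
    rw [Functor.map_sub, CategoryTheory.Functor.map_id, Preadditive.comp_sub, Category.comp_id, sub_eq_zero,
      Functor.map_comp] at h
    exact h.symm
  have hexa : ∃ a : K ⟶ F, r = u ≫ a + 0 := by
    have h0 : (𝟙 P - r ≫ i) ≫ r = 0 := by
      rw [Preadditive.sub_comp, Category.id_comp, Category.assoc, hir, Category.comp_id, sub_self]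
    obtain ⟨a, ha⟩ := Triangle.yoneda_exact₂ _ hT r h0
    exact ⟨a, by rw [add_zero]; exact ha⟩
  obtain ⟨a, ha⟩ := hexa
  rw [add_zero] at ha
  have hexb : ∃ b : F⟦(1 : ℤ)⟧ ⟶ K, i⟦(1 : ℤ)⟧' = b ≫ v := by
    have h0 : i ≫ (𝟙 P - r ≫ i) = 0 := by
      rw [Preadditive.comp_sub, Category.comp_id, ← Category.assoc, hir, Category.id_comp, sub_self]
    exact Triangle.coyoneda_exact₁ _ hT (i⟦(1 : ℤ)⟧') (by
      show i⟦(1 : ℤ)⟧' ≫ (𝟙 P - r ≫ i)⟦(1 : ℤ)⟧' = 0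
      rw [← Functor.map_comp, h0, Functor.map_zero])
  obtain ⟨b, hb⟩ := hexb
  have huv : u ≫ v = 0 := comp_distTriang_mor_zero₂₃ _ hT
  let b' := b - b ≫ a ≫ i ≫ u
  have hb' : b' ≫ v = i⟦(1 : ℤ)⟧' := by
    simp only [b', Preadditive.sub_comp, Category.assoc, huv, comp_zero, sub_zero, hb]
  have hiua : (i ≫ u) ≫ a = 𝟙 F := by rw [Category.assoc, ← ha, hir]
  have hba : b' ≫ a = 0 := by
    simp only [b', Preadditive.sub_comp, Category.assoc]
    rw [← ha, hir, Category.comp_id, sub_self]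
  let f : K ⟶ F ⊞ F⟦(1 : ℤ)⟧ := biprod.lift a (v ≫ r⟦(1 : ℤ)⟧')
  let g : F ⊞ F⟦(1 : ℤ)⟧ ⟶ K := biprod.desc (i ≫ u) b'
  have hgf : g ≫ f = 𝟙 _ := by
    refine biprod.hom_ext' _ _ (biprod.hom_ext _ _ ?_ ?_) (biprod.hom_ext _ _ ?_ ?_)
    · simp [f, g, ← ha, hir]
    · simp [f, g, reassoc_of% huv]
    · simp [f, g, hba]
    · simp [f, g, reassoc_of% hb', hir']
  have hfg : f ≫ g = a ≫ i ≫ u + v ≫ r⟦(1 : ℤ)⟧' ≫ b' := by simp [f, g, biprod.lift_desc]
  let δ := 𝟙 K - f ≫ g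
  have hu : u ≫ δ = 0 := by
    simp only [δ, hfg, Preadditive.comp_sub, Category.comp_id, Preadditive.comp_add]
    rw [reassoc_of% huv, zero_comp, add_zero, ← Category.assoc, ← ha, ← Category.assoc, hpu, sub_self]
  have hv : δ ≫ v = 0 := by
    simp only [δ, hfg, Preadditive.sub_comp, Category.id_comp, Preadditive.add_comp, Category.assoc, huv,
      comp_zero, zero_add, hb', hvp, sub_self]
  have hw : ∃ w : P⟦(1 : ℤ)⟧ ⟶ K, δ = v ≫ w := Triangle.yoneda_exact₃ _ hT δ hu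
  obtain ⟨w, hw⟩ := hw
  have hδ : δ ≫ δ = 0 := by
    calc δ ≫ δ = δ ≫ v ≫ w := by rw [← hw]
      _ = 0 := by rw [← Category.assoc, hv, zero_comp]
  have hidem : δ ≫ δ = δ := by
    have h : (f ≫ g) ≫ f ≫ g = f ≫ g := by rw [Category.assoc, reassoc_of% hgf]
    simp only [δ, Preadditive.sub_comp, Preadditive.comp_sub, Category.id_comp, Category.comp_id, h, sub_self,
      sub_zero]
  exact ⟨⟨f, g, (sub_eq_zero.1 (hidem.symm.trans hδ)).symm, hgf⟩⟩

variable {X : Scheme.{u}}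

/-- Pushing from an open preserves supports in closed subsets. -/
theorem suppOn_rpush {U : Scheme.{u}} (j : U ⟶ X) [IsOpenImmersion j] {T : Set X} (hT : IsClosed T)
    {F : DCoh.D U} (hF : SuppOn (j ⁻¹' T) F) : SuppOn T ((DCoh.Rpush j).obj F) := by
  let V : X.Opens := ⟨Tᶜ, hT.isOpen_compl⟩
  obtain ⟨c⟩ := DBC9.nonempty_res_rpush j (j ∣_ V) V.ι (j ⁻¹ᵁ V).ι (isPullback_morphismRestrict j V)
  have h0 : IsZero ((DPerf.resD V.ι).obj ((DCoh.Rpush j).obj F)) :=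
    (DMV.isZero_rpush _ (isZero_resD_of_suppOn (j ⁻¹ᵁ V).ι hF fun w => w.2)).of_iso (c.app F)
  refine suppOn_mono (fun x hx => ?_) (suppOn_of_isZero_resD V.ι h0)
  by_contra hxT
  exact hx ⟨⟨x, hxT⟩, rfl⟩

set_option maxHeartbeats 3200000 in
/-- Lifting a map from a quasi-compact open. -/
theorem exists_roof [IsAffine X] {U : X.Opens} (hU : IsCompact (U : Set X)) {T : Set X} (hT : IsClosed T)
    (hTc : IsCompact Tᶜ) {A B : DCoh.D X} (hA : DCoh.IsPerfect A) (hB : DCoh.IsQCohD B) (hBT : SuppOn T B)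
    (α : (DPerf.resD U.ι).obj A ⟶ (DPerf.resD U.ι).obj B) :
    ∃ (A₁ : DCoh.D X) (β : A₁ ⟶ A) (γ : A₁ ⟶ B), DCoh.IsPerfect A₁ ∧ (SuppOn T A → SuppOn T A₁) ∧
      IsIso ((DPerf.resD U.ι).map β) ∧ (DPerf.resD U.ι).map β ≫ α = (DPerf.resD U.ι).map γ := by
  let adj := adjR U.ι
  let a : A ⟶ (DCoh.Rpush U.ι).obj ((DPerf.resD U.ι).obj B) := adj.homEquiv _ _ α
  obtain ⟨S, δ, ε, hS⟩ := distinguished_cocone_triangle (adj.unit.app B)
  have hR : DCoh.IsQCohD ((DCoh.Rpush U.ι).obj ((DPerf.resD U.ι).obj B)) :=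
    isQCohD_rpushι hU (DQC.isQCohD_resD U.ι hB)
  have hSq : DCoh.IsQCohD S := DPush.isQCohD_obj₃ _ hS hB hR
  haveI := isIso_resD_unit U.ι B
  have hST : SuppOn (T ∩ (U : Set X)ᶜ) S := by
    refine suppOn_inter (suppOn_triangle₃ _ hS hBT (suppOn_rpush U.ι hT (suppOn_resD U.ι hBT))) ?_
    refine suppOn_mono (le_of_eq ?_) (suppOn_of_isZero_resD U.ι (isZero_resD_cone U.ι hS))
    erw [Scheme.Opens.range_ι]
  have hcl : IsClosed (T ∩ (U : Set X)ᶜ) := hT.inter U.2.isClosed_compl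
  have hcp : IsCompact (T ∩ (U : Set X)ᶜ)ᶜ := by
    rw [Set.compl_inter, compl_compl]; exact hTc.union hU
  obtain ⟨C, ι, γ₀, hC, hCq, hCs, hγ₀⟩ :=
    exists_factor_affine hcl hcp (isQCohD_of_isPerfect hA) hA hSq hST (a ≫ δ)
  obtain ⟨A₁, β, ε', hA₁⟩ := distinguished_cocone_triangle₁ ι
  have hC0 : IsZero ((DPerf.resD U.ι).obj C) := isZero_resD_of_suppOn U.ι hCs fun u h => h.2 u.2
  haveI hβ : IsIso ((DPerf.resD U.ι).map β) :=
    (Triangle.isZero₃_iff_isIso₁ _ ((DPerf.resD U.ι).map_distinguished _ hA₁)).1 hC0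
  have hex : ∃ γ : A₁ ⟶ B, β ≫ a = γ ≫ adj.unit.app B := Triangle.coyoneda_exact₂ _ hS (β ≫ a) (by
    show (β ≫ a) ≫ δ = 0
    rw [Category.assoc, ← hγ₀, reassoc_of% (show β ≫ ι = 0 from comp_distTriang_mor_zero₁₂ _ hA₁), zero_comp])
  obtain ⟨γ, hγ⟩ := hex
  refine ⟨A₁, β, γ, isPerfect_obj₁ _ hA₁ hA hC, fun hAT => suppOn_triangle₁ _ hA₁ hAT
    (suppOn_mono Set.inter_subset_left hCs), hβ, (adj.homEquiv _ _).injective ?_⟩
  rw [adj.homEquiv_naturality_left, adj.homEquiv_unit (f := (DPerf.resD U.ι).map γ)]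
  exact hγ.trans (adj.unit.naturality γ)

/-- Every perfect object on a quasi-compact open is a retract of a restricted one. -/
theorem exists_retract [IsAffine X] {U : X.Opens} (hU : IsCompact (U : Set X)) {T : Set X} (hT : IsClosed T)
    (hTc : IsCompact Tᶜ) {F : DCoh.D (U : Scheme.{u})} (hF : DCoh.IsPerfect F) (hFT : SuppOn (U.ι ⁻¹' T) F) :
    ∃ (P : DCoh.D X) (i : F ⟶ (DPerf.resD U.ι).obj P) (r : (DPerf.resD U.ι).obj P ⟶ F),
      DCoh.IsPerfect P ∧ SuppOn T P ∧ i ≫ r = 𝟙 F := by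
  classical
  haveI : CompactSpace U := isCompact_iff_compactSpace.1 hU
  haveI : QuasiSeparatedSpace U := QuasiSeparatedSpace.of_isOpenEmbedding U.ι.isOpenEmbedding
  let e := X.isoSpec
  have hFq := isQCohD_of_isPerfect hF
  let E := (DCoh.Rpush U.ι).obj F
  have hEq : DCoh.IsQCohD E := isQCohD_rpushι hU hFq
  have hET : SuppOn T E := suppOn_rpush U.ι hT hFT
  obtain ⟨M, ⟨iM⟩⟩ := exists_tX_iso e hEq
  obtain ⟨l, hl⟩ := exists_covers e hT hTc
  obtain ⟨gs, hgs⟩ := exists_covers e (T := (U : Set X)ᶜ) U.2.isClosed_compl (by rwa [compl_compl])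
  have hgs' : ∀ x : X, x ∈ U ↔ ∃ g ∈ gs, e.hom x ∈ M1.bo g := fun x => by
    simpa using hgs x
  obtain ⟨m, bm, hvan⟩ := DMV.exists_vanishing_range F hF
  haveI := quasiCompact_ι hU
  obtain ⟨b₀, hb₀⟩ := DPerf.exists_isLE_of_pseudoCoherent (isPseudoCoherentD_of_isPerfect hF 0)
  obtain ⟨N, hN⟩ := DPush.exists_bound U.ι
  have hMle : M.IsLE (b₀ + N) := by
    refine (DerivedCategory.isLE_iff _ _).2 fun q hq => ?_
    have h1 : IsZero (DCoh.HD ((tX e).obj M) q) :=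
      (hN F hFq b₀ hb₀ q (by omega)).of_iso ((DerivedCategory.homologyFunctor X.Modules q).mapIso iM)
    refine DPerf.isZero_of_tilde (IsZero.of_iso ?_ (DPerf.hdTildeIso M q).symm)
    refine DPerf.isZero_of_stalks fun y => ?_
    obtain ⟨x, rfl⟩ := e.hom.homeomorph.surjective y
    exact AddCommGrpCat.subsingleton_of_isZero ((RHom.stalkZero_restrict_iff e.hom x _).1
      (RHom.stalkZero_iso (DPerf.hdResIso e.hom _ q) ((M1.stalkAb x).map_isZero h1)))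
  -- vanishing over `U` from the vanishing away from `V(gs)`
  have hloc : ∀ (Q : DerivedCategory (ModuleCat.{u} _)) (i : ℤ), Loc0 gs Q i →
      IsZero (DCoh.HD ((DPerf.resD U.ι).obj ((tX e).obj Q)) i) := fun Q i hQ => by
    refine (DPerf.isZero_of_stalks fun z => ?_).of_iso (DPerf.hdResIso U.ι _ i)
    refine AddCommGrpCat.subsingleton_of_isZero ((RHom.stalkZero_restrict_iff U.ι z _).2 ?_)
    obtain ⟨g, hg, hzg⟩ := (hgs' _).1 z.2
    refine RHom.stalkZero_iso (DPerf.hdResIso e.hom _ i).symm ((RHom.stalkZero_restrict_iff e.hom (U.ι z) _).2 ?_)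
    exact DMV.stalkZero_of_not_mem_support ((tors_iff_support g Q i).1 (hQ g hg) _ hzg)
  let GU := tX e ⋙ DPerf.resD U.ι
  let eF : GU.obj M ≅ F := (DPerf.resD U.ι).mapIso iM ≪≫ resPushIso U.ι F
  have hfg : ∀ (Q : DerivedCategory (ModuleCat.{u} _)) (e' : M ⟶ Q), Good l (b₀ + N) e' → ∀ k, m ≤ k →
      (∀ i, k < i → Loc0 gs Q i) → ∃ xs : List (pt k ⟶ Q), Gen gs Q xs := by
    intro Q e' hG k _ hk
    obtain ⟨Z, u, v, hZT, hZ, -, -⟩ := hG
    have hQ : DCoh.IsPerfect (GU.obj Q) := isPerfect_obj₂ _ (GU.map_distinguished _ hZT)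
      (isPerfect_of_iso eF.symm hF) (isPerfect_resD U.ι ((isPerfect_tX_iff e Z).2 hZ))
    have hft := DPerf.finiteType_top (isPseudoCoherentD_of_isPerfect hQ k) fun i hi => hloc Q i (hk i hi)
    have hspan : ∀ g ∈ gs, ∃ s : Finset ((DerivedCategory.homologyFunctor (ModuleCat.{u} Γ(X, ⊤)) k).obj Q : Type u),
        ∀ y, ∃ n : ℕ, g ^ n • y ∈ Submodule.span Γ(X, ⊤) (s : Set ((DerivedCategory.homologyFunctor (ModuleCat.{u} Γ(X, ⊤)) k).obj Q : Type u)) := by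
      intro g hg
      refine exists_span_of_isFT _ g ?_
      have hr : Set.range (M1.bo g).ι ⊆ Set.range (U.ι ≫ e.hom) := by
        rintro _ ⟨w, rfl⟩
        obtain ⟨x, hx⟩ := e.hom.homeomorph.surjective ((M1.bo g).ι w)
        refine ⟨⟨x, (hgs' x).2 ⟨g, hg, ?_⟩⟩, ?_⟩
        · rw [show e.hom x = (M1.bo g).ι w from hx]; exact w.2
        · exact hx
      let q := IsOpenImmersion.lift (U.ι ≫ e.hom) (M1.bo g).ι hr
      refine M1.isFT_of_isIso ?_ (M1.isFT_restrict (M1.isFT_of_isIso (DPerf.hdResIso U.ι _ k ≪≫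
        (Scheme.Modules.restrictFunctor U.ι).mapIso (DPerf.hdResIso e.hom _ k ≪≫
          (Scheme.Modules.restrictFunctor e.hom).mapIso (DPerf.hdTildeIso Q k)) ≪≫
        (Scheme.Modules.restrictFunctorComp U.ι e.hom).symm.app _) hft) q)
      exact (Scheme.Modules.restrictFunctorComp q (U.ι ≫ e.hom)).symm.app _ ≪≫
        (Scheme.Modules.restrictFunctorCongr (IsOpenImmersion.lift_fac _ _ hr)).app _
    choose s hs using hspan
    let big := gs.attach.flatMap fun g => ((s g.1 g.2).toList.map (eltEquiv k Q).symm)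
    refine ⟨big, fun g hg y => ?_⟩
    obtain ⟨n, hn⟩ := hs g hg (eltEquiv k Q y)
    refine ⟨n, ?_⟩
    have h2 := Submodule.mem_map_of_mem (f := (eltEquiv k Q).symm.toLinearMap) hn
    rw [Submodule.map_span, LinearEquiv.coe_coe, map_smul, LinearEquiv.symm_apply_apply] at h2
    refine Submodule.span_mono ?_ h2
    rintro _ ⟨z, hz, rfl⟩
    exact List.mem_flatMap.2 ⟨⟨g, hg⟩, List.mem_attach _ _, List.mem_map.2 ⟨z, Finset.mem_toList.2 hz, rfl⟩⟩
  obtain ⟨Q, e', hG, hQ⟩ := exists_approx l gs (E := M) (b₀ + N) m hMle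
    (fun a ha i _ => (suppOn_tX_iff e hl M).1 (suppOn_of_iso iM.symm hET) a ha i) hfg
  obtain ⟨Z, u, v, hZT, hZ, hZs, -⟩ := hG
  have hT' := GU.map_distinguished _ (inv_rot_of_distTriang _ hZT)
  have hQq : DCoh.IsQCohD (GU.obj Q) := DQC.isQCohD_resD U.ι (isQCohD_tX e Q)
  have h0 : eF.inv ≫ GU.map e' = 0 := hvan _ hQq (fun i hi _ => hloc Q i (hQ i hi)) _
  have hex : ∃ i : F ⟶ GU.obj (Triangle.mk e' u v).invRotate.obj₁,
      eF.inv = i ≫ GU.map (Triangle.mk e' u v).invRotate.mor₁ :=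
    Triangle.coyoneda_exact₂ _ hT' eF.inv h0
  obtain ⟨i, hi⟩ := hex
  exact ⟨(tX e).obj (Z⟦(-1 : ℤ)⟧), i, GU.map (Triangle.mk e' u v).invRotate.mor₁ ≫ eF.hom,
    (isPerfect_tX_iff e _).2 (DBaseChange.isPerfect_shift (-1) hZ),
    (suppOn_tX_iff e hl _).2 fun a ha => supp_shift (hZs a ha) (-1),
    by rw [← Category.assoc, ← hi, Iso.inv_hom_id]⟩

/-- Extending `F ⊕ F⟦1⟧`. -/
theorem exists_extension [IsAffine X] {U : X.Opens} (hU : IsCompact (U : Set X)) {T : Set X} (hT : IsClosed T)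
    (hTc : IsCompact Tᶜ) {F : DCoh.D (U : Scheme.{u})} (hF : DCoh.IsPerfect F) (hFT : SuppOn (U.ι ⁻¹' T) F)
    [HasBinaryBiproduct F (F⟦(1 : ℤ)⟧)] :
    ∃ G : DCoh.D X, DCoh.IsPerfect G ∧ SuppOn T G ∧
      Nonempty ((DPerf.resD U.ι).obj G ≅ F ⊞ F⟦(1 : ℤ)⟧) := by
  obtain ⟨P, i, r, hP, hPT, hir⟩ := exists_retract hU hT hTc hF hFT
  obtain ⟨P₁, β, γ, hP₁, hP₁T, hβ, hγ⟩ := exists_roof hU hT hTc hP (isQCohD_of_isPerfect hP) hPT (r ≫ i)
  obtain ⟨G, u, v, hG⟩ := distinguished_cocone_triangle (β - γ)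
  refine ⟨G, isPerfect_obj₃ _ hG hP₁ hP, suppOn_triangle₃ _ hG (hP₁T hPT) hPT, ?_⟩
  let R := DPerf.resD U.ι
  haveI : IsIso (R.map β) := hβ
  refine nonempty_cone_iso i r hir (u := R.map u)
    (v := (R.map v ≫ (R.commShiftIso (1 : ℤ)).hom.app P₁) ≫ (R.map β)⟦(1 : ℤ)⟧') ?_
  refine isomorphic_distinguished _ (R.map_distinguished _ hG) _
    (Triangle.isoMk _ _ (asIso (R.map β)).symm (Iso.refl _) (Iso.refl _) ?_ ?_ ?_)
  · change (𝟙 _ - r ≫ i) ≫ 𝟙 _ = inv (R.map β) ≫ R.map (β - γ)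
    rw [Category.comp_id, Functor.map_sub, ← hγ, Preadditive.comp_sub, IsIso.inv_hom_id, IsIso.inv_hom_id_assoc]
  · change R.map u ≫ 𝟙 _ = 𝟙 _ ≫ R.map u
    simp
  · change ((R.map v ≫ _) ≫ (R.map β)⟦(1 : ℤ)⟧') ≫ (inv (R.map β))⟦(1 : ℤ)⟧' = 𝟙 _ ≫ _
    rw [Category.assoc, ← Functor.map_comp, IsIso.hom_inv_id, CategoryTheory.Functor.map_id, Category.comp_id,
      Category.id_comp]
    rfl

end Groth.Agent.DGen9
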