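import Groth.Agent.Lib.DGen9.Basics
import Groth.Agent.Lib.DGen9.Ext
import Groth.Agent.Lib.DPush9.AffineAcyclic
import Groth.Agent.Lib.ModM1.Local
import Groth.Agent.Lib.QCoh8.Basic
import Mathlib.CategoryTheory.Localization.Adjunction
import Mathlib.CategoryTheory.Abelian.Subcategory

/-! The derived category of quasi-coherent modules of a scheme with affine diagonal. -/

set_option autoImplicit false
set_option linter.unusedSectionVars false
set_option linter.style.haveILetI false
set_option backward.isDefEq.respectTransparency false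
set_option backward.isDefEq.respectTransparency.types false
set_option maxHeartbeats 1600000

universe w₁ w₂ w₃ v₁ v₂ v₃ u₁ u₂ u₃ u

open CategoryTheory CategoryTheory.Limits AlgebraicGeometry Pretriangulated ZeroObject

namespace Groth.Agent.QCD

section General

variable {A : Type u₁} [Category.{v₁} A] [Abelian A] [HasDerivedCategory.{w₁} A]
  {B : Type u₂} [Category.{v₂} B] [Abelian B] [HasDerivedCategory.{w₂} B]
  {C : Type u₃} [Category.{v₃} C] [Abelian C] [HasDerivedCategory.{w₃} C]

/-- An isomorphism of composites of exact functors descends. -/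
noncomputable def compIso (F : A ⥤ B) [F.Additive] [PreservesFiniteLimits F] [PreservesFiniteColimits F]
    (G : B ⥤ C) [G.Additive] [PreservesFiniteLimits G] [PreservesFiniteColimits G]
    (H : A ⥤ C) [H.Additive] [PreservesFiniteLimits H] [PreservesFiniteColimits H] (e : F ⋙ G ≅ H) :
    F.mapDerivedCategory ⋙ G.mapDerivedCategory ≅ H.mapDerivedCategory :=
  letI : Localization.Lifting DerivedCategory.Q (HomologicalComplex.quasiIso A (ComplexShape.up ℤ))
      (F.mapHomologicalComplex (ComplexShape.up ℤ) ⋙ G.mapHomologicalComplex (ComplexShape.up ℤ) ⋙ DerivedCategory.Q)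
      (F.mapDerivedCategory ⋙ G.mapDerivedCategory) :=
    ⟨(Functor.associator _ _ _).symm ≪≫ Functor.isoWhiskerRight F.mapDerivedCategoryFactors _ ≪≫
      Functor.associator _ _ _ ≪≫ Functor.isoWhiskerLeft _ G.mapDerivedCategoryFactors⟩
  Localization.liftNatIso DerivedCategory.Q (HomologicalComplex.quasiIso A (ComplexShape.up ℤ))
    (F.mapHomologicalComplex (ComplexShape.up ℤ) ⋙ G.mapHomologicalComplex (ComplexShape.up ℤ) ⋙ DerivedCategory.Q)
    (H.mapHomologicalComplex (ComplexShape.up ℤ) ⋙ DerivedCategory.Q) _ _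
    ((Functor.associator _ _ _).symm ≪≫ Functor.isoWhiskerRight
      (NatIso.ofComponents (fun K => HomologicalComplex.Hom.isoOfComponents (fun i => e.app (K.X i))
        (fun i j _ => (e.hom.naturality (K.d i j)).symm)) (fun f => by ext i; exact e.hom.naturality (f.f i))) _)

variable {F : A ⥤ B} [F.Additive] [PreservesFiniteLimits F] [PreservesFiniteColimits F]
  {G : B ⥤ A} [G.Additive] [PreservesFiniteLimits G] [PreservesFiniteColimits G] (adj : F ⊣ G)

/-- An adjunction on complexes. -/
noncomputable def cxAdj :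
    F.mapHomologicalComplex (ComplexShape.up ℤ) ⊣ G.mapHomologicalComplex (ComplexShape.up ℤ) :=
  Adjunction.mkOfUnitCounit
    { unit :=
        { app := fun K => { f := fun i => adj.unit.app (K.X i), comm' := fun i j _ => (adj.unit.naturality (K.d i j)).symm }
          naturality := fun K L φ => by ext i; exact adj.unit.naturality (φ.f i) }
      counit :=
        { app := fun K => { f := fun i => adj.counit.app (K.X i), comm' := fun i j _ => (adj.counit.naturality (K.d i j)).symm }
          naturality := fun K L φ => by ext i; exact adj.counit.naturality (φ.f i) }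
      left_triangle := by
        ext K i
        simp
        exact adj.left_triangle_components (K.X i)
      right_triangle := by
        ext K i
        simp
        exact adj.right_triangle_components (K.X i) }

/-- An adjunction between exact functors descends. -/
noncomputable def adjD : F.mapDerivedCategory ⊣ G.mapDerivedCategory :=
  letI : CatCommSq (F.mapHomologicalComplex (ComplexShape.up ℤ)) DerivedCategory.Q DerivedCategory.Q F.mapDerivedCategory :=
    ⟨F.mapDerivedCategoryFactors.symm⟩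
  letI : CatCommSq (G.mapHomologicalComplex (ComplexShape.up ℤ)) DerivedCategory.Q DerivedCategory.Q G.mapDerivedCategory :=
    ⟨G.mapDerivedCategoryFactors.symm⟩
  (cxAdj adj).localization DerivedCategory.Q (HomologicalComplex.quasiIso A (ComplexShape.up ℤ))
    DerivedCategory.Q (HomologicalComplex.quasiIso B (ComplexShape.up ℤ)) F.mapDerivedCategory G.mapDerivedCategory

theorem isIso_counit [IsIso adj.counit] (M : DerivedCategory B) : IsIso ((adjD adj).counit.app M) := by
  obtain ⟨K, ⟨eK⟩⟩ := Functor.EssSurj.mem_essImage (F := (DerivedCategory.Q : CochainComplex B ℤ ⥤ _)) M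
  suffices h : IsIso ((adjD adj).counit.app (DerivedCategory.Q.obj K)) from
    (NatTrans.isIso_app_iff_of_iso _ eK).1 h
  haveI : IsIso ((cxAdj adj).counit.app K) := by
    have : ∀ i, IsIso (((cxAdj adj).counit.app K).f i) := fun i =>
      inferInstanceAs (IsIso (adj.counit.app (K.X i)))
    exact HomologicalComplex.Hom.isIso_of_components _
  simp only [adjD]
  erw [Adjunction.localization_counit_app]
  infer_instance

theorem isIso_unit [IsIso adj.unit] (M : DerivedCategory A) : IsIso ((adjD adj).unit.app M) := by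
  obtain ⟨K, ⟨eK⟩⟩ := Functor.EssSurj.mem_essImage (F := (DerivedCategory.Q : CochainComplex A ℤ ⥤ _)) M
  suffices h : IsIso ((adjD adj).unit.app (DerivedCategory.Q.obj K)) from
    (NatTrans.isIso_app_iff_of_iso _ eK).1 h
  haveI : IsIso ((cxAdj adj).unit.app K) := by
    have : ∀ i, IsIso (((cxAdj adj).unit.app K).f i) := fun i =>
      inferInstanceAs (IsIso (adj.unit.app (K.X i)))
    exact HomologicalComplex.Hom.isIso_of_components _
  simp only [adjD]
  erw [Adjunction.localization_unit_app]
  infer_instance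

end General

attribute [local instance] HasDerivedCategory.standard
attribute [local instance] DBC9.hasRpush

/-- Quasi-coherence as an object property. -/
abbrev qP (X : Scheme.{u}) : ObjectProperty X.Modules := fun M => Coh.IsQCoh M

/-- Quasi-coherent modules. -/
abbrev QC (X : Scheme.{u}) : Type (u + 1) := (qP X).FullSubcategory

variable {X : Scheme.{u}}

instance : (qP X).ContainsZero := QCoh8.containsZero X
instance : (qP X).IsClosedUnderKernels := QCoh8.isClosedUnderKernels X
instance : (qP X).IsClosedUnderCokernels := QCoh8.isClosedUnderCokernels X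
instance : (qP X).IsClosedUnderFiniteProducts := QCoh8.isClosedUnderFiniteProducts X
instance : PreservesFiniteLimits (qP X).ι := QCoh8.preservesFiniteLimits X
instance : PreservesFiniteColimits (qP X).ι :=
  haveI : PreservesColimitsOfSize.{u, u} (qP X).ι := QCoh8.preservesColimits X
  inferInstance

variable (X) in
/-- The comparison `D(QCoh) ⥤ D(O_X)`. -/
noncomputable abbrev Φ : DerivedCategory (QC X) ⥤ DCoh.D X := (qP X).ι.mapDerivedCategory

/-- `N` receives from every object exactly the maps it receives in `D(O_X)`. -/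
def BB (N : DerivedCategory (QC X)) : Prop :=
  ∀ (n : ℤ) (M : DerivedCategory (QC X)), Function.Bijective fun f : M ⟶ N⟦n⟧ => (Φ X).map f

theorem BB.iso {N N' : DerivedCategory (QC X)} (e : N ≅ N') (h : BB N) : BB N' := fun n M => by
  refine ⟨fun f g hfg => ?_, fun g => ?_⟩
  · have h1 : f ≫ e.inv⟦n⟧' = g ≫ e.inv⟦n⟧' := (h n M).1 (by
      dsimp only at hfg ⊢
      rw [Functor.map_comp, Functor.map_comp, hfg])
    exact (cancel_mono (e.inv⟦n⟧')).1 h1
  · obtain ⟨f, hf⟩ := (h n M).2 (g ≫ (Φ X).map (e.inv⟦n⟧'))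
    refine ⟨f ≫ e.hom⟦n⟧', ?_⟩
    dsimp only at hf ⊢
    rw [Functor.map_comp, hf, Category.assoc, ← (Φ X).map_comp, ← Functor.map_comp, e.inv_hom_id,
      CategoryTheory.Functor.map_id, CategoryTheory.Functor.map_id, Category.comp_id]

theorem BB.shift {N : DerivedCategory (QC X)} (h : BB N) (k : ℤ) : BB (N⟦k⟧) := fun n M => by
  let e : N⟦k + n⟧ ≅ (N⟦k⟧)⟦n⟧ := (shiftFunctorAdd (DerivedCategory (QC X)) k n).app N
  refine ⟨fun f g hfg => ?_, fun g => ?_⟩
  · have h1 : f ≫ e.inv = g ≫ e.inv := (h _ M).1 (by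
      dsimp only at hfg ⊢
      rw [Functor.map_comp, Functor.map_comp, hfg])
    exact (cancel_mono e.inv).1 h1
  · obtain ⟨f, hf⟩ := (h _ M).2 (g ≫ (Φ X).map e.inv)
    refine ⟨f ≫ e.hom, ?_⟩
    dsimp only at hf ⊢
    rw [Functor.map_comp, hf, Category.assoc, ← (Φ X).map_comp, e.inv_hom_id, CategoryTheory.Functor.map_id, Category.comp_id]

theorem BB.mid {T : Triangle (DerivedCategory (QC X))} (hT : T ∈ distTriang _) (h₁ : BB T.obj₁)
    (h₃ : BB T.obj₃) : BB T.obj₂ := by
  intro n M
  let S := (Triangle.shiftFunctor (DerivedCategory (QC X)) n).obj T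
  have hS : S ∈ distTriang _ := T.shift_distinguished hT n
  have hA : Function.Bijective fun f : M ⟶ S.obj₁ => (Φ X).map f := h₁ n M
  have hC : Function.Bijective fun f : M ⟶ S.obj₃ => (Φ X).map f := h₃ n M
  have hC' : Function.Bijective fun f : M ⟶ S.invRotate.obj₁ => (Φ X).map f :=
    BB.shift h₃ n (-1) M
  have hA' : Function.Bijective fun f : M ⟶ S.obj₁⟦(1 : ℤ)⟧ => (Φ X).map f := BB.shift h₁ n 1 M
  have hD := (Φ X).map_distinguished _ hS
  have hD' := (Φ X).map_distinguished _ (inv_rot_of_distTriang _ hS)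
  show Function.Bijective fun f : M ⟶ S.obj₂ => (Φ X).map f
  refine ⟨fun f f' hf => ?_, fun g => ?_⟩
  · obtain ⟨d, rfl⟩ : ∃ d, f' + d = f := ⟨f - f', add_sub_cancel _ _⟩
    replace hf : (Φ X).map d = 0 := by simpa using hf
    suffices d = 0 by simp [this]
    have hd : d ≫ S.mor₂ = 0 := hC.1 (by simp [hf])
    obtain ⟨a, ha⟩ := Triangle.coyoneda_exact₂ S hS d hd
    have hex : ∃ c : (Φ X).obj M ⟶ (Φ X).obj S.invRotate.obj₁, (Φ X).map a = c ≫ (Φ X).map S.invRotate.mor₁ := by
      refine Triangle.coyoneda_exact₂ _ hD' ((Φ X).map a) ?_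
      show (Φ X).map a ≫ (Φ X).map S.mor₁ = 0
      rw [← (Φ X).map_comp]
      exact (congrArg (Φ X).map ha.symm).trans hf
    obtain ⟨c, hc⟩ := hex
    obtain ⟨c', rfl⟩ := hC'.2 c
    have hac : a = c' ≫ S.invRotate.mor₁ := hA.1 (by simpa using hc)
    rw [ha, hac, Category.assoc]
    exact (congrArg (c' ≫ ·) (comp_distTriang_mor_zero₁₂ _ (inv_rot_of_distTriang _ hS))).trans comp_zero
  · obtain ⟨c, hc⟩ := hC.2 (g ≫ (Φ X).map S.mor₂)
    dsimp only at hc
    have h0 : c ≫ S.mor₃ = 0 := hA'.1 (by
      dsimp only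
      rw [Functor.map_comp, hc, Category.assoc, ← (Φ X).map_comp, comp_distTriang_mor_zero₂₃ _ hS,
        Functor.map_zero, comp_zero, Functor.map_zero])
    obtain ⟨f₀, hf₀⟩ := Triangle.coyoneda_exact₃ S hS c h0
    have hex : ∃ a : (Φ X).obj M ⟶ (Φ X).obj S.obj₁, g - (Φ X).map f₀ = a ≫ (Φ X).map S.mor₁ := by
      refine Triangle.coyoneda_exact₂ _ hD _ ?_
      show (g - (Φ X).map f₀) ≫ (Φ X).map S.mor₂ = 0
      rw [Preadditive.sub_comp, ← hc, ← (Φ X).map_comp, ← hf₀, sub_self]
    obtain ⟨a, ha⟩ := hex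
    obtain ⟨a', rfl⟩ := hA.2 a
    exact ⟨f₀ + a' ≫ S.mor₁, by simp [← ha]⟩

theorem isZero_of_Φ {M : DerivedCategory (QC X)} (h : IsZero ((Φ X).obj M)) : IsZero M := by
  obtain ⟨K, ⟨eK⟩⟩ := Functor.EssSurj.mem_essImage (F := (DerivedCategory.Q : CochainComplex (QC X) ℤ ⥤ _)) M
  refine IsZero.of_iso ?_ eK.symm
  suffices hz : ∀ i, IsZero (K.homology i) by
    haveI : IsIso (0 : DerivedCategory.Q.obj K ⟶ 0) := (DerivedCategory.isIso_iff _ _).2 fun i =>
      ⟨⟨0, IsZero.eq_of_src ((hz i).of_iso ((DerivedCategory.homologyFunctorFactors (QC X) i).app K)) _ _,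
        IsZero.eq_of_src ((DerivedCategory.homologyFunctor (QC X) i).map_isZero (isZero_zero _)) _ _⟩⟩
    exact (isZero_zero _).of_iso (asIso (0 : DerivedCategory.Q.obj K ⟶ 0))
  intro i
  rw [IsZero.iff_id_eq_zero]
  apply (qP X).ι.map_injective
  refine IsZero.eq_of_src ?_ _ _
  refine IsZero.of_iso ((DerivedCategory.homologyFunctor X.Modules i).map_isZero h) ?_
  exact ((K.sc i).mapHomologyIso (qP X).ι).symm ≪≫ ((DerivedCategory.homologyFunctorFactors X.Modules i).app (((qP X).ι.mapHomologicalComplex (ComplexShape.up ℤ)).obj K)).symm ≪≫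
    (DerivedCategory.homologyFunctor X.Modules i).mapIso ((qP X).ι.mapDerivedCategoryFactors.symm.app K ≪≫ (Φ X).mapIso eK)

theorem isQCohD_Φ (M : DerivedCategory (QC X)) : DCoh.IsQCohD ((Φ X).obj M) := fun i => by
  obtain ⟨K, ⟨eK⟩⟩ := Functor.EssSurj.mem_essImage (F := (DerivedCategory.Q : CochainComplex (QC X) ℤ ⥤ _)) M
  refine M1.isQCoh_of_isIso ?_ (K.homology i).property
  exact ((K.sc i).mapHomologyIso (qP X).ι).symm ≪≫ ((DerivedCategory.homologyFunctorFactors X.Modules i).app (((qP X).ι.mapHomologicalComplex (ComplexShape.up ℤ)).obj K)).symm ≪≫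
    (DerivedCategory.homologyFunctor X.Modules i).mapIso ((qP X).ι.mapDerivedCategoryFactors.symm.app K ≪≫ (Φ X).mapIso eK)

section Push

variable {U : Scheme.{u}} (j : U ⟶ X) [IsOpenImmersion j]

/-- Restriction. -/
noncomputable abbrev resQ : QC X ⥤ QC U :=
  (qP U).lift ((qP X).ι ⋙ Scheme.Modules.restrictFunctor j) fun M => M1.isQCoh_restrict M.property j

instance : PreservesFiniteLimits (resQ j) :=
  haveI : PreservesFiniteLimits (resQ j ⋙ (qP U).ι) :=
    inferInstanceAs (PreservesFiniteLimits ((qP X).ι ⋙ Scheme.Modules.restrictFunctor j))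
  preservesFiniteLimits_of_reflects_of_preserves _ (qP U).ι

instance : PreservesFiniteColimits (resQ j) :=
  haveI : PreservesFiniteColimits (resQ j ⋙ (qP U).ι) :=
    inferInstanceAs (PreservesFiniteColimits ((qP X).ι ⋙ Scheme.Modules.restrictFunctor j))
  preservesFiniteColimits_of_reflects_of_preserves _ (qP U).ι

instance : (resQ j).Additive := ⟨fun {_ _ f g} => (qP U).ι.map_injective
  (((qP X).ι ⋙ Scheme.Modules.restrictFunctor j).map_add (f := f) (g := g))⟩

/-- Restriction commutes with the comparison. -/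
noncomputable def ρ : (resQ j).mapDerivedCategory ⋙ Φ U ≅ Φ X ⋙ DPerf.resD j :=
  compIso (resQ j) (qP U).ι ((qP X).ι ⋙ Scheme.Modules.restrictFunctor j) (Iso.refl _) ≪≫
    (compIso (qP X).ι (Scheme.Modules.restrictFunctor j) _ (Iso.refl _)).symm

variable [IsAffineHom j]

/-- Direct image. -/
noncomputable abbrev pushQ : QC U ⥤ QC X :=
  (qP X).lift ((qP U).ι ⋙ Scheme.Modules.pushforward j) fun M => M1.isQCoh_push j M.property

/-- The adjunction. -/
noncomputable def adjQ : resQ j ⊣ pushQ j :=
  (Scheme.Modules.restrictAdjunction j).restrictFullyFaithful (qP X).fullyFaithfulι (qP U).fullyFaithfulι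
    (Iso.refl _) (Iso.refl _)

instance : (pushQ j).Additive := (adjQ j).right_adjoint_additive

instance : PreservesFiniteLimits (pushQ j) :=
  haveI := (adjQ j).isRightAdjoint
  inferInstance

instance : PreservesFiniteColimits (pushQ j) := by
  haveI : (pushQ j).PreservesEpimorphisms := ⟨fun {A B} g hg => by
    haveI : Epi g.hom := inferInstanceAs (Epi ((qP U).ι.map g))
    haveI : Epi ((Scheme.Modules.pushforward j).map g.hom) := by
      refine (M1.epi_iff_locally_surjective _).2 fun W t x hx => ?_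
      obtain ⟨V, hV, hxV, hVW⟩ := exists_isAffineOpen_mem_and_subset (U := W) (x := x) hx
      obtain ⟨s, hs⟩ := M1.app_surjective_affine_of_isQCoh A.property B.property g.hom (hV.preimage j)
        (((Scheme.Modules.pushforward j).obj B.obj).presheaf.map (homOfLE hVW).op t)
      exact ⟨V, hVW, hxV, s, hs⟩
    exact (qP X).ι.epi_of_epi_map (f := (pushQ j).map g) this⟩
  haveI : ∀ {A B : QC U} (g : A ⟶ B), PreservesLimit (parallelPair g 0) (pushQ j) := fun g => inferInstance
  haveI := Functor.preservesHomology_of_preservesEpis_and_kernels (pushQ j)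
  exact Functor.preservesFiniteColimits_of_preservesHomology _

/-- The derived adjunction. -/
noncomputable def adjS : (resQ j).mapDerivedCategory ⊣ (pushQ j).mapDerivedCategory := adjD (adjQ j)

theorem isIso_counitQ (M : DerivedCategory (QC U)) : IsIso ((adjS j).counit.app M) := by
  haveI : (pushQ j).Full := ⟨fun {A B} g => by
    obtain ⟨h, hh⟩ := (Scheme.Modules.pushforward j).map_surjective ((qP X).ι.map g)
    exact ⟨⟨h⟩, (qP X).ι.map_injective hh⟩⟩
  haveI : (pushQ j).Faithful := ⟨fun {A B} g g' h => by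
    apply (qP U).ι.map_injective
    exact (Scheme.Modules.pushforward j).map_injective (congrArg (qP X).ι.map h)⟩
  haveI := (adjQ j).counit_isIso_of_R_fully_faithful
  exact isIso_counit (adjQ j) M

/-- Pushed objects are derived direct images. -/
theorem nonempty_push_iso (N : DerivedCategory (QC U)) :
    Nonempty ((Φ X).obj ((pushQ j).mapDerivedCategory.obj N) ≅ (DCoh.Rpush j).obj ((Φ U).obj N)) := by
  obtain ⟨K, ⟨eK⟩⟩ := Functor.EssSurj.mem_essImage (F := (DerivedCategory.Q : CochainComplex (QC U) ℤ ⥤ _)) N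
  let F := ((qP U).ι.mapHomologicalComplex (ComplexShape.up ℤ)).obj K
  haveI := DPush9.isIso_βp j F (fun n => (K.X n).property) fun n => DPush9.isAcyclicObj_affine j (K.X n).property
  exact ⟨(Φ X).mapIso ((pushQ j).mapDerivedCategory.mapIso eK.symm ≪≫ (pushQ j).mapDerivedCategoryFactors.app K) ≪≫
    (qP X).ι.mapDerivedCategoryFactors.app _ ≪≫ asIso ((DPush9.βp j).app F) ≪≫
    (DCoh.Rpush j).mapIso (((qP U).ι.mapDerivedCategoryFactors.app K).symm ≪≫ (Φ U).mapIso eK)⟩

theorem bijective_push [Fact (∀ A B : DerivedCategory (QC U), Function.Bijective fun f : A ⟶ B => (Φ U).map f)]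
    (M : DerivedCategory (QC X)) (N : DerivedCategory (QC U)) :
    Function.Bijective fun f : M ⟶ (pushQ j).mapDerivedCategory.obj N => (Φ X).map f := by
  let S := (pushQ j).mapDerivedCategory
  let ε := (adjS j).counit.app N
  haveI : IsIso ε := isIso_counitQ j N
  let adj := DGen9.adjR j
  let θ : (Φ X).obj (S.obj N) ⟶ (DCoh.Rpush j).obj ((Φ U).obj N) :=
    adj.homEquiv _ _ ((ρ j).inv.app (S.obj N) ≫ (Φ U).map ε)
  haveI hθ : IsIso θ := by
    haveI := DGen9.isIso_counit j
    have hu : IsIso (adj.unit.app ((DCoh.Rpush j).obj ((Φ U).obj N))) := by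
      have h := adj.right_triangle_components ((Φ U).obj N)
      haveI : IsIso ((DCoh.Rpush j).map (adj.counit.app ((Φ U).obj N))) := inferInstance
      haveI : IsIso (𝟙 ((DCoh.Rpush j).obj ((Φ U).obj N))) := IsIso.id _
      exact IsIso.of_isIso_fac_right h
    haveI : IsIso (adj.unit.app ((Φ X).obj (S.obj N))) :=
      (NatTrans.isIso_app_iff_of_iso adj.unit (nonempty_push_iso j N).some).2 hu
    show IsIso (adj.homEquiv _ _ _)
    rw [Adjunction.homEquiv_unit]
    exact @IsIso.comp_isIso _ _ _ _ _ _ _ this inferInstance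
  have key : ∀ f : M ⟶ S.obj N, (Φ X).map f ≫ θ =
      adj.homEquiv _ _ ((ρ j).inv.app M ≫ (Φ U).map ((resQ j).mapDerivedCategory.map f ≫ ε)) := fun f => by
    rw [← adj.homEquiv_naturality_left]
    congr 1
    rw [← Category.assoc, Functor.map_comp, ← Category.assoc]
    congr 1
    exact (ρ j).inv.naturality f
  have hb : Function.Bijective fun f : M ⟶ S.obj N => (Φ X).map f ≫ θ := by
    simp only [key]
    have hU : Function.Bijective fun f : (resQ j).mapDerivedCategory.obj M ⟶ N => (Φ U).map f :=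
      (‹Fact (∀ A B : DerivedCategory (QC U), Function.Bijective fun f : A ⟶ B => (Φ U).map f)›).out _ _
    have h2 : Function.Bijective fun f : M ⟶ S.obj N => (resQ j).mapDerivedCategory.map f ≫ ε := by
      have := ((adjS j).homEquiv M N).symm.bijective
      convert this using 2
      exact (Adjunction.homEquiv_counit (adjS j) _ _ _).symm
    exact (adj.homEquiv _ _).bijective.comp (((Iso.homFromEquiv ((ρ j).app M)).bijective.comp hU).comp h2)
  exact Function.Bijective.of_comp_iff' ((asIso θ).homToEquiv).bijective _ |>.1 hb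

end Push

section Affine

variable (X) [IsAffine X]

/-- Module sheaves along the isomorphism with the spectrum. -/
noncomputable def resModEquiv : (Spec Γ(X, ⊤)).Modules ≌ X.Modules :=
  CategoryTheory.Equivalence.mk (Scheme.Modules.restrictFunctor X.isoSpec.hom) (Scheme.Modules.restrictFunctor X.isoSpec.inv)
    (((Scheme.Modules.restrictFunctorComp X.isoSpec.inv X.isoSpec.hom).symm ≪≫
      Scheme.Modules.restrictFunctorCongr X.isoSpec.inv_hom_id ≪≫ Scheme.Modules.restrictFunctorId).symm)
    ((Scheme.Modules.restrictFunctorComp X.isoSpec.hom X.isoSpec.inv).symm ≪≫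
      Scheme.Modules.restrictFunctorCongr X.isoSpec.hom_inv_id ≪≫ Scheme.Modules.restrictFunctorId)

/-- Modules as quasi-coherent sheaves. -/
noncomputable abbrev TQ : ModuleCat.{u} Γ(X, ⊤) ⥤ QC X :=
  (qP X).lift (tilde.functor Γ(X, ⊤) ⋙ Scheme.Modules.restrictFunctor X.isoSpec.hom)
    fun M => M1.isQCoh_restrict (inferInstanceAs ((tilde.functor Γ(X, ⊤)).obj M).IsQuasicoherent) _

instance isEquivalence_TQ : (TQ X).IsEquivalence := by
  haveI : (Scheme.Modules.restrictFunctor X.isoSpec.hom).Full := inferInstanceAs (resModEquiv X).functor.Full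
  haveI : (Scheme.Modules.restrictFunctor X.isoSpec.hom).Faithful := inferInstanceAs (resModEquiv X).functor.Faithful
  haveI : (TQ X).Faithful := ⟨fun {A B} f g h =>
    (tilde.functor Γ(X, ⊤)).map_injective
      ((Scheme.Modules.restrictFunctor X.isoSpec.hom).map_injective (congrArg (qP X).ι.map h))⟩
  haveI : (TQ X).Full := ⟨fun {A B} g => by
    obtain ⟨f, hf⟩ := (tilde.functor Γ(X, ⊤) ⋙ Scheme.Modules.restrictFunctor X.isoSpec.hom).map_surjective ((qP X).ι.map g)
    exact ⟨f, (qP X).ι.map_injective hf⟩⟩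
  haveI : (TQ X).EssSurj := ⟨fun M => by
    let N := (Scheme.Modules.restrictFunctor X.isoSpec.inv).obj M.obj
    have hq : N.IsQuasicoherent := M1.isQCoh_restrict M.property _
    obtain ⟨A, ⟨i⟩⟩ := isIso_fromTildeΓ_iff.1 ((isQuasicoherent_iff_isIso_fromTildeΓ N).1 hq)
    exact ⟨A, ⟨(qP X).isoMk ((Scheme.Modules.restrictFunctor X.isoSpec.hom).mapIso i ≪≫
      (resModEquiv X).counitIso.app M.obj)⟩⟩⟩
  exact { }

theorem bijective_Φ : Fact (∀ A B : DerivedCategory (QC X), Function.Bijective fun f : A ⟶ B => (Φ X).map f) := by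
  refine ⟨fun A B => ?_⟩
  let E := (TQ X).asEquivalence
  haveI : E.functor.Additive := inferInstanceAs (TQ X).Additive
  haveI : E.inverse.Additive := E.toAdjunction.right_adjoint_additive
  haveI : IsIso (adjD E.toAdjunction).unit :=
    @NatIso.isIso_of_isIso_app _ _ _ _ _ _ _ fun M => isIso_unit E.toAdjunction M
  haveI : IsIso (adjD E.toAdjunction).counit :=
    @NatIso.isIso_of_isIso_app _ _ _ _ _ _ _ fun M => isIso_counit E.toAdjunction M
  let TD := E.functor.mapDerivedCategory
  haveI : TD.IsEquivalence := (adjD E.toAdjunction).toEquivalence.isEquivalence_functor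
  let c : TD ⋙ Φ X ≅ DGen9.tX X.isoSpec :=
    compIso E.functor (qP X).ι (tilde.functor Γ(X, ⊤) ⋙ Scheme.Modules.restrictFunctor X.isoSpec.hom) (Iso.refl _) ≪≫
      (compIso (tilde.functor Γ(X, ⊤)) (Scheme.Modules.restrictFunctor X.isoSpec.hom) _ (Iso.refl _)).symm
  have hc : ∀ A' B', Function.Bijective fun f : TD.obj A' ⟶ TD.obj B' => (Φ X).map f := fun A' B' => by
    have h1 : Function.Bijective fun g : A' ⟶ B' => (TD ⋙ Φ X).map g := by
      have h2 : (fun g : A' ⟶ B' => (TD ⋙ Φ X).map g) =
          fun g => c.hom.app A' ≫ (DGen9.tX X.isoSpec).map g ≫ c.inv.app B' := funext fun g => by simp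
      rw [h2]
      exact (Iso.homCongr (c.app A') (c.app B')).symm.bijective.comp (DGen9.bijective_tX X.isoSpec A' B')
    exact (Function.Bijective.of_comp_iff _ (Functor.FullyFaithful.ofFullyFaithful TD).homEquiv.bijective).1 h1
  have h := hc (TD.objPreimage A) (TD.objPreimage B)
  refine ⟨fun f g hfg => ?_, fun g => ?_⟩
  · have h1 : (TD.objObjPreimageIso A).hom ≫ f ≫ (TD.objObjPreimageIso B).inv =
        (TD.objObjPreimageIso A).hom ≫ g ≫ (TD.objObjPreimageIso B).inv := h.1 (by
      dsimp only at hfg ⊢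
      rw [Functor.map_comp, Functor.map_comp, Functor.map_comp, Functor.map_comp, hfg])
    exact (cancel_mono _).1 ((cancel_epi _).1 h1)
  · obtain ⟨f, hf⟩ := h.2 ((Φ X).map (TD.objObjPreimageIso A).hom ≫ g ≫ (Φ X).map (TD.objObjPreimageIso B).inv)
    refine ⟨(TD.objObjPreimageIso A).inv ≫ f ≫ (TD.objObjPreimageIso B).hom, ?_⟩
    dsimp only at hf ⊢
    rw [Functor.map_comp, Functor.map_comp, hf, Category.assoc, Category.assoc, ← (Φ X).map_comp, Iso.inv_hom_id,
      CategoryTheory.Functor.map_id, Category.comp_id, ← (Φ X).map_comp_assoc, Iso.inv_hom_id,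
      CategoryTheory.Functor.map_id, Category.id_comp]

theorem exists_Φ_iso {K : DCoh.D X} (hK : DCoh.IsQCohD K) :
    ∃ N : DerivedCategory (QC X), Nonempty ((Φ X).obj N ≅ K) := by
  obtain ⟨M, ⟨i⟩⟩ := DGen9.exists_tX_iso X.isoSpec hK
  exact ⟨(TQ X).mapDerivedCategory.obj M, ⟨(compIso (TQ X) (qP X).ι
      (tilde.functor Γ(X, ⊤) ⋙ Scheme.Modules.restrictFunctor X.isoSpec.hom) (Iso.refl _) ≪≫
      (compIso (tilde.functor Γ(X, ⊤)) (Scheme.Modules.restrictFunctor X.isoSpec.hom) _ (Iso.refl _)).symm).app M ≪≫ i⟩⟩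

end Affine

section Main

open DGen9

variable [CompactSpace X] (hd : ∀ U V : X.Opens, IsAffineOpen U → IsAffineOpen V → IsAffineOpen (U ⊓ V))

include hd in
theorem isAffineHom_ι {U : X.Opens} (hU : IsAffineOpen U) : IsAffineHom U.ι := ⟨fun V hV => by
  rw [← U.ι.isAffineOpen_iff_of_isOpenImmersion, Scheme.Hom.image_preimage_eq_opensRange_inf, Scheme.Opens.opensRange_ι]
  exact hd U V hU hV⟩

/-- The complement of finitely many opens. -/
def Tc : List X.affineOpens → Set X
  | [] => Set.univ
  | U :: l => Tc l ∩ (U.1 : Set X)ᶜ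

theorem isClosed_Tc : ∀ l : List X.affineOpens, IsClosed (Tc l)
  | [] => isClosed_univ
  | U :: l => (isClosed_Tc l).inter U.1.isOpen.isClosed_compl

include hd in
theorem induction_step (P : DerivedCategory (QC X) → Prop) (T : Set X) (hT : IsClosed T) (U : X.affineOpens)
    (hpush : ∀ (_ : IsAffineHom U.1.ι) (N : DerivedCategory (QC (U.1 : Scheme.{u}))),
      P ((pushQ U.1.ι).mapDerivedCategory.obj N))
    (hext : ∀ S : Triangle (DerivedCategory (QC X)), S ∈ distTriang _ → P S.obj₂ → P S.obj₃ → P S.obj₁)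
    (ih : ∀ M, SuppOn (T ∩ (U.1 : Set X)ᶜ) ((Φ X).obj M) → P M) (M : DerivedCategory (QC X))
    (hM : SuppOn T ((Φ X).obj M)) : P M := by
  haveI := isAffineHom_ι hd U.2
  let j := U.1.ι
  obtain ⟨C, u, v, hC⟩ := distinguished_cocone_triangle ((adjS j).unit.app M)
  refine hext _ hC (hpush inferInstance _) (ih C ?_)
  refine suppOn_inter ?_ ?_
  · refine suppOn_triangle₃ _ ((Φ X).map_distinguished _ hC) hM ?_
    refine suppOn_of_iso (nonempty_push_iso j _).some.symm (suppOn_rpush j hT ?_)
    exact suppOn_of_iso ((ρ j).app M).symm (suppOn_resD j hM)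
  · refine suppOn_mono (le_of_eq ?_) (suppOn_of_isZero_resD j ?_)
    · erw [Scheme.Opens.range_ι]
    · have h0 : IsZero ((resQ j).mapDerivedCategory.obj C) := by
        refine (Triangle.isZero₃_iff_isIso₁ _ ((resQ j).mapDerivedCategory.map_distinguished _ hC)).2 ?_
        have h := (adjS j).left_triangle_components M
        haveI := isIso_counitQ j ((resQ j).mapDerivedCategory.obj M)
        haveI : IsIso (𝟙 ((resQ j).mapDerivedCategory.obj M)) := IsIso.id _
        exact IsIso.of_isIso_fac_right h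
      exact ((Φ (U.1 : Scheme.{u})).map_isZero h0).of_iso ((ρ j).app C).symm

theorem exists_cover_list : ∃ l : List X.affineOpens, Tc l = ∅ := by
  classical
  obtain ⟨s, hs⟩ := isCompact_univ.elim_finite_subcover (fun U : X.affineOpens => ((U.1 : X.Opens) : Set X))
    (fun U => U.1.2) (fun x _ => by
      obtain ⟨U, hU, hxU, -⟩ := exists_isAffineOpen_mem_and_subset (U := (⊤ : X.Opens)) (x := x) trivial
      exact Set.mem_iUnion.2 ⟨⟨U, hU⟩, hxU⟩)
  refine ⟨s.toList, Set.eq_empty_iff_forall_notMem.2 fun x hx => ?_⟩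
  obtain ⟨U, hU, hxU⟩ := Set.mem_iUnion₂.1 (hs (Set.mem_univ x))
  have key : ∀ l : List X.affineOpens, x ∈ Tc l → U ∈ l → x ∉ (U.1 : Set X) := by
    intro l
    induction l with
    | nil => intro _ h; simp at h
    | cons V l ih =>
      intro h hm
      rcases List.mem_cons.1 hm with rfl | hm
      · exact h.2
      · exact ih h.1 hm
  exact key _ hx (Finset.mem_toList.2 hU) hxU

include hd in
theorem bb_all (M : DerivedCategory (QC X)) : BB M := by
  have key : ∀ l : List X.affineOpens, (∀ M : DerivedCategory (QC X), SuppOn (Tc l) ((Φ X).obj M) → BB M) → ∀ M : DerivedCategory (QC X), BB M := by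
    intro l
    induction l with
    | nil => exact fun h M => h M (suppOn_univ _)
    | cons U l ih =>
      intro h
      refine ih fun M hM => induction_step hd BB (Tc l) (isClosed_Tc l) U (fun _ N n M' => ?_)
        (fun S hS h₂ h₃ => ?_) h M hM
      · haveI : IsAffine (U.1 : Scheme.{u}) := U.2
        haveI := bijective_Φ (U.1 : Scheme.{u})
        let e := ((pushQ U.1.ι).mapDerivedCategory.commShiftIso n).app N
        have h1 := bijective_push U.1.ι M' (N⟦n⟧)
        refine ⟨fun f g hfg => ?_, fun g => ?_⟩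
        · have h2 : f ≫ e.inv = g ≫ e.inv := h1.1 (by
            dsimp only at hfg ⊢
            rw [Functor.map_comp, Functor.map_comp, hfg])
          exact (cancel_mono e.inv).1 h2
        · obtain ⟨f, hf⟩ := h1.2 (g ≫ (Φ X).map e.inv)
          refine ⟨f ≫ e.hom, ?_⟩
          dsimp only at hf ⊢
          rw [Functor.map_comp, hf, Category.assoc, ← (Φ X).map_comp, e.inv_hom_id]
          erw [CategoryTheory.Functor.map_id, Category.comp_id]
      · exact BB.mid (inv_rot_of_distTriang _ hS) (BB.shift h₃ (-1)) h₂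
  obtain ⟨l, hl⟩ := exists_cover_list (X := X)
  refine key l (fun M hM n M' => ?_) M
  have h0 : IsZero ((Φ X).obj M) := DMV.isZero_of_hd fun i => DPerf.isZero_of_stalks fun x =>
    AddCommGrpCat.subsingleton_of_isZero (stalkZero_of_suppOn hM (by rw [hl]; exact id) i)
  have h1 : IsZero (M⟦n⟧) := (shiftFunctor _ n).map_isZero (isZero_of_Φ h0)
  exact ⟨fun f g _ => h1.eq_of_tgt f g, fun g => ⟨0, ((Φ X).map_isZero h1).eq_of_tgt _ _⟩⟩

include hd in
theorem bijective_Φ_map (M N : DerivedCategory (QC X)) : Function.Bijective fun f : M ⟶ N => (Φ X).map f := by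
  have h := (bb_all hd N).iso (Iso.refl N) 0 M
  let e := (shiftFunctorZero (DerivedCategory (QC X)) ℤ).app N
  refine ⟨fun f g hfg => ?_, fun g => ?_⟩
  · exact (cancel_mono e.inv).1 (h.1 (show (Φ X).map (f ≫ e.inv) = (Φ X).map (g ≫ e.inv) by
      dsimp only at hfg
      rw [Functor.map_comp, Functor.map_comp, hfg]))
  · obtain ⟨f, hf⟩ := h.2 (g ≫ (Φ X).map e.inv)
    refine ⟨f ≫ e.hom, ?_⟩
    dsimp only at hf ⊢
    rw [Functor.map_comp, hf, Category.assoc, ← (Φ X).map_comp, e.inv_hom_id]
    erw [CategoryTheory.Functor.map_id, Category.comp_id]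

include hd in
theorem exists_Φ_iso_of_affine_diagonal {K : DCoh.D X} (hK : DCoh.IsQCohD K) :
    ∃ N : DerivedCategory (QC X), Nonempty ((Φ X).obj N ≅ K) := by
  have key : ∀ l : List X.affineOpens, (∀ K : DCoh.D X, DCoh.IsQCohD K → SuppOn (Tc l) K →
      ∃ N, Nonempty ((Φ X).obj N ≅ K)) → ∀ K : DCoh.D X, DCoh.IsQCohD K → ∃ N, Nonempty ((Φ X).obj N ≅ K) := by
    intro l
    induction l with
    | nil => exact fun h K hK => h K hK (suppOn_univ _)
    | cons U l ih =>
      intro h
      refine ih fun K hK hKT => ?_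
      haveI := isAffineHom_ι hd U.2
      haveI : IsAffine (U.1 : Scheme.{u}) := U.2
      let j := U.1.ι
      let adj := DGen9.adjR j
      obtain ⟨C, u, v, hC⟩ := distinguished_cocone_triangle (adj.unit.app K)
      have hR : DCoh.IsQCohD ((DPerf.resD j).obj K) := DQC.isQCohD_resD j hK
      obtain ⟨NU, ⟨eU⟩⟩ := exists_Φ_iso (U.1 : Scheme.{u}) hR
      let S := (pushQ j).mapDerivedCategory.obj NU
      let eS : (Φ X).obj S ≅ (DCoh.Rpush j).obj ((DPerf.resD j).obj K) :=
        (nonempty_push_iso j NU).some ≪≫ (DCoh.Rpush j).mapIso eU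
      have hCq : DCoh.IsQCohD C := DPush.isQCohD_obj₃ _ hC hK (DQC.isQCohD_of_iso eS (isQCohD_Φ S))
      haveI := isIso_resD_unit j K
      have hCs : SuppOn (Tc (U :: l)) C := by
        refine suppOn_inter (suppOn_triangle₃ _ hC hKT (suppOn_rpush j (isClosed_Tc l) (suppOn_resD j hKT))) ?_
        refine suppOn_mono (le_of_eq ?_) (suppOn_of_isZero_resD j (isZero_resD_cone j hC))
        erw [Scheme.Opens.range_ι]
      obtain ⟨C', ⟨eC⟩⟩ := h C hCq hCs
      obtain ⟨g, hg⟩ := (bijective_Φ_map hd S C').2 (eS.hom ≫ u ≫ eC.inv)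
      dsimp only at hg
      obtain ⟨K', a, b, hK'⟩ := distinguished_cocone_triangle₁ g
      have hT₂ := rot_of_distTriang _ ((Φ X).map_distinguished _ hK')
      have hT₁ := rot_of_distTriang _ hC
      let eT := isoTriangleOfIso₁₂ _ _ hT₂ hT₁ eS eC (by
        change (Φ X).map g ≫ eC.hom = eS.hom ≫ u
        rw [hg]; simp)
      exact ⟨K', ⟨(shiftFunctor (DCoh.D X) (1 : ℤ)).preimageIso (Triangle.π₃.mapIso eT)⟩⟩
  obtain ⟨l, hl⟩ := exists_cover_list (X := X)
  refine key l (fun K' _ hK' => ⟨0, ⟨((Φ X).map_isZero (isZero_zero _)).iso ?_⟩⟩) K hK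
  exact DMV.isZero_of_hd fun i => DPerf.isZero_of_stalks fun x =>
    AddCommGrpCat.subsingleton_of_isZero (stalkZero_of_suppOn hK' (by rw [hl]; exact id) i)

end Main

end Groth.Agent.QCD
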