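import Groth.Agent.Lib.DGen9.Split
import Groth.Agent.Lib.CohFound.FTSubVan
import Groth.Agent.Lib.ModM1.Coh
import Groth.Agent.Lib.DPerf.Noeth
import Groth.Prelude.Def_PerfAux
import Mathlib.Algebra.Homology.HomotopyCategory.DegreewiseSplit

/-! Strictly perfect resolutions of bounded below quasi-coherent complexes, under the resolution property. -/

set_option autoImplicit false
set_option linter.unusedSectionVars false
set_option linter.style.haveILetI false
set_option backward.isDefEq.respectTransparency false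
set_option backward.isDefEq.respectTransparency.types false
set_option maxHeartbeats 1600000

universe u

open CategoryTheory CategoryTheory.Limits AlgebraicGeometry Pretriangulated
open CochainComplex.HomComplex

attribute [local instance] HasDerivedCategory.standard

namespace Groth.Agent.DGen9

variable {X : Scheme.{u}}

/-- Covering a finite type quotient by a finite locally free module. -/
theorem exists_flf_epi [CompactSpace X] [QuasiSeparatedSpace X] (hX : PerfAux.HasResolutionProperty X)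
    {M H : X.Modules} (hM : Coh.IsQCoh M) (hHq : Coh.IsQCoh H) (hH : CohB1.IsFT H) (q : M ⟶ H) [Epi q] :
    ∃ (P : X.Modules) (g : P ⟶ M), FlatMod.IsFinLocFree P ∧ Epi (g ≫ q) := by
  classical
  obtain ⟨s, hs⟩ := isCompact_univ.elim_finite_subcover (fun U : X.affineOpens => ((U.1 : X.Opens) : Set X))
    (fun U => U.1.2) (fun x _ => by
      obtain ⟨U, hU, hxU, -⟩ := exists_isAffineOpen_mem_and_subset (U := (⊤ : X.Opens)) (x := x) trivial
      exact Set.mem_iUnion.2 ⟨⟨U, hU⟩, hxU⟩)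
  haveI : ∀ U : X.affineOpens, Module.Finite Γ(X, U.1) Γ(H, U.1) := fun U => M1.finite_sections hHq hH U.2
  choose n gen hgen using fun U : X.affineOpens =>
    Submodule.fg_iff_exists_fin_generating_family.1
      (Module.Finite.fg_top (R := Γ(X, U.1)) (M := Γ(H, U.1)))
  choose lift hlift using fun (U : X.affineOpens) (j : Fin (n U)) =>
    M1.app_surjective_affine_of_isQCoh hM hHq q U.2 (gen U j)
  let κ : Type u := Σ U : ↥s, ULift.{u} (Fin (n U.1))
  obtain ⟨p, hpq, hpf, hp⟩ := CohFound.exists_ft_sub_mem hM (κ := κ) (fun k => k.1.1.1)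
    (fun k => k.1.1.2.isCompact) (fun k => lift k.1.1 k.2.down)
  obtain ⟨P, π, hP, hπ⟩ := hX p.P hpq hpf
  refine ⟨P, π ≫ p.i, hP, ?_⟩
  rw [Category.assoc]
  refine @epi_comp _ _ _ _ _ _ hπ _ ((M1.epi_iff_stalk _).2 fun x b => ?_)
  change H.presheaf.stalk x at b
  obtain ⟨A, hAs, hxA⟩ := Set.mem_iUnion₂.1 (hs (Set.mem_univ x))
  haveI := hHq
  letI := M1.stalkModule H hxA
  haveI := M1.isLocalizedModule_germ H A.2 hxA
  obtain ⟨⟨h, r⟩, hr⟩ := IsLocalizedModule.surj (A.2.primeIdealOf ⟨x, hxA⟩).asIdeal.primeCompl (M1.germₗ H hxA) b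
  have hmem : ∃ a, (p.i ≫ q).app A.1 a = h := by
    suffices hN : ⊤ ≤ Submodule.span Γ(X, A.1) (Set.range (gen A)) ∧
        ∀ y ∈ Submodule.span Γ(X, A.1) (Set.range (gen A)), ∃ m, p.mem A.1 m ∧ q.app A.1 m = y by
      obtain ⟨m, ⟨a, ha⟩, hm⟩ := hN.2 h (hN.1 trivial)
      exact ⟨a, by rw [M1.comp_app_apply, ha, hm]⟩
    refine ⟨(hgen A).ge, fun y hy => ?_⟩
    induction hy using Submodule.span_induction with
    | mem y hy =>
      obtain ⟨j, rfl⟩ := hy
      exact ⟨lift A j, hp ⟨⟨A, hAs⟩, ULift.up j⟩, hlift A j⟩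
    | zero => exact ⟨0, p.mem_zero _, map_zero _⟩
    | add y z _ _ h₁ h₂ =>
      obtain ⟨m, hm, rfl⟩ := h₁
      obtain ⟨m', hm', rfl⟩ := h₂
      exact ⟨m + m', p.mem_add hm hm', map_add _ _ _⟩
    | smul c y _ h₁ =>
      obtain ⟨m, hm, rfl⟩ := h₁
      exact ⟨c • m, p.mem_smul c hm, Scheme.Modules.Hom.app_smul _ _ _⟩
  obtain ⟨a, ha⟩ := hmem
  obtain ⟨w, hw⟩ := (M1.isUnit_germ_iff A.2 hxA r.1).mpr r.2
  obtain ⟨W, hxW, c, hc⟩ := X.presheaf.exists_germ_eq (↑w⁻¹ : X.presheaf.stalk x)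
  let O := A.1 ⊓ W
  have hxO : x ∈ O := ⟨hxA, hxW⟩
  refine ⟨(p.P).presheaf.germ O x hxO (X.presheaf.map (homOfLE (show O ≤ W from inf_le_right)).op c • M1.mres p.P (show O ≤ A.1 from inf_le_left) a), ?_⟩
  rw [M1.germ_naturality, Scheme.Modules.Hom.app_smul, M1.app_mres, ha, M1.germ_smul, M1.germ_mres]
  have hr' : X.presheaf.germ A.1 x hxA r.1 • b = H.presheaf.germ A.1 x hxA h := hr
  rw [← hr', ← hw, show X.presheaf.germ O x hxO (X.presheaf.map (homOfLE (show O ≤ W from inf_le_right)).op c) = (↑w⁻¹ : X.presheaf.stalk x) from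
    (X.presheaf.germ_res_apply (homOfLE (show O ≤ W from inf_le_right)) x hxO c).trans hc,
    ← mul_smul, Units.inv_mul, one_smul]

/-- A degreewise split extension of a finite locally free complex, exact from degree `k` on. -/
def Res (F : CochainComplex X.Modules ℤ) (k : ℤ) : Prop :=
  ∃ (C S : CochainComplex X.Modules ℤ) (f : F ⟶ C) (g : C ⟶ S) (w : f ≫ g = 0),
    (∀ i, Nonempty ((ShortComplex.mk f g w).map (HomologicalComplex.eval _ _ i)).Splitting) ∧
    DCoh.IsStrictlyPerfect S ∧ (∀ i, i < k - 1 → IsZero (S.X i)) ∧ ∀ i, k ≤ i → C.ExactAt i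

theorem isQCoh_middle {F C S : CochainComplex X.Modules ℤ} {f : F ⟶ C} {g : C ⟶ S} {w : f ≫ g = 0} {i : ℤ}
    (σ : ((ShortComplex.mk f g w).map (HomologicalComplex.eval _ _ i)).Splitting)
    (hF : Coh.IsQCoh (F.X i)) (hS : FlatMod.IsFinLocFree (S.X i)) : Coh.IsQCoh (C.X i) :=
  M1.isQCoh_of_shortExact σ.shortExact hF (M2.isQCoh_of_isFinLocFree hS)

theorem isQCoh_cycles {E : CochainComplex X.Modules ℤ} (hE : ∀ i, Coh.IsQCoh (E.X i)) (i : ℤ) :
    Coh.IsQCoh (E.cycles i) := M1.isQCoh_of_isIso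
  ((kernelIsKernel (E.d i (i + 1))).conePointUniqueUpToIso (E.cyclesIsKernel i (i + 1) (by simp)))
  (M1.isQCoh_kernel (hE _) (hE _) _)

/-- The map from a single module given by cycles. -/
noncomputable def cyclesHom {E : CochainComplex X.Modules ℤ} (k : ℤ) {P : X.Modules} (g : P ⟶ E.cycles k) :
    (HomologicalComplex.single X.Modules (ComplexShape.up ℤ) k).obj P ⟶ E :=
  HomologicalComplex.mkHomFromSingle (g ≫ E.iCycles k) (fun j _ => by
    rw [Category.assoc, HomologicalComplex.iCycles_d, comp_zero])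

theorem homologyMap_cyclesHom {E : CochainComplex X.Modules ℤ} (k : ℤ) {P : X.Modules} (g : P ⟶ E.cycles k) :
    (HomologicalComplex.singleObjHomologySelfIso (ComplexShape.up ℤ) k P).inv ≫
      HomologicalComplex.homologyMap (cyclesHom k g) k = g ≫ E.homologyπ k := by
  have h : (HomologicalComplex.singleObjCyclesSelfIso (ComplexShape.up ℤ) k P).inv ≫
      HomologicalComplex.cyclesMap (cyclesHom k g) k = g := by
    rw [← cancel_mono (E.iCycles k), Category.assoc, HomologicalComplex.cyclesMap_i, ← Category.assoc,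
      HomologicalComplex.singleObjCyclesSelfIso_inv_iCycles, cyclesHom, HomologicalComplex.mkHomFromSingle_f]
    simp
  conv_rhs => rw [← h]
  rw [Category.assoc, ← HomologicalComplex.homologyπ_naturality, ← Category.assoc]
  congr 1

/-- Coning off a single module. -/
theorem res_attach {F : CochainComplex X.Modules ℤ} {k : ℤ} {C S : CochainComplex X.Modules ℤ} (f : F ⟶ C)
    (g : C ⟶ S) (w : f ≫ g = 0)
    (hσ : ∀ i, Nonempty ((ShortComplex.mk f g w).map (HomologicalComplex.eval _ _ i)).Splitting)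
    (hS : DCoh.IsStrictlyPerfect S) (hS' : ∀ i, i < k → IsZero (S.X i)) {P : X.Modules}
    (hP : FlatMod.IsFinLocFree P) (ψ : (HomologicalComplex.single X.Modules (ComplexShape.up ℤ) k).obj P ⟶ C)
    {m : ℤ} (hex : ∀ i, m ≤ i → (CochainComplex.mappingCone ψ).ExactAt i) :
    ∃ (C' S' : CochainComplex X.Modules ℤ) (f' : F ⟶ C') (g' : C' ⟶ S') (w' : f' ≫ g' = 0),
      (∀ i, Nonempty ((ShortComplex.mk f' g' w').map (HomologicalComplex.eval _ _ i)).Splitting) ∧
      DCoh.IsStrictlyPerfect S' ∧ (∀ i, i < k - 1 → IsZero (S'.X i)) ∧ ∀ i, m ≤ i → C'.ExactAt i := by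
  let G : CochainComplex.mappingCone ψ ⟶ CochainComplex.mappingCone (ψ ≫ g) :=
    CochainComplex.mappingCone.desc ψ (CochainComplex.mappingCone.inl (ψ ≫ g))
      (g ≫ CochainComplex.mappingCone.inr (ψ ≫ g)) (by simp)
  have hw : (f ≫ CochainComplex.mappingCone.inr ψ) ≫ G = 0 := by
    rw [Category.assoc, CochainComplex.mappingCone.inr_desc, reassoc_of% w, zero_comp]
  obtain ⟨⟨c, d, hv⟩, hflf⟩ := hS
  refine ⟨CochainComplex.mappingCone ψ, CochainComplex.mappingCone (ψ ≫ g),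
    f ≫ CochainComplex.mappingCone.inr ψ, G, hw, fun i => ?_, ⟨⟨min c (k - 1), max d k, fun i hi => ?_⟩, fun i => ?_⟩,
    fun i hi => ?_, hex⟩
  · obtain ⟨σ⟩ := hσ i
    let r₀ : C.X i ⟶ F.X i := σ.r
    let s₀ : S.X i ⟶ C.X i := σ.s
    have h1 : f.f i ≫ r₀ = 𝟙 _ := σ.f_r
    have h2 : s₀ ≫ g.f i = 𝟙 _ := σ.s_g
    have h3 : r₀ ≫ f.f i + g.f i ≫ s₀ = 𝟙 _ := σ.id
    let r₁ : (CochainComplex.mappingCone ψ).X i ⟶ F.X i :=
      (CochainComplex.mappingCone.snd ψ).v i i (add_zero i) ≫ r₀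
    let s₁ : (CochainComplex.mappingCone (ψ ≫ g)).X i ⟶ (CochainComplex.mappingCone ψ).X i :=
      (CochainComplex.mappingCone.fst (ψ ≫ g)).1.v i (i + 1) rfl ≫
          (CochainComplex.mappingCone.inl ψ).v (i + 1) i (by omega) +
        (CochainComplex.mappingCone.snd (ψ ≫ g)).v i i (add_zero i) ≫ s₀ ≫ (CochainComplex.mappingCone.inr ψ).f i
    have e1 : (f ≫ CochainComplex.mappingCone.inr ψ).f i ≫ r₁ = 𝟙 (F.X i) := by simp [r₁, h1]
    have e2 : s₁ ≫ G.f i = 𝟙 _ := by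
      simp [s₁, G, reassoc_of% h2, CochainComplex.mappingCone.id_X]
    have e3 : r₁ ≫ (f ≫ CochainComplex.mappingCone.inr ψ).f i + G.f i ≫ s₁ = 𝟙 _ := by
      refine (CochainComplex.mappingCone.ext_from_iff ψ (i + 1) i (by omega) _ _).2 ⟨?_, ?_⟩
      · simp [G, r₁, s₁]
      · have h4 := congrArg (fun z => z ≫ (CochainComplex.mappingCone.inr ψ).f i) h3
        simp only [Preadditive.add_comp, Category.assoc, Category.id_comp] at h4
        simpa [G, r₁, s₁] using h4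
    exact ⟨{ r := r₁, s := s₁, f_r := e1, s_g := e2, id := e3 }⟩
  · refine IsZero.of_iso (biprod_isZero_iff _ _ |>.2 ⟨?_, hv i (by omega)⟩)
      (HomologicalComplex.homotopyCofiber.XIsoBiprod (ψ ≫ g) i (i + 1) rfl)
    exact HomologicalComplex.isZero_single_obj_X _ _ _ _ (by omega)
  · refine M2.isFinLocFree_of_iso (HomologicalComplex.homotopyCofiber.XIsoBiprod (ψ ≫ g) i (i + 1) rfl).symm
      (KFlat.Sch.isFinLocFree_biprod ?_ (hflf i))
    by_cases h : i + 1 = k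
    · subst h
      exact M2.isFinLocFree_of_iso (HomologicalComplex.singleObjXSelf _ _ P).symm hP
    · exact KFlat.Sch.isFinLocFree_of_isZero (HomologicalComplex.isZero_single_obj_X _ _ _ _ h)
  · refine IsZero.of_iso (biprod_isZero_iff _ _ |>.2 ⟨?_, hS' i (by omega)⟩)
      (HomologicalComplex.homotopyCofiber.XIsoBiprod (ψ ≫ g) i (i + 1) rfl)
    exact HomologicalComplex.isZero_single_obj_X _ _ _ _ (by omega)

theorem isQuasiIso_hom {F C S : CochainComplex X.Modules ℤ} (f : F ⟶ C) (g : C ⟶ S) (w : f ≫ g = 0)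
    (σ : ∀ i, ((ShortComplex.mk f g w).map (HomologicalComplex.eval _ _ i)).Splitting) :
    ∃ (v : DCoh.toD X (F⟦(1 : ℤ)⟧) ⟶ DCoh.toD X (C⟦(1 : ℤ)⟧)) (t : DCoh.toD X (C⟦(1 : ℤ)⟧) ⟶ (DCoh.toD X S)⟦(1 : ℤ)⟧),
      Triangle.mk (DerivedCategory.Q.map (CochainComplex.homOfDegreewiseSplit _ σ)) v t ∈ distTriang _ := by
  let h := CochainComplex.homOfDegreewiseSplit _ σ
  let e := DerivedCategory.Q.mapIso (CochainComplex.mappingConeHomOfDegreewiseSplitIso _ σ)
  let T := DerivedCategory.Q.mapTriangle.obj (CochainComplex.mappingCone.triangle h)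
  refine ⟨T.mor₂ ≫ e.hom, e.inv ≫ T.mor₃, isomorphic_distinguished _
    (DerivedCategory.mappingCone_triangle_distinguished h) _
    (Triangle.isoMk _ _ (Iso.refl _) (Iso.refl _) e.symm ?_ ?_ ?_)⟩
  · change DerivedCategory.Q.map h ≫ 𝟙 _ = 𝟙 _ ≫ T.mor₁
    exact (Category.comp_id _).trans (Category.id_comp _).symm
  · change (T.mor₂ ≫ e.hom) ≫ e.inv = 𝟙 _ ≫ T.mor₂
    simp
  · change (e.inv ≫ T.mor₃) ≫ (shiftFunctor _ 1).map (𝟙 _) = e.inv ≫ T.mor₃
    simp

/-- The resolution. -/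
theorem exists_strictlyPerfect_qis [CompactSpace X] [QuasiSeparatedSpace X] (hX : PerfAux.HasResolutionProperty X)
    (F : CochainComplex X.Modules ℤ) (a₀ : ℤ) (hFb : ∀ n, n < a₀ → IsZero (F.X n)) (hFq : ∀ n, Coh.IsQCoh (F.X n))
    (hF : DCoh.IsPerfect (DCoh.toD X F)) :
    ∃ (E : CochainComplex X.Modules ℤ) (φ : E ⟶ F), DCoh.IsStrictlyPerfect E ∧ QuasiIso φ := by
  classical
  have hF1 : DCoh.IsPerfect (DCoh.toD X (F⟦(1 : ℤ)⟧)) :=
    isPerfect_of_iso ((DerivedCategory.Q.commShiftIso (1 : ℤ)).app F).symm (isPerfect_shiftD hF 1)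
  choose V a b hxV hab hamp using DPerf.exists_flatAmplitude_of_isPerfect hF1
  obtain ⟨s, hs⟩ := isCompact_univ.elim_finite_subcover (fun x => (V x : Set X)) (fun x => (V x).2)
    (fun x _ => Set.mem_iUnion.2 ⟨x, hxV x⟩)
  obtain ⟨A, hA⟩ := (s.image fun x => -a x).exists_le
  obtain ⟨b₀, hb₀⟩ := DPerf.exists_isLE_of_pseudoCoherent (isPseudoCoherentD_of_isPerfect hF 0)
  obtain ⟨k₀, hk₁, hk₂, hk₃⟩ : ∃ k₀ : ℤ, k₀ ≤ a₀ ∧ k₀ - 1 ≤ -A ∧ k₀ ≤ b₀ + 1 :=
    ⟨min (min a₀ (-A)) (b₀ + 1), by omega, by omega, by omega⟩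
  have hloc : ∀ x : X, ∃ (W : X.Opens) (a b : ℤ), x ∈ W ∧ k₀ - 1 ≤ a ∧
      DCoh.HasFlatAmplitudeIn a b ((DPerf.resD W.ι).obj (DCoh.toD X (F⟦(1 : ℤ)⟧))) := fun x => by
    obtain ⟨y, hys, hy⟩ := Set.mem_iUnion₂.1 (hs (Set.mem_univ x))
    have := hA _ (Finset.mem_image_of_mem (fun x => -a x) hys)
    exact ⟨V y, a y, b y, hy, by omega, hamp y⟩
  have perf : ∀ (C S : CochainComplex X.Modules ℤ) (f : F ⟶ C) (g : C ⟶ S) (w : f ≫ g = 0)
      (σ : ∀ i, ((ShortComplex.mk f g w).map (HomologicalComplex.eval _ _ i)).Splitting),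
      DCoh.IsStrictlyPerfect S → DCoh.IsPerfect (DCoh.toD X C) := fun C S f g w σ hS => by
    obtain ⟨v, t, hT⟩ := isQuasiIso_hom f g w σ
    have hSp : DCoh.IsPerfect (DCoh.toD X S) := DPerf.isPerfect_iff_approx.2 fun x =>
      ⟨X, 𝟙 _, inferInstance, ⟨x, rfl⟩, _, DPerf.isStrictlyPerfect_res (𝟙 X) hS,
        (DPerf.resFac (𝟙 X)).inv.app S, DPerf.dcond_of_isIso _⟩
    refine isPerfect_of_iso ((shiftFunctor (DCoh.D X) (-1 : ℤ)).mapIso
      ((DerivedCategory.Q.commShiftIso (1 : ℤ)).app C) ≪≫ shiftShiftNeg _ (1 : ℤ)) ?_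
    exact isPerfect_shiftD (isPerfect_obj₃ _ hT hSp hF1) (-1)
  have main : ∀ (d : ℕ) (k : ℤ), k = b₀ + 1 - d → k₀ ≤ k → Res F k := by
    intro d
    induction d with
    | zero =>
      intro k hk _
      refine ⟨F, HomologicalComplex.zero, 𝟙 F, 0, comp_zero, fun i => ⟨{
          r := 𝟙 (F.X i), s := 0, f_r := Category.id_comp _, s_g := ?_, id := ?_ }⟩,
        ⟨⟨0, 0, fun i _ => (HomologicalComplex.eval X.Modules (ComplexShape.up ℤ) i).map_isZero HomologicalComplex.isZero_zero⟩, fun i =>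
          KFlat.Sch.isFinLocFree_of_isZero ((HomologicalComplex.eval X.Modules (ComplexShape.up ℤ) i).map_isZero HomologicalComplex.isZero_zero)⟩,
        fun i _ => (HomologicalComplex.eval X.Modules (ComplexShape.up ℤ) i).map_isZero HomologicalComplex.isZero_zero, fun i hi => ?_⟩
      · exact ((HomologicalComplex.eval X.Modules (ComplexShape.up ℤ) i).map_isZero HomologicalComplex.isZero_zero).eq_of_src _ _
      · change 𝟙 (F.X i) ≫ 𝟙 (F.X i) + _ = 𝟙 (F.X i)
        rw [Category.comp_id]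
        exact add_eq_left.2 comp_zero
      · exact (KFlat.Sch.isZero_HD_toD_iff F i).1 (DerivedCategory.isZero_of_isLE _ b₀ i (by omega))
    | succ d ih =>
      intro k hk hkk
      obtain ⟨C, S, f, g, w, hσ, hS, hS', hC⟩ := ih (k + 1) (by omega) (by omega)
      have hCq : ∀ i, Coh.IsQCoh (C.X i) := fun i => isQCoh_middle (hσ i).some (hFq i) (hS.2 i)
      have hCp := perf C S f g w (fun i => (hσ i).some) hS
      have hft : CohB1.IsFT (DCoh.HD (DCoh.toD X C) k) :=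
        DPerf.finiteType_top (isPseudoCoherentD_of_isPerfect hCp k) fun i hi =>
          (KFlat.Sch.isZero_HD_toD_iff C i).2 (hC i (by omega))
      obtain ⟨P, q, hP, hq⟩ := exists_flf_epi hX (isQCoh_cycles hCq k) (DPerf.isQCoh_homology hCq k)
        (M1.isFT_of_isIso ((DerivedCategory.homologyFunctorFactors _ k).app C) hft) (C.homologyπ k)
      refine res_attach f g w hσ hS (fun i hi => hS' i (by omega)) hP (cyclesHom k q)
        (fun i hi => DPerf.exactAt_mappingCone _ k (fun j hj => ?_) ?_ i hi)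
      · exact ⟨⟨0, IsZero.eq_of_src ((HomologicalComplex.exactAt_iff_isZero_homology _ _).1
          (HomologicalComplex.exactAt_single_obj _ _ _ _ (by omega))) _ _,
          IsZero.eq_of_src ((HomologicalComplex.exactAt_iff_isZero_homology _ _).1 (hC j (by omega))) _ _⟩⟩
      · rw [← homologyMap_cyclesHom k q] at hq
        exact @epi_of_epi _ _ _ _ _ _ _ hq
  obtain ⟨C, S, f, g, w, hσ, hS, hS', hC⟩ := main (b₀ + 1 - k₀).toNat k₀ (by omega) le_rfl
  have hCzero : ∀ i, i < k₀ - 1 → IsZero (C.X i) := fun i hi =>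
    (hσ i).some.shortExact.exact.isZero_of_both_zeros ((hFb i (by omega)).eq_of_src _ _)
      ((hS' i (by omega)).eq_of_tgt _ _)
  -- the last step: the lowest cycles are finite locally free
  have hCp := perf C S f g w (fun i => (hσ i).some) hS
  have hlow : C.X (k₀ - 1 - 1) ⟶ C.X (k₀ - 1) := C.d _ _
  obtain ⟨v, t, hT⟩ := isQuasiIso_hom f g w fun i => (hσ i).some
  have hHD : DCoh.HD (DCoh.toD X (C⟦(1 : ℤ)⟧)) (k₀ - 1 - 1) ≅ DCoh.HD (DCoh.toD X C) (k₀ - 1) :=
    (DerivedCategory.homologyFunctor _ (k₀ - 1 - 1)).mapIso ((DerivedCategory.Q.commShiftIso (1 : ℤ)).app C) ≪≫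
      ((DerivedCategory.homologyFunctor X.Modules 0).shiftIso (1 : ℤ) (k₀ - 1 - 1) (k₀ - 1) (by omega)).app _
  have hflat : FlatMod.IsFlat (DCoh.HD (DCoh.toD X C) (k₀ - 1)) := by
    refine (KFlat.Sch.isFlat_iff _).1 (((KFlat.Sch.isFlat_iff (DCoh.HD (DCoh.toD X (C⟦(1 : ℤ)⟧)) (k₀ - 1 - 1))).2 ?_).of_iso hHD.symm)
    refine isFlat_HD_of_triangle (k₀ - 1) S hS hS' _ v t hT
      (fun x => by obtain ⟨W, a', b', hW, ha', h⟩ := hloc x; exact ⟨W, a', b', hW, by omega, h⟩) fun i hi => ?_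
    refine (KFlat.Sch.isZero_HD_toD_iff _ i).2 ?_
    rw [HomologicalComplex.exactAt_iff_isZero_homology]
    exact ((HomologicalComplex.exactAt_iff_isZero_homology _ _).1 (hC (i + 1) (by omega))).of_iso
      (((HomologicalComplex.homologyFunctor X.Modules (ComplexShape.up ℤ) 0).shiftIso (1 : ℤ) i (i + 1) (by omega)).app C)
  have hFP : CohB1.IsFP (DCoh.HD (DCoh.toD X C) (k₀ - 1)) := by
    have h := DPerf.finitePresentation_top (isPseudoCoherentD_of_isPerfect hCp (k₀ - 2))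
      fun i hi => (KFlat.Sch.isZero_HD_toD_iff C i).2 (hC i (by omega))
    rwa [show k₀ - 2 + 1 = k₀ - 1 by ring] at h
  haveI : IsIso (C.homologyπ (k₀ - 1)) :=
    C.isIso_homologyπ (k₀ - 1 - 1) (k₀ - 1) (by simp) ((hCzero _ (by omega)).eq_of_src _ _)
  have hZ : FlatMod.IsFinLocFree (C.cycles (k₀ - 1)) := M2.isFinLocFree_of_iso
    (((DerivedCategory.homologyFunctorFactors _ (k₀ - 1)).app C) ≪≫ (asIso (C.homologyπ (k₀ - 1))).symm)
    ((M1.isFinLocFree_iff _).2 ⟨hFP, fun x => M1.free_stalk_of_flat hFP x (hflat x)⟩)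
  have hψ : IsIso (HomologicalComplex.homologyMap (cyclesHom (E := C) (k₀ - 1) (𝟙 _)) (k₀ - 1)) := by
    have h := homologyMap_cyclesHom (E := C) (k₀ - 1) (𝟙 _)
    rw [Category.id_comp] at h
    exact @IsIso.of_isIso_comp_left _ _ _ _ _ (HomologicalComplex.singleObjHomologySelfIso (ComplexShape.up ℤ) (k₀ - 1) _).inv _
      inferInstance (h ▸ inferInstance)
  obtain ⟨C', S', f', g', w', hσ', hS'', hS''', hC'⟩ := res_attach f g w hσ hS (fun i hi => hS' i hi) hZ
    (cyclesHom (E := C) (k₀ - 1) (𝟙 _)) (m := k₀ - 2) (fun i hi => by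
      have hzC : ∀ j, j < k₀ - 1 → IsZero (C.homology j) := fun j hj =>
        (HomologicalComplex.exactAt_iff_isZero_homology _ _).1 (ShortComplex.exact_of_isZero_X₂ _ (hCzero j hj))
      refine DPerf.exactAt_mappingCone _ (k₀ - 2) (fun j hj => ?_) ⟨fun _ _ _ => (hzC _ (by omega)).eq_of_src _ _⟩ i hi
      rcases eq_or_lt_of_le (show k₀ - 1 ≤ j by omega) with rfl | hj'
      · exact hψ
      · exact ⟨⟨0, IsZero.eq_of_src ((HomologicalComplex.exactAt_iff_isZero_homology _ _).1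
          (HomologicalComplex.exactAt_single_obj _ _ _ _ (by omega))) _ _,
          IsZero.eq_of_src ((HomologicalComplex.exactAt_iff_isZero_homology _ _).1 (hC j (by omega))) _ _⟩⟩)
  have hexC : ∀ i, C'.ExactAt i := fun i => by
    by_cases hi : k₀ - 2 ≤ i
    · exact hC' i hi
    · refine ShortComplex.exact_of_isZero_X₂ _ ((hσ' i).some.shortExact.exact.isZero_of_both_zeros
        ((hFb i (by omega)).eq_of_src _ _) (IsZero.eq_of_tgt ?_ _ _))
      exact hS''' i (by omega)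
  obtain ⟨v', t', hT'⟩ := isQuasiIso_hom f' g' w' fun i => (hσ' i).some
  let h := CochainComplex.homOfDegreewiseSplit (ShortComplex.mk f' g' w') fun i => (hσ' i).some
  have hz : IsZero (DCoh.toD X (C'⟦(1 : ℤ)⟧)) := by
    refine IsZero.of_iso ?_ ((DerivedCategory.Q.commShiftIso (1 : ℤ)).app C')
    exact (shiftFunctor (DCoh.D X) (1 : ℤ)).map_isZero
      (DMV.isZero_of_hd fun i => (KFlat.Sch.isZero_HD_toD_iff C' i).2 (hexC i))
  haveI : IsIso (DerivedCategory.Q.map h) :=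
    (Triangle.isZero₃_iff_isIso₁ _ hT').1 hz
  obtain ⟨⟨c, d, hv⟩, hflf⟩ := hS''
  refine ⟨S'⟦(-1 : ℤ)⟧, h⟦(-1 : ℤ)⟧' ≫ (shiftFunctorCompIsoId (CochainComplex X.Modules ℤ) (1 : ℤ) (-1) (by omega)).hom.app F,
    ⟨⟨c + 1, d + 1, fun i hi => hv (i + -1) (by omega)⟩, fun i => hflf (i + -1)⟩, ?_⟩
  rw [← DerivedCategory.isIso_Q_map_iff_quasiIso, Functor.map_comp]
  haveI : IsIso (DerivedCategory.Q.map (h⟦(-1 : ℤ)⟧')) :=
    ((MorphismProperty.isomorphisms _).arrow_mk_iso_iff (Arrow.isoMk ((DerivedCategory.Q.commShiftIso (-1 : ℤ)).app _)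
      ((DerivedCategory.Q.commShiftIso (-1 : ℤ)).app _) ((DerivedCategory.Q.commShiftIso (-1 : ℤ)).hom.naturality h).symm)).2
      (inferInstanceAs (IsIso ((shiftFunctor (DCoh.D X) (-1 : ℤ)).map (DerivedCategory.Q.map h))))
  infer_instance

end Groth.Agent.DGen9
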