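import Groth.Agent.Lib.DGen9.ResDiag
import Groth.Agent.Lib.DGen9.ResProp
import Groth.Agent.Lib.DGen9.QCD
import Groth.Agent.Lib.DPerf.Approx
import Groth.Agent.Lib.ModM1.FibreProd
import Mathlib.Algebra.Homology.DerivedCategory.Fractions
import Mathlib.Algebra.Homology.DerivedCategory.TStructure
import Mathlib.Algebra.Homology.HomologicalComplexBiprod

/-! Perfect complexes, morphisms and homotopies under the resolution property. -/

set_option autoImplicit false
set_option linter.unusedSectionVars false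
set_option linter.style.haveILetI false
set_option backward.isDefEq.respectTransparency false
set_option backward.isDefEq.respectTransparency.types false
set_option maxHeartbeats 1600000

universe u

open CategoryTheory CategoryTheory.Limits AlgebraicGeometry Pretriangulated

attribute [local instance] HasDerivedCategory.standard

namespace Groth.Agent.DGen9.ResP

variable {X : Scheme.{u}}

/-- The localization functor to `D(O_X)`. -/
noncomputable abbrev Qd {X : Scheme.{u}} : CochainComplex X.Modules ℤ ⥤ DCoh.D X := DerivedCategory.Q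

/-- A shifted distinguished triangle whose first map has a section and split kernel. -/
theorem isIso_mor₃_comp {C : Type*} [Category C] [Preadditive C] [HasZeroObject C] [HasShift C ℤ]
    [∀ n : ℤ, (shiftFunctor C n).Additive] [Pretriangulated C]
    {T : Triangle C} (hT : T ∈ distTriang C) {A : C} (f : T.obj₁ ⟶ A) (j : A ⟶ T.obj₁) (k : T.obj₂ ⟶ T.obj₁)
    (hk : k ≫ T.mor₁ = 𝟙 _) (hj : j ≫ T.mor₁ = 0) (hjf : j ≫ f = 𝟙 _)
    (hid : f ≫ j + T.mor₁ ≫ k = 𝟙 _) : IsIso (T.mor₃ ≫ f⟦(1 : ℤ)⟧') := by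
  have h2 : T.mor₂ = 0 := by
    rw [← Category.id_comp T.mor₂, ← hk, Category.assoc, comp_distTriang_mor_zero₁₂ T hT, comp_zero]
  obtain ⟨x, hx⟩ := Triangle.coyoneda_exact₁ T hT (j⟦(1 : ℤ)⟧') (by rw [← Functor.map_comp, hj, Functor.map_zero])
  haveI : Mono T.mor₃ := (T.mor₂_eq_zero_iff_mono₃ hT).1 h2
  refine ⟨x, ?_, ?_⟩
  · rw [← cancel_mono T.mor₃, Category.id_comp, Category.assoc, ← hx, Category.assoc, ← Functor.map_comp]
    have h := congrArg (fun z => T.mor₃ ≫ z⟦(1 : ℤ)⟧') hid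
    simp only [Functor.map_add, Functor.map_comp, Preadditive.comp_add, CategoryTheory.Functor.map_id,
      Category.comp_id, ← Category.assoc, comp_distTriang_mor_zero₃₁ T hT, zero_comp, add_zero] at h
    rw [Functor.map_comp, ← Category.assoc]
    exact h
  · rw [← Category.assoc, ← hx, ← Functor.map_comp, hjf, CategoryTheory.Functor.map_id]

/-- Unshifting a morphism of complexes. -/
noncomputable def back {C E : CochainComplex X.Modules ℤ} (q : C ⟶ E⟦(1 : ℤ)⟧) : C⟦(-1 : ℤ)⟧ ⟶ E :=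
  q⟦(-1 : ℤ)⟧' ≫ (shiftShiftNeg E (1 : ℤ)).hom

theorem back_comp {C E F : CochainComplex X.Modules ℤ} (q : C ⟶ E⟦(1 : ℤ)⟧) (d : E ⟶ F) :
    back q ≫ d = back (q ≫ d⟦(1 : ℤ)⟧') := by
  have h : (shiftShiftNeg E (1 : ℤ)).hom ≫ d = d⟦(1 : ℤ)⟧'⟦(-1 : ℤ)⟧' ≫ (shiftShiftNeg F (1 : ℤ)).hom :=
    ((shiftFunctorCompIsoId (CochainComplex X.Modules ℤ) (1 : ℤ) (-1) (by simp)).hom.naturality d).symm
  rw [back, back, Category.assoc, h, Functor.map_comp, Category.assoc]

theorem map_shift_eq_zero {D : Type*} [Category D] [Preadditive D] [HasShift D ℤ]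
    [∀ n : ℤ, (shiftFunctor D n).Additive] (F : CochainComplex X.Modules ℤ ⥤ D) [F.CommShift ℤ]
    {A B : CochainComplex X.Modules ℤ} (f : A ⟶ B) (h : F.map f = 0) (n : ℤ) : F.map (f⟦n⟧') = 0 := by
  have hn := (F.commShiftIso n).hom.naturality f
  dsimp only [Functor.comp_map] at hn
  rw [← cancel_mono ((F.commShiftIso n).hom.app B), hn, h, Functor.map_zero, comp_zero, zero_comp]

theorem isIso_Q_back {C E : CochainComplex X.Modules ℤ} (q : C ⟶ E⟦(1 : ℤ)⟧) [IsIso (Qd.map q)] :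
    IsIso (Qd.map (back q)) := by
  haveI : IsIso (Qd.map (q⟦(-1 : ℤ)⟧')) := by
    have hn := (Qd.commShiftIso (-1 : ℤ)).hom.naturality q
    dsimp only [Functor.comp_map] at hn
    have e : Qd.map (q⟦(-1 : ℤ)⟧') = (Qd.commShiftIso (-1 : ℤ)).hom.app _ ≫ (Qd.map q)⟦(-1 : ℤ)⟧' ≫
        (Qd.commShiftIso (-1 : ℤ)).inv.app _ := by
      rw [← Category.assoc, ← hn, Category.assoc, Iso.hom_inv_id_app, Category.comp_id]
    rw [e]
    infer_instance
  rw [back, Functor.map_comp]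
  infer_instance

theorem isQCoh_cone {E F : CochainComplex X.Modules ℤ} (β : E ⟶ F) (hE : ∀ n, Coh.IsQCoh (E.X n))
    (hF : ∀ n, Coh.IsQCoh (F.X n)) (n : ℤ) : Coh.IsQCoh ((CochainComplex.mappingCone β).X n) :=
  M1.isQCoh_of_isIso (HomologicalComplex.homotopyCofiber.XIsoBiprod β n (n + 1) rfl).symm
    (M1.isQCoh_biprod (hE (n + 1)) (hF n))

theorem isZero_cone {E F : CochainComplex X.Modules ℤ} (β : E ⟶ F) {a : ℤ} (hE : ∀ n, n < a + 1 → IsZero (E.X n))
    (hF : ∀ n, n < a → IsZero (F.X n)) (n : ℤ) (hn : n < a) : IsZero ((CochainComplex.mappingCone β).X n) :=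
  IsZero.of_iso (biprod_isZero_iff _ _ |>.2 ⟨hE _ (by omega), hF n hn⟩)
    (HomologicalComplex.homotopyCofiber.XIsoBiprod β n (n + 1) rfl)

theorem isPerfect_toD {E : CochainComplex X.Modules ℤ} (hE : DCoh.IsStrictlyPerfect E) :
    DCoh.IsPerfect (DCoh.toD X E) := DPerf.isPerfect_iff_approx.2 fun x =>
  ⟨X, 𝟙 _, inferInstance, ⟨x, rfl⟩, _, DPerf.isStrictlyPerfect_res (𝟙 X) hE,
    (DPerf.resFac (𝟙 X)).inv.app E, DPerf.dcond_of_isIso _⟩

variable [CompactSpace X] [QuasiSeparatedSpace X] (hX : PerfAux.HasResolutionProperty X)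

/-- Replace the source of a qis onto a strictly perfect complex by a strictly perfect one. -/
theorem exists_refine {E P : CochainComplex X.Modules ℤ} (hE : DCoh.IsStrictlyPerfect E) (γ : P ⟶ E)
    (hγ : IsIso (Qd.map γ)) (hb : ∃ a : ℤ, ∀ n, n < a → IsZero (P.X n)) (hq : ∀ n, Coh.IsQCoh (P.X n))
    (hX : PerfAux.HasResolutionProperty X) :
    ∃ (G : CochainComplex X.Modules ℤ) (φ : G ⟶ P), DCoh.IsStrictlyPerfect G ∧ QuasiIso (φ ≫ γ) := by
  obtain ⟨a, ha⟩ := hb
  obtain ⟨G, φ, hG, hφ⟩ := exists_strictlyPerfect_qis hX P a ha hq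
    (isPerfect_of_iso (asIso (Qd.map γ)).symm (isPerfect_toD hE))
  haveI : IsIso (Qd.map φ) := (DerivedCategory.isIso_Q_map_iff_quasiIso _ φ).2 hφ
  exact ⟨G, φ, hG, (DerivedCategory.isIso_Q_map_iff_quasiIso _ _).1 (by rw [Functor.map_comp]; infer_instance)⟩

/-- A strictly perfect complex as a complex of quasi-coherent modules. -/
noncomputable def liftQC {E : CochainComplex X.Modules ℤ} (hE : ∀ n, Coh.IsQCoh (E.X n)) :
    CochainComplex (QCD.QC X) ℤ where
  X n := ⟨E.X n, hE n⟩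
  d i j := ObjectProperty.homMk (E.d i j)
  shape i j h := ObjectProperty.hom_ext _ (E.shape i j h)
  d_comp_d' i j k _ _ := ObjectProperty.hom_ext _ (E.d_comp_d i j k)

noncomputable abbrev fac : DerivedCategory.Q ⋙ QCD.Φ X ≅
    (QCD.qP X).ι.mapHomologicalComplex (ComplexShape.up ℤ) ⋙ DerivedCategory.Q :=
  (QCD.qP X).ι.mapDerivedCategoryFactors

include hX in
/-- Left fractions with quasi-coherent bounded below terms. -/
theorem exists_left_fraction {E F : CochainComplex X.Modules ℤ} (hE : DCoh.IsStrictlyPerfect E)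
    (hF : DCoh.IsStrictlyPerfect F) (α : Qd.obj E ⟶ Qd.obj F) :
    ∃ (Y : CochainComplex X.Modules ℤ) (g : E ⟶ Y) (s : F ⟶ Y), (∃ a : ℤ, ∀ n, n < a → IsZero (Y.X n)) ∧
      (∀ n, Coh.IsQCoh (Y.X n)) ∧ IsIso (Qd.map s) ∧ α ≫ Qd.map s = Qd.map g := by
  obtain ⟨a, b, hv⟩ := hF.1
  let E' := liftQC fun n => M2.isQCoh_of_isFinLocFree (hE.2 n)
  let F' := liftQC fun n => M2.isQCoh_of_isFinLocFree (hF.2 n)
  haveI : F'.IsStrictlyGE a := (CochainComplex.isStrictlyGE_iff _ _).2 fun n hn =>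
    (IsZero.iff_id_eq_zero _).2 (ObjectProperty.hom_ext _ ((hv n (Or.inl hn)).eq_of_src _ _))
  obtain ⟨α', hα⟩ := (QCD.bijective_Φ_map (fun U V => affine_inter hX) (DerivedCategory.Q.obj E')
    (DerivedCategory.Q.obj F')).2 (fac.hom.app E' ≫ α ≫ fac.inv.app F')
  obtain ⟨Y, hY, g, s, hs, h⟩ := DerivedCategory.left_fac_of_isStrictlyGE α' a
  let ιc := (QCD.qP X).ι.mapHomologicalComplex (ComplexShape.up ℤ)
  refine ⟨ιc.obj Y, ιc.map g, ιc.map s, ⟨a, fun n hn => (QCD.qP X).ι.map_isZero ?_⟩, fun n => (Y.X n).2, ?_, ?_⟩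
  · exact CochainComplex.isZero_of_isStrictlyGE Y a n hn
  · have e : Qd.map (ιc.map s) = fac.inv.app F' ≫ (QCD.Φ X).map (DerivedCategory.Q.map s) ≫ fac.hom.app Y := by
      have := (fac (X := X)).hom.naturality s
      dsimp only [Functor.comp_map] at this
      rw [this, Iso.inv_hom_id_app_assoc]
    haveI := hs
    rw [e]
    infer_instance
  · have h1 : (QCD.Φ X).map (α' ≫ DerivedCategory.Q.map s) = (QCD.Φ X).map (DerivedCategory.Q.map g) := by
      rw [h, Category.assoc, IsIso.inv_hom_id, Category.comp_id]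
    dsimp only at hα
    rw [Functor.map_comp, hα, ← cancel_mono (fac.hom.app Y)] at h1
    have n1 := (fac (X := X)).hom.naturality s
    have n2 := (fac (X := X)).hom.naturality g
    dsimp only [Functor.comp_map] at n1 n2
    rw [n2] at h1
    simp only [Category.assoc] at h1
    rw [n1, Iso.inv_hom_id_app_assoc, cancel_epi] at h1
    exact h1

include hX in
/-- Right roofs. -/
theorem exists_roof {E F : CochainComplex X.Modules ℤ} (hE : DCoh.IsStrictlyPerfect E)
    (hF : DCoh.IsStrictlyPerfect F) (α : Qd.obj E ⟶ Qd.obj F) :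
    ∃ (G : CochainComplex X.Modules ℤ) (g : G ⟶ E) (h : G ⟶ F), DCoh.IsStrictlyPerfect G ∧ QuasiIso g ∧
      Qd.map g ≫ α = Qd.map h := by
  obtain ⟨Y, g, s, ⟨a₂, hY⟩, hYq, hs, hα⟩ := exists_left_fraction hX hE hF α
  obtain ⟨a₀, b₀, hvE⟩ := hE.1
  obtain ⟨a₁, b₁, hvF⟩ := hF.1
  let φ : E ⊞ F ⟶ Y := biprod.desc g (-s)
  let C := CochainComplex.mappingCone φ
  let p : C ⟶ (E ⊞ F)⟦(1 : ℤ)⟧ := (CochainComplex.mappingCone.triangle φ).mor₃
  let T := DerivedCategory.Q.mapTriangle.obj (CochainComplex.mappingCone.triangle φ)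
  have hT : T ∈ distTriang (DCoh.D X) := DerivedCategory.mappingCone_triangle_distinguished φ
  have h0 : Qd.map (p ≫ φ⟦(1 : ℤ)⟧') = 0 := by
    have h := comp_distTriang_mor_zero₃₁ T hT
    have hn := (Qd.commShiftIso (1 : ℤ)).hom.naturality φ
    dsimp only [Functor.comp_map] at hn
    rw [← cancel_mono ((Qd.commShiftIso (1 : ℤ)).hom.app Y), zero_comp, Functor.map_comp, Category.assoc, hn,
      ← Category.assoc]
    exact h
  let m := back p
  let γ := back (p ≫ (biprod.fst : E ⊞ F ⟶ E)⟦(1 : ℤ)⟧')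
  have hγ : γ = m ≫ biprod.fst := (back_comp _ _).symm
  have hm : Qd.map (m ≫ φ) = 0 := by
    rw [back_comp, back, Functor.map_comp, map_shift_eq_zero Qd _ h0, zero_comp]
  haveI := hs
  let sI := asIso (Qd.map s)
  have hiso : IsIso (Qd.map (p ≫ (biprod.fst : E ⊞ F ⟶ E)⟦(1 : ℤ)⟧')) := by
    have hn := (Qd.commShiftIso (1 : ℤ)).hom.naturality (biprod.fst : E ⊞ F ⟶ E)
    dsimp only [Functor.comp_map] at hn
    have hφ : Qd.map φ = Qd.map biprod.fst ≫ Qd.map g - Qd.map biprod.snd ≫ Qd.map s := by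
      rw [← Functor.map_comp, ← Functor.map_comp, ← Functor.map_sub]
      congr 1
      apply biprod.hom_ext' <;> simp [φ]
    have key : IsIso (T.mor₃ ≫ (Qd.map (biprod.fst : E ⊞ F ⟶ E))⟦(1 : ℤ)⟧') := by
      let j₀ : Qd.obj E ⟶ Qd.obj (E ⊞ F) := Qd.map biprod.inl + α ≫ Qd.map biprod.inr
      let k₀ : Qd.obj Y ⟶ Qd.obj (E ⊞ F) := -(sI.inv ≫ Qd.map biprod.inr)
      have hk : k₀ ≫ Qd.map φ = 𝟙 (Qd.obj Y) := by
        simp only [k₀]
        rw [Preadditive.neg_comp, Category.assoc, ← Functor.map_comp, biprod.inr_desc, Functor.map_neg,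
          Preadditive.comp_neg, neg_neg]
        exact sI.inv_hom_id
      have hj : j₀ ≫ Qd.map φ = 0 := by
        simp only [j₀]
        rw [Preadditive.add_comp, Category.assoc, ← Functor.map_comp, ← Functor.map_comp, biprod.inl_desc,
          biprod.inr_desc, Functor.map_neg, Preadditive.comp_neg, hα, add_neg_cancel]
      have hjf : j₀ ≫ Qd.map (biprod.fst : E ⊞ F ⟶ E) = 𝟙 (Qd.obj E) := by
        simp only [j₀]
        rw [Preadditive.add_comp, Category.assoc, ← Functor.map_comp, ← Functor.map_comp, biprod.inl_fst,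
          biprod.inr_fst, Functor.map_zero, comp_zero, add_zero, CategoryTheory.Functor.map_id]
      have hid : Qd.map (biprod.fst : E ⊞ F ⟶ E) ≫ j₀ + Qd.map φ ≫ k₀ = 𝟙 (Qd.obj (E ⊞ F)) := by
        have h1 : Qd.map g ≫ sI.inv = α := by
          rw [← hα, Category.assoc]
          exact (congrArg (α ≫ ·) sI.hom_inv_id).trans (Category.comp_id α)
        have h2 : Qd.map (biprod.snd : E ⊞ F ⟶ F) ≫ Qd.map s ≫ sI.inv = Qd.map biprod.snd :=
          (congrArg (Qd.map (biprod.snd : E ⊞ F ⟶ F) ≫ ·) sI.hom_inv_id).trans (Category.comp_id _)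
        have h3 := congrArg Qd.map (biprod.total (X := E) (Y := F))
        rw [Functor.map_add, Functor.map_comp, Functor.map_comp, CategoryTheory.Functor.map_id] at h3
        simp only [j₀, k₀]
        rw [hφ, Preadditive.comp_neg, Preadditive.sub_comp, Preadditive.comp_add]
        simp only [Category.assoc, reassoc_of% h1, reassoc_of% h2]
        rw [← h3]
        abel
      exact isIso_mor₃_comp hT (Qd.map biprod.fst) j₀ k₀ hk hj hjf hid
    have e : Qd.map (p ≫ (biprod.fst : E ⊞ F ⟶ E)⟦(1 : ℤ)⟧') =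
        (T.mor₃ ≫ (Qd.map (biprod.fst : E ⊞ F ⟶ E))⟦(1 : ℤ)⟧') ≫ (Qd.commShiftIso (1 : ℤ)).inv.app E := by
      change _ = ((Qd.map p ≫ (Qd.commShiftIso (1 : ℤ)).hom.app _) ≫ _) ≫ _
      rw [Category.assoc (Qd.map p), ← hn, Category.assoc, Category.assoc, Iso.hom_inv_id_app, Category.comp_id,
        Functor.map_comp]
    rw [e]
    infer_instance
  haveI := hiso
  obtain ⟨G, ψ, hG, hq⟩ := exists_refine hE γ (isIso_Q_back _)
    ⟨min (min a₀ a₁) a₂, fun n hn => isZero_cone φ (a := min (min a₀ a₁) a₂ - 1)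
      (fun k hk => IsZero.of_iso (biprod_isZero_iff _ _ |>.2 ⟨hvE k (Or.inl (by omega)), hvF k (Or.inl (by omega))⟩)
        (HomologicalComplex.biprodXIso E F k))
      (fun k hk => hY k (by omega)) (n + -1) (by omega)⟩
    (fun n => isQCoh_cone φ (fun k => M1.isQCoh_of_isIso (HomologicalComplex.biprodXIso E F k).symm
      (M1.isQCoh_biprod (M2.isQCoh_of_isFinLocFree (hE.2 k)) (M2.isQCoh_of_isFinLocFree (hF.2 k)))) hYq (n + -1)) hX
  refine ⟨G, ψ ≫ γ, ψ ≫ m ≫ biprod.snd, hG, hq, ?_⟩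
  have h : Qd.map (m ≫ biprod.fst ≫ g) = Qd.map (m ≫ biprod.snd ≫ s) := by
    rw [← sub_eq_zero, ← Functor.map_sub, ← Preadditive.comp_sub,
      show biprod.fst ≫ g - biprod.snd ≫ s = φ from by apply biprod.hom_ext' <;> simp [φ]]
    exact hm
  rw [← cancel_mono (Qd.map s), Category.assoc, hα, hγ]
  simp only [Functor.map_comp, Category.assoc] at h ⊢
  rw [h]

include hX in
/-- Equal maps become homotopic after a qis. -/
theorem exists_homotopy {E F : CochainComplex X.Modules ℤ} (hE : DCoh.IsStrictlyPerfect E)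
    (hF : DCoh.IsStrictlyPerfect F) (α β : E ⟶ F) (hαβ : Qd.map α = Qd.map β) :
    ∃ (G : CochainComplex X.Modules ℤ) (γ : G ⟶ E), DCoh.IsStrictlyPerfect G ∧ QuasiIso γ ∧
      Nonempty (Homotopy (γ ≫ α) (γ ≫ β)) := by
  obtain ⟨a, b, hvE⟩ := hE.1
  obtain ⟨c, e, hvF⟩ := hF.1
  let E' := liftQC fun n => M2.isQCoh_of_isFinLocFree (hE.2 n)
  let F' := liftQC fun n => M2.isQCoh_of_isFinLocFree (hF.2 n)
  haveI : F'.IsStrictlyGE c := (CochainComplex.isStrictlyGE_iff _ _).2 fun n hn =>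
    (IsZero.iff_id_eq_zero _).2 (ObjectProperty.hom_ext _ ((hvF n (Or.inl hn)).eq_of_src _ _))
  let d : E ⟶ F := α - β
  let d' : E' ⟶ F' := { f := fun n => ObjectProperty.homMk (d.f n), comm' := fun i j _ => ObjectProperty.hom_ext _ (d.comm i j) }
  let ιc := (QCD.qP X).ι.mapHomologicalComplex (ComplexShape.up ℤ)
  have hd : DerivedCategory.Q.map d' = 0 := by
    apply (QCD.bijective_Φ_map (fun U V => affine_inter hX) _ _).1
    dsimp only
    have hn := (fac (X := X)).hom.naturality d'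
    dsimp only [Functor.comp_map] at hn
    rw [Functor.map_zero, ← cancel_mono (fac.hom.app F'), hn, zero_comp,
      show ιc.map d' = d from rfl, show Qd.map d = 0 by rw [Functor.map_sub, hαβ, sub_self], comp_zero]
  obtain ⟨Y, s, hs, ⟨hh⟩⟩ : ∃ (Y : CochainComplex (QCD.QC X) ℤ) (s : F' ⟶ Y),
      IsIso (DerivedCategory.Q.map s) ∧ Nonempty (Homotopy (d' ≫ s) 0) := by
    have h : DerivedCategory.Qh.map ((HomotopyCategory.quotient _ (ComplexShape.up ℤ)).map d') =
        DerivedCategory.Qh.map ((HomotopyCategory.quotient _ (ComplexShape.up ℤ)).map (0 : E' ⟶ F')) := by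
      have h1 := (DerivedCategory.quotientCompQhIso (QCD.QC X)).hom.naturality d'
      dsimp only [Functor.comp_map] at h1
      rw [← cancel_mono ((DerivedCategory.quotientCompQhIso (QCD.QC X)).hom.app F'), h1, hd, comp_zero,
        Functor.map_zero, Functor.map_zero, zero_comp]
    obtain ⟨Z, s, hs, hh⟩ := (MorphismProperty.map_eq_iff_postcomp DerivedCategory.Qh
      (HomotopyCategory.quasiIso (QCD.QC X) (ComplexShape.up ℤ)) _ _).1 h
    obtain ⟨Y, rfl⟩ := HomotopyCategory.quotient_obj_surjective Z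
    obtain ⟨s, rfl⟩ := (HomotopyCategory.quotient _ _).map_surjective s
    rw [HomotopyCategory.quotient_map_mem_quasiIso_iff, HomologicalComplex.mem_quasiIso_iff,
      ← DerivedCategory.isIso_Q_map_iff_quasiIso] at hs
    rw [← Functor.map_comp, ← Functor.map_comp, zero_comp] at hh
    exact ⟨Y, s, hs, ⟨HomotopyCategory.homotopyOfEq _ _ hh⟩⟩
  let s₁ : F' ⟶ Y.truncGE c := s ≫ Y.πTruncGE c
  have hs₁ : IsIso (DerivedCategory.Q.map s₁) := by
    haveI : IsIso (DerivedCategory.Q.map s) := hs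
    haveI : QuasiIso s := (DerivedCategory.isIso_Q_map_iff_quasiIso _ s).1 hs
    haveI : Y.IsGE c := by
      haveI : (DerivedCategory.Q.obj F').IsGE c := (DerivedCategory.isGE_Q_obj_iff _ _).2 inferInstance
      exact (DerivedCategory.isGE_Q_obj_iff _ _).1
        (DerivedCategory.TStructure.t.isGE_of_iso (asIso (DerivedCategory.Q.map s)) c)
    haveI : IsIso (DerivedCategory.Q.map (Y.πTruncGE c)) := (DerivedCategory.isIso_Q_map_iff_quasiIso _ _).2 inferInstance
    rw [Functor.map_comp]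
    infer_instance
  let Kq := HomotopyCategory.quotient X.Modules (ComplexShape.up ℤ)
  let Z := ιc.obj (Y.truncGE c)
  let t : F ⟶ Z := ιc.map s₁
  have ht : Kq.map (d ≫ t) = 0 := by
    have hh₁ : Homotopy (d' ≫ s₁) 0 :=
      ((Homotopy.ofEq (Category.assoc _ _ _).symm).trans (hh.compRight _)).trans (Homotopy.ofEq zero_comp)
    have := HomotopyCategory.eq_of_homotopy _ _ ((QCD.qP X).ι.mapHomotopy hh₁)
    rw [Functor.map_comp ιc, Functor.map_zero, Functor.map_zero] at this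
    exact this
  let T := Kq.mapTriangle.obj (CochainComplex.mappingCone.triangle t)
  have hT : T ∈ distTriang (HomotopyCategory X.Modules (ComplexShape.up ℤ)) :=
    ⟨_, _, t, ⟨Iso.refl _⟩⟩
  let S := CochainComplex.mappingCone t
  obtain ⟨y₀, hy₀⟩ := Triangle.coyoneda_exact₁ T hT ((Kq.map d)⟦(1 : ℤ)⟧') (by
    change (Kq.map d)⟦(1 : ℤ)⟧' ≫ (Kq.map t)⟦(1 : ℤ)⟧' = 0
    rw [← Functor.map_comp, ← Functor.map_comp, ht, Functor.map_zero])
  obtain ⟨y, hy⟩ : ∃ y : E⟦(1 : ℤ)⟧ ⟶ S, Kq.map y = (Kq.commShiftIso (1 : ℤ)).hom.app E ≫ y₀ :=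
    Kq.map_surjective _
  let p : S ⟶ F⟦(1 : ℤ)⟧ := (CochainComplex.mappingCone.triangle t).mor₃
  have hyp : Kq.map (y ≫ p) = Kq.map (d⟦(1 : ℤ)⟧') := by
    have hn := (Kq.commShiftIso (1 : ℤ)).hom.naturality d
    dsimp only [Functor.comp_map] at hn
    rw [← cancel_mono ((Kq.commShiftIso (1 : ℤ)).hom.app F), hn, hy₀, Functor.map_comp, hy]
    simp only [Category.assoc]
    rfl
  let q : CochainComplex.mappingCone y ⟶ E⟦(1 : ℤ)⟧⟦(1 : ℤ)⟧ := (CochainComplex.mappingCone.triangle y).mor₃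
  have hq0 : Kq.map (q ≫ d⟦(1 : ℤ)⟧'⟦(1 : ℤ)⟧') = 0 := by
    have h := comp_distTriang_mor_zero₃₁ _ (show Kq.mapTriangle.obj (CochainComplex.mappingCone.triangle y) ∈ distTriang _ from ⟨_, _, y, ⟨Iso.refl _⟩⟩)
    have h1 : Kq.map (q ≫ y⟦(1 : ℤ)⟧') = 0 := by
      have hn := (Kq.commShiftIso (1 : ℤ)).hom.naturality y
      dsimp only [Functor.comp_map] at hn
      rw [← cancel_mono ((Kq.commShiftIso (1 : ℤ)).hom.app S), zero_comp, Functor.map_comp, Category.assoc, hn,
        ← Category.assoc]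
      exact h
    have h2 : Kq.map (d⟦(1 : ℤ)⟧'⟦(1 : ℤ)⟧') = Kq.map ((y ≫ p)⟦(1 : ℤ)⟧') := by
      rw [← sub_eq_zero, ← Functor.map_sub, ← Functor.map_sub]
      exact map_shift_eq_zero Kq _ (by rw [Functor.map_sub, hyp, sub_self]) 1
    rw [Functor.map_comp, h2, ← Functor.map_comp, Functor.map_comp (shiftFunctor _ (1 : ℤ)), ← Category.assoc,
      Functor.map_comp, h1, zero_comp]
  let γ := back (back q)
  have hγd : Kq.map (γ ≫ d) = 0 := by
    rw [back_comp, back, Functor.map_comp,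
      map_shift_eq_zero Kq _ (by rw [back_comp, back, Functor.map_comp, map_shift_eq_zero Kq _ hq0, zero_comp]),
      zero_comp]
  haveI : IsIso (Qd.map q) := by
    have htQ : IsIso (Qd.map t) := by
      have e : Qd.map t = fac.inv.app F' ≫ (QCD.Φ X).map (DerivedCategory.Q.map s₁) ≫ fac.hom.app (Y.truncGE c) := by
        have := (fac (X := X)).hom.naturality s₁
        dsimp only [Functor.comp_map] at this
        rw [this, Iso.inv_hom_id_app_assoc]
      haveI := hs₁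
      rw [e]
      infer_instance
    have hS : IsZero (Qd.obj S) :=
      (Triangle.isZero₃_iff_isIso₁ _ (DerivedCategory.mappingCone_triangle_distinguished t)).2 htQ
    have h3 : IsIso (Qd.map q ≫ (Qd.commShiftIso (1 : ℤ)).hom.app (E⟦(1 : ℤ)⟧)) :=
      (Triangle.isZero₂_iff_isIso₃ _ (DerivedCategory.mappingCone_triangle_distinguished y)).1 hS
    exact IsIso.of_isIso_comp_right (Qd.map q) ((Qd.commShiftIso (1 : ℤ)).hom.app (E⟦(1 : ℤ)⟧))
  haveI := isIso_Q_back q
  have hγ : IsIso (Qd.map γ) := isIso_Q_back _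
  have hZ : ∀ n, n < c → IsZero (Z.X n) := fun n hn =>
    (QCD.qP X).ι.map_isZero (CochainComplex.isZero_of_isStrictlyGE (Y.truncGE c) c n hn)
  obtain ⟨G, φ, hG, hφ⟩ := exists_refine hE γ hγ
    ⟨min a c, fun n hn => isZero_cone y (a := min a c - 2) (fun k hk => hvE (k + 1) (Or.inl (by omega)))
      (fun k hk => isZero_cone t (a := c - 1) (fun l hl => hvF l (Or.inl (by omega))) (fun l hl => hZ l (by omega)) k (by omega))
      (n + -1 + -1) (by omega)⟩
    (fun n => isQCoh_cone y (fun k => M2.isQCoh_of_isFinLocFree (hE.2 (k + 1)))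
      (isQCoh_cone t (fun k => M2.isQCoh_of_isFinLocFree (hF.2 k)) fun k => ((Y.truncGE c).X k).2) (n + -1 + -1)) hX
  refine ⟨G, φ ≫ γ, hG, hφ, ⟨HomotopyCategory.homotopyOfEq _ _ ?_⟩⟩
  rw [← sub_eq_zero, ← Functor.map_sub, ← Preadditive.comp_sub, Category.assoc, Functor.map_comp]
  change Kq.map φ ≫ Kq.map (γ ≫ d) = 0
  rw [hγd, comp_zero]

include hX in
/-- Perfect objects are strictly perfect. -/
theorem exists_strictlyPerfect {K : DCoh.D X} (hK : DCoh.IsPerfect K) :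
    ∃ E : CochainComplex X.Modules ℤ, DCoh.IsStrictlyPerfect E ∧ Nonempty (DCoh.toD X E ≅ K) := by
  obtain ⟨N, ⟨i⟩⟩ := QCD.exists_Φ_iso_of_affine_diagonal (fun U V => affine_inter hX) (isQCohD_of_isPerfect hK)
  obtain ⟨a, ha⟩ := DPerf.exists_isGE_of_perfect hK
  obtain ⟨L₀, ⟨e₀⟩⟩ : ∃ L : CochainComplex (QCD.QC X) ℤ, Nonempty (DerivedCategory.Q.obj L ≅ N) :=
    ⟨DerivedCategory.Q.objPreimage N, ⟨DerivedCategory.Q.objObjPreimageIso N⟩⟩
  let ιc := (QCD.qP X).ι.mapHomologicalComplex (ComplexShape.up ℤ)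
  let i₀ : Qd.obj (ιc.obj L₀) ≅ K := (fac.app L₀).symm ≪≫ (QCD.Φ X).mapIso e₀ ≪≫ i
  haveI : L₀.IsGE a := (CochainComplex.isGE_iff _ _).2 fun n hn => by
    rw [HomologicalComplex.exactAt_iff_isZero_homology]
    have h1 : IsZero ((ιc.obj L₀).homology n) := by
      refine IsZero.of_iso ?_ ((DerivedCategory.homologyFunctorFactors X.Modules n).app (ιc.obj L₀)).symm
      exact IsZero.of_iso ((DerivedCategory.isGE_iff K a).1 ha n hn) ((DerivedCategory.homologyFunctor _ n).mapIso i₀)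
    have h2 : IsZero ((QCD.qP X).ι.obj (L₀.homology n)) :=
      h1.of_iso ((L₀.sc n).mapHomologyIso (QCD.qP X).ι).symm
    exact (IsZero.iff_id_eq_zero _).2 (ObjectProperty.hom_ext _ (h2.eq_of_src _ _))
  haveI : IsIso (DerivedCategory.Q.map (L₀.πTruncGE a)) := (DerivedCategory.isIso_Q_map_iff_quasiIso _ _).2 inferInstance
  let e : (QCD.Φ X).obj (DerivedCategory.Q.obj (L₀.truncGE a)) ≅ K :=
    (QCD.Φ X).mapIso ((asIso (DerivedCategory.Q.map (L₀.πTruncGE a))).symm ≪≫ e₀) ≪≫ i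
  let j : Qd.obj (ιc.obj (L₀.truncGE a)) ≅ K := (fac.app _).symm ≪≫ e
  obtain ⟨E, φ, hE, hφ⟩ := exists_strictlyPerfect_qis hX (ιc.obj (L₀.truncGE a)) a
    (fun n hn => (QCD.qP X).ι.map_isZero (CochainComplex.isZero_of_isStrictlyGE (L₀.truncGE a) a n hn))
    (fun n => ((L₀.truncGE a).X n).2) (isPerfect_of_iso j.symm hK)
  haveI : IsIso (Qd.map φ) := (DerivedCategory.isIso_Q_map_iff_quasiIso _ φ).2 hφ
  exact ⟨E, hE, ⟨asIso (Qd.map φ) ≪≫ j⟩⟩

end Groth.Agent.DGen9.ResP
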