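import Groth.Agent.Lib.DGen9.RelAmpBC
import Groth.Agent.Lib.RelPCS8.Chart
import Groth.Agent.Lib.DMod.Resolve
import Groth.Prelude.Def_DualSh
import Groth.Agent.Lib.DBaseChange.TorDescent

/-!
Finite relative tor dimension on affine charts.
-/

set_option autoImplicit false
set_option linter.style.haveILetI false
set_option backward.isDefEq.respectTransparency false
set_option backward.isDefEq.respectTransparency.types false

universe u

open CategoryTheory CategoryTheory.Limits AlgebraicGeometry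

attribute [local instance] HasDerivedCategory.standard

namespace Groth.Agent.RelT

open DMod

/-- For a flat map the derived base change is termwise. -/
theorem isIso_valueMap_of_flat {R A : Type u} [CommRing R] [CommRing A] (φ : R →+* A) (hφ : φ.Flat)
    [DRing.HasLBaseChange φ] (P : DRing.Cx R) : IsIso ((DBaseChange.valueMap φ).app P) := by
  let Φ : KFlat.Cover (ModuleCat.{u} R) := KFlat.Module.cover
  let π := (KFlat.resNatTrans Φ).app P
  haveI h0 := DBaseChange.isIso_valueMap φ ((KFlat.resFunctor Φ).obj P)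
    ⟨KFlat.isKFlat_resObj Φ P KFlat.Module.isFlat_cover, KFlat.isKFlat_flip_resObj Φ P KFlat.Module.isFlat_cover,
      KFlat.isFlat_resObj_X Φ P KFlat.Module.isFlat_cover⟩
  haveI hπ : _root_.QuasiIso π := KFlat.quasiIso_resπ Φ P
  haveI : IsIso (DerivedCategory.Q.map π) := (DerivedCategory.isIso_Q_map_iff_quasiIso _ _).2 hπ
  haveI : IsIso (DerivedCategory.Q.map ((DBaseChange.extCx φ).map π)) :=
    (DerivedCategory.isIso_Q_map_iff_quasiIso _ _).2 (DBaseChange.quasiIso_ext_of_flat hφ π)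
  have hn : (DRing.LBaseChange φ).map (DerivedCategory.Q.map π) ≫ (DBaseChange.valueMap φ).app P =
      (DBaseChange.valueMap φ).app _ ≫ DerivedCategory.Q.map ((DBaseChange.extCx φ).map π) :=
    (DBaseChange.valueMap φ).naturality π
  haveI : IsIso ((DRing.LBaseChange φ).map (DerivedCategory.Q.map π) ≫ (DBaseChange.valueMap φ).app P) := by
    rw [hn]; infer_instance
  exact IsIso.of_isIso_comp_left ((DRing.LBaseChange φ).map (DerivedCategory.Q.map π)) _

variable {X S : Scheme.{u}} {R A : CommRingCat.{u}}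

/-- Finite relative tor dimension gives amplitude on an affine chart. -/
theorem exists_torAmp_of_loc (f : X ⟶ S) (i : Spec R ⟶ S) [IsOpenImmersion i] (j : Spec A ⟶ X)
    [IsOpenImmersion j] (φ : R ⟶ A) (w : j ≫ f = Spec.map φ ≫ i) {K : DCoh.D X}
    (hK : DCoh.LocHasFiniteRelTorDim f K) (M : Dual.D A)
    (eM : (DPerf.tildeDD A).obj M ≅ (DPerf.resD j).obj K) :
    ∃ a b : ℤ, DRing.HasTorAmplitudeIn R a b ((DRing.restrictD φ.hom).obj M) := by
  let Kc := DerivedCategory.Q.objPreimage M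
  let eK : DRing.toD Kc ≅ M := DerivedCategory.Q.objObjPreimageIso M
  let F' := DerivedCategory.Q.objPreimage K
  let eF : DCoh.toD X F' ≅ K := DerivedCategory.Q.objObjPreimageIso K
  have hloc : ∀ x : Spec A, ∃ (h : A) (a b : ℤ), x ∈ PrimeSpectrum.basicOpen h ∧
      DRing.HasTorAmplitudeIn R a b (DRing.toD ((DRing.restrictCx φ.hom).obj
        ((DBaseChange.tm (DBaseChange.algMod (algebraMap A (Localization.Away h)))).obj Kc))) := by
    intro x
    obtain ⟨V, a, b, hxV, hV⟩ := hK (j x)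
    obtain ⟨_, ⟨h, rfl⟩, hxh, hhV⟩ :=
      PrimeSpectrum.isTopologicalBasis_basic_opens.exists_subset_of_mem_open
        (show x ∈ ((j ⁻¹ᵁ V : (Spec A).Opens) : Set (Spec A)) from hxV) (j ⁻¹ᵁ V).isOpen
    refine ⟨h, a, b, hxh, ?_⟩
    let ψ : A ⟶ CommRingCat.of (Localization.Away h) := CommRingCat.ofHom (algebraMap A (Localization.Away h))
    let jh := Spec.map ψ
    haveI : IsOpenImmersion jh := IsOpenImmersion.of_isLocalization h
    let k : Spec (CommRingCat.of (Localization.Away h)) ⟶ (V : Scheme.{u}) :=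
      IsOpenImmersion.lift V.ι (jh ≫ j) (by
        rw [Scheme.Opens.range_ι]
        rintro _ ⟨y, rfl⟩
        refine hhV ?_
        exact (PrimeSpectrum.localization_away_comap_range (Localization.Away h) h).le ⟨y, rfl⟩)
    have hk : k ≫ V.ι = jh ≫ j := IsOpenImmersion.lift_fac _ _ _
    haveI : IsOpenImmersion (k ≫ V.ι) := hk ▸ (inferInstance : IsOpenImmersion (jh ≫ j))
    haveI : IsOpenImmersion k := IsOpenImmersion.of_comp k V.ι
    obtain ⟨E, hv, hE, ⟨eE⟩⟩ := hasRelFlatAmplitudeIn_res k _ (hV F' ⟨eF⟩)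
    have hj : k ≫ V.ι ≫ f = Spec.map (φ ≫ ψ) ≫ i := by
      rw [Spec.map_comp, Category.assoc, ← w, ← Category.assoc, hk, Category.assoc]
    haveI := DQC.hasLBaseChange ψ.hom
    haveI : PreservesFiniteLimits (tilde.functor (CommRingCat.of (Localization.Away h))) := M1.tilde_preservesFiniteLimits
    have hflat : ψ.hom.Flat :=
      RingHom.flat_algebraMap_iff.2 (IsLocalization.flat _ (Submonoid.powers h))
    obtain ⟨eX⟩ : Nonempty ((DRing.LBaseChange ψ.hom).obj M ≅ DRing.toD ((DBaseChange.extCx ψ.hom).obj Kc)) := by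

      haveI := isIso_valueMap_of_flat ψ.hom hflat Kc
      exact ⟨(DRing.LBaseChange ψ.hom).mapIso eK.symm ≪≫ asIso ((DBaseChange.valueMap ψ.hom).app Kc)⟩
    have h1 := (hasTorAmplitude_tildeD_iff (φ ≫ ψ) ((DRing.LBaseChange ψ.hom).obj M) E
      (eE ≪≫ (DPerf.resD k).mapIso (((DPerf.resFac V.ι).app F').symm ≪≫ (DPerf.resD V.ι).mapIso eF) ≪≫
        (DPerf.resDComp V.ι k).app K ≪≫ (RelPCS8.resDCongr hk).app K ≪≫ ((DPerf.resDComp j jh).app K).symm ≪≫
        (DPerf.resD jh).mapIso eM.symm ≪≫ ((DMon9.lPRes jh).app _).symm ≪≫ (DBC9.lPTildeIso ψ).app M) a b).1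
      (RelPCS8.hasTorAmplitude_of_flat_terms E a b hv fun n => isFlatOver_of_comp_base _ i (hj ▸ hE n))
    exact (DBaseChange.torAmp_res_ext_iff φ.hom ψ.hom (φ ≫ ψ).hom rfl Kc a b).1
      (DBaseChange.hasTorAmplitudeIn_of_iso ((DRing.restrictD (φ ≫ ψ).hom).mapIso eX ≪≫
        (ModuleCat.restrictScalars.{u} (φ ≫ ψ).hom).mapDerivedCategoryFactors.app _) h1)
  choose h a b hx hA using hloc
  obtain ⟨t, ht⟩ := (CompactSpace.isCompact_univ (X := Spec A)).elim_finite_subcover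
    (fun x => (PrimeSpectrum.basicOpen (h x)).carrier) (fun x => (PrimeSpectrum.basicOpen (h x)).isOpen)
    (fun x _ => Set.mem_iUnion.2 ⟨x, hx x⟩)
  obtain ⟨a₀, ha₀⟩ := Finset.bddBelow (t.image a)
  obtain ⟨b₀, hb₀⟩ := Finset.bddAbove (t.image b)
  refine ⟨a₀, b₀, DBaseChange.hasTorAmplitudeIn_of_iso ((((ModuleCat.restrictScalars.{u} φ.hom).mapDerivedCategoryFactors).app Kc).symm ≪≫
    (DRing.restrictD φ.hom).mapIso eK) ?_⟩
  haveI : ∀ x : {x // x ∈ t}, Module.Flat A (DBaseChange.algMod (algebraMap A (Localization.Away (h x.1)))) :=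
    fun x => DBaseChange.flat_algMod _ (RingHom.flat_algebraMap_iff.2 (IsLocalization.flat _ (Submonoid.powers (h x.1))))
  refine DBaseChange.torAmp_res_of_cover φ.hom Kc
    (fun x : {x // x ∈ t} => DBaseChange.algMod (algebraMap A (Localization.Away (h x.1))))
    (fun x => DBaseChange.algUnit (algebraMap A (Localization.Away (h x.1)))) (fun I hI => ?_) fun x =>
      DBaseChange.hasTorAmplitudeIn_mono (ha₀ (Finset.mem_image_of_mem a x.2)) (hb₀ (Finset.mem_image_of_mem b x.2)) (hA x.1)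
  by_contra hne
  obtain ⟨m, hm, hle⟩ := Ideal.exists_le_maximal I fun e => hne (e ▸ Submodule.mem_top)
  obtain ⟨x, hxt, hmx⟩ := Set.mem_iUnion₂.1 (ht (Set.mem_univ (⟨m, hm.isPrime⟩ : Spec A)))
  have h1 := hI ⟨x, hxt⟩
  rw [DBaseChange.algUnit_one] at h1
  have h2 := (Ideal.map_mono hle) (DBaseChange.mem_of_one_mem_smul_top h1)
  obtain ⟨y, hy⟩ := (PrimeSpectrum.localization_away_comap_range (Localization.Away (h x)) (h x)).ge hmx
  refine y.isPrime.ne_top ((Ideal.eq_top_iff_one _).2 (Ideal.map_le_iff_le_comap.2 ?_ h2))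
  exact (congrArg PrimeSpectrum.asIdeal hy).ge

/-- Amplitude on an affine chart gives a local model flat over the base. -/
theorem hasRel_of_torAmp (f : X ⟶ S) (i : Spec R ⟶ S) [IsOpenImmersion i] (j : Spec A ⟶ X)
    [IsOpenImmersion j] (φ : R ⟶ A) (hφ : φ.hom.Flat) (w : j ≫ f = Spec.map φ ≫ i) {K : DCoh.D X}
    (M : Dual.D A) (eM : (DPerf.tildeDD A).obj M ≅ (DPerf.resD j).obj K) {a b : ℤ}
    (h : DRing.HasTorAmplitudeIn R a b ((DRing.restrictD φ.hom).obj M))
    (F' : CochainComplex X.Modules ℤ) (eF : DCoh.toD X F' ≅ K) :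
    DCoh.HasRelFlatAmplitudeIn (j.opensRange.ι ≫ f) a b
      (DerivedCategory.Q.obj ((DCoh.restrictCx j.opensRange).obj F')) := by
  letI := φ.hom.toAlgebra
  haveI : Module.Flat R A := hφ
  obtain ⟨P, T, p, -, -, hp, hT, -, hTr, ⟨eP⟩⟩ := exists_trunc (R := R) (A := A) M a b h
  haveI : IsIso (DerivedCategory.Q.map p) :=
    (DerivedCategory.isIso_Q_map_iff_quasiIso (C := ModuleCat.{u} A) _).2 hp
  have hm : DCoh.HasRelFlatAmplitudeIn (j ≫ f) a b ((DPerf.resD j).obj K) := by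
    refine ⟨(DPerf.tildeX A).obj T, fun n hn => (tilde.functor A).map_isZero (hT n hn), fun n => ?_, ⟨?_⟩⟩
    · rw [w]
      exact isFlatOver_comp_base _ _ (isFlatOver_tilde φ _ (hTr n))
    · exact ((tilde.functor A).mapDerivedCategoryFactors.app T).symm ≪≫
        (DPerf.tildeDD A).mapIso ((asIso (DerivedCategory.Q.map p)).symm ≪≫ eP) ≪≫ eM
  let e := IsOpenImmersion.isoOfRangeEq j.opensRange.ι j (Scheme.Opens.range_ι _)
  have he : e.hom ≫ j = j.opensRange.ι := IsOpenImmersion.isoOfRangeEq_hom_fac _ _ _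
  obtain ⟨E', hv', hE', ⟨eE'⟩⟩ := hasRelFlatAmplitudeIn_res e.hom _ hm
  have hw : e.hom ≫ j ≫ f = j.opensRange.ι ≫ f := by rw [← Category.assoc, he]
  exact ⟨E', hv', fun n => hw ▸ hE' n, ⟨eE' ≪≫ (DPerf.resDComp j e.hom).app K ≪≫
    (RelPCS8.resDCongr he).app K ≪≫ (DPerf.resD _).mapIso eF.symm ≪≫ (DPerf.resFac _).app F'⟩⟩

/-- An affine chart of a morphism. -/
theorem exists_chart (f : X ⟶ S) (x : X) :
    ∃ (R A : CommRingCat.{u}) (i : Spec R ⟶ S) (_ : IsOpenImmersion i) (j : Spec A ⟶ X) (_ : IsOpenImmersion j)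
      (φ : R ⟶ A), x ∈ j.opensRange ∧ j ≫ f = Spec.map φ ≫ i ∧ (Flat f → φ.hom.Flat) := by
  obtain ⟨W, hW, hxW, -⟩ := exists_isAffineOpen_mem_and_subset (X := S) (x := f x) (U := ⊤) trivial
  obtain ⟨U, hU, hxU, hUW⟩ := exists_isAffineOpen_mem_and_subset (X := X) (x := x) (U := f ⁻¹ᵁ W) hxW
  exact ⟨_, _, hW.fromSpec, inferInstance, hU.fromSpec, inferInstance, f.appLE W U hUW,
    by rw [IsAffineOpen.opensRange_fromSpec]; exact hxU,
    (IsAffineOpen.SpecMap_appLE_fromSpec f hW hU hUW).symm, fun _ => f.flat_appLE hW hU hUW⟩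

/-- The stalk of a chart, on derived categories. -/
noncomputable def stD (φ : R ⟶ A) (y : Spec A) : DCoh.D (Spec A) ⥤ Dual.D ((Spec R).presheaf.stalk ((Spec.map φ) y)) :=
  haveI := (RelPCS8.StalkId.preservesFiniteLimits_stalkOver (Spec.map φ) y).1
  haveI := (RelPCS8.StalkId.preservesFiniteLimits_stalkOver (Spec.map φ) y).2
  (DerSch.stalkOver (Spec.map φ) y).mapDerivedCategory

noncomputable instance (φ : R ⟶ A) (y : Spec A) : (stD φ y).CommShift ℤ := by
  unfold stD; infer_instance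

instance (φ : R ⟶ A) (y : Spec A) : (stD φ y).IsTriangulated := by
  unfold stD; infer_instance

/-- Amplitude on a chart is amplitude at all stalks. -/
theorem torAmp_iff_stalks (φ : R ⟶ A) (j : Spec A ⟶ X) [IsOpenImmersion j] (K : DCoh.D X) (M : Dual.D A)
    (eM : (DPerf.tildeDD A).obj M ≅ (DPerf.resD j).obj K) (a b : ℤ) :
    DRing.HasTorAmplitudeIn R a b ((DRing.restrictD φ.hom).obj M) ↔
      ∀ y, DRing.HasTorAmplitudeIn ((Spec R).presheaf.stalk ((Spec.map φ) y)) a b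
        ((stD φ y).obj ((DPerf.resD j).obj K)) := by
  let F := DerivedCategory.Q.objPreimage ((DPerf.resD j).obj K)
  let eF : DCoh.toD _ F ≅ (DPerf.resD j).obj K := DerivedCategory.Q.objObjPreimageIso _
  rw [← hasTorAmplitude_tildeD_iff φ M F (eF ≪≫ eM.symm)]
  refine forall_congr' fun y => ?_
  haveI := (RelPCS8.StalkId.preservesFiniteLimits_stalkOver (Spec.map φ) y).1
  haveI := (RelPCS8.StalkId.preservesFiniteLimits_stalkOver (Spec.map φ) y).2
  let e := ((DerSch.stalkOver (Spec.map φ) y).mapDerivedCategoryFactors.app F).symm ≪≫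
    (DerSch.stalkOver (Spec.map φ) y).mapDerivedCategory.mapIso eF
  exact ⟨DBaseChange.hasTorAmplitudeIn_of_iso e, DBaseChange.hasTorAmplitudeIn_of_iso e.symm⟩

theorem exists_chartModule (j : Spec A ⟶ X) [IsOpenImmersion j] {K : DCoh.D X} (hq : DCoh.IsQCohD K) :
    ∃ M : Dual.D A, Nonempty ((DPerf.tildeDD A).obj M ≅ (DPerf.resD j).obj K) :=
  DQC.exists_iso_of_isQCohD _ (DQC.isQCohD_of_iso ((DMon9.lPRes j).app K) (DMon9.isQCohD_lP j hq))

/-- Relative tor dimension from stalk amplitudes on every chart. -/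
theorem loc_of_stalks (f : X ⟶ S) [Flat f] {K : DCoh.D X} (hq : DCoh.IsQCohD K)
    (h : ∀ (R A : CommRingCat.{u}) (i : Spec R ⟶ S) [IsOpenImmersion i] (j : Spec A ⟶ X) [IsOpenImmersion j]
      (φ : R ⟶ A), j ≫ f = Spec.map φ ≫ i → ∃ a b : ℤ, ∀ y,
        DRing.HasTorAmplitudeIn ((Spec R).presheaf.stalk ((Spec.map φ) y)) a b
          ((stD φ y).obj ((DPerf.resD j).obj K))) :
    DCoh.LocHasFiniteRelTorDim f K := fun x => by
  obtain ⟨R, A, i, hi, j, hj, φ, hx, w, hφ⟩ := exists_chart f x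
  obtain ⟨M, ⟨eM⟩⟩ := exists_chartModule j hq
  obtain ⟨a, b, hab⟩ := h R A i j φ w
  exact ⟨j.opensRange, a, b, hx, fun F' ⟨eF⟩ => hasRel_of_torAmp f i j φ (hφ inferInstance) w M eM
    ((torAmp_iff_stalks φ j K M eM a b).2 hab) F' eF⟩

theorem stalks_of_loc (f : X ⟶ S) {K : DCoh.D X} (hq : DCoh.IsQCohD K) (hK : DCoh.LocHasFiniteRelTorDim f K)
    (i : Spec R ⟶ S) [IsOpenImmersion i] (j : Spec A ⟶ X) [IsOpenImmersion j] (φ : R ⟶ A)
    (w : j ≫ f = Spec.map φ ≫ i) : ∃ a b : ℤ, ∀ y,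
      DRing.HasTorAmplitudeIn ((Spec R).presheaf.stalk ((Spec.map φ) y)) a b
        ((stD φ y).obj ((DPerf.resD j).obj K)) := by
  obtain ⟨M, ⟨eM⟩⟩ := exists_chartModule j hq
  obtain ⟨a, b, hab⟩ := exists_torAmp_of_loc f i j φ w hK M eM
  exact ⟨a, b, (torAmp_iff_stalks φ j K M eM a b).1 hab⟩

/-- Relatively perfect objects. -/
def RelPerf (f : X ⟶ S) : ObjectProperty (DCoh.D X) := fun E =>
  (∀ m : ℤ, DCoh.IsPseudoCoherentD m E) ∧ DCoh.LocHasFiniteRelTorDim f E

theorem isQCohD_of_pc {K : DCoh.D X} (h : ∀ m : ℤ, DCoh.IsPseudoCoherentD m K) : DCoh.IsQCohD K :=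
  fun i => DPerf.isQCoh_HD (h (i - 1)) (by omega)

theorem relPerf_iff_stalks (f : X ⟶ S) [Flat f] (K : DCoh.D X) :
    RelPerf f K ↔ (∀ m : ℤ, DPerf.Approx (Set.Ici m) K) ∧
      ∀ (R A : CommRingCat.{u}) (i : Spec R ⟶ S) [IsOpenImmersion i] (j : Spec A ⟶ X) [IsOpenImmersion j]
        (φ : R ⟶ A), j ≫ f = Spec.map φ ≫ i → ∃ a b : ℤ, ∀ y,
          DRing.HasTorAmplitudeIn ((Spec R).presheaf.stalk ((Spec.map φ) y)) a b
            ((stD φ y).obj ((DPerf.resD j).obj K)) :=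
  ⟨fun ⟨hp, hl⟩ => ⟨fun m => DPerf.approx_of_isPseudoCoherentD (hp m),
      fun R A i _ j _ φ w => stalks_of_loc f (isQCohD_of_pc hp) hl i j φ w⟩,
    fun ⟨hp, hl⟩ =>
      ⟨fun m => DPerf.isPseudoCoherentD_of_approx (hp m),
        loc_of_stalks f (isQCohD_of_pc fun m => DPerf.isPseudoCoherentD_of_approx (hp m)) hl⟩⟩

theorem relPerf_of_iso (f : X ⟶ S) [Flat f] {K L : DCoh.D X} (e : K ≅ L) (h : RelPerf f K) : RelPerf f L := by
  rw [relPerf_iff_stalks] at h ⊢
  refine ⟨fun m => (h.1 m).of_iso e, fun R A i _ j _ φ w => ?_⟩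
  obtain ⟨a, b, hab⟩ := h.2 R A i j φ w
  exact ⟨a, b, fun y => DBaseChange.hasTorAmplitudeIn_of_iso ((stD φ y).mapIso ((DPerf.resD j).mapIso e)) (hab y)⟩

theorem relPerf_zero (f : X ⟶ S) [Flat f] {Z : DCoh.D X} (hZ : IsZero Z) : RelPerf f Z := by
  rw [relPerf_iff_stalks]
  exact ⟨fun m => DPerf.approx_of_isZero_HD fun i _ => Functor.map_isZero _ hZ, fun R A i _ j _ φ _ =>
    ⟨0, 0, fun y => DBaseChange.hasTorAmplitudeIn_of_isZero
      ((stD φ y).map_isZero ((DPerf.resD j).map_isZero hZ)) _ _⟩⟩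

open Pretriangulated in
theorem isTriangulated_relPerf (f : X ⟶ S) [Flat f] : (RelPerf f).IsTriangulated where
  exists_zero := by
    obtain ⟨Z, hZ⟩ : ∃ Z : DCoh.D X, IsZero Z := HasZeroObject.zero
    exact ⟨Z, hZ, relPerf_zero f hZ⟩
  isStableUnderShiftBy n := ⟨fun K hK => by
    change RelPerf f (K⟦n⟧)
    rw [relPerf_iff_stalks] at hK ⊢
    refine ⟨fun m => (hK.1 (m + n)).shift_Ici n m (by omega), fun R A i _ j _ φ w => ?_⟩
    obtain ⟨a, b, hab⟩ := hK.2 R A i j φ w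
    exact ⟨a - n, b - n, fun y => DBaseChange.hasTorAmplitudeIn_of_iso
      ((((DPerf.resD j) ⋙ stD φ y).commShiftIso n).app K).symm
      (DBaseChange.hasTorAmplitudeIn_shift n (a - n) (b - n) (by omega) (by omega) (hab y))⟩⟩
  ext₂' T hT h₁ h₃ := by
    refine ObjectProperty.le_isoClosure _ _ ?_
    rw [relPerf_iff_stalks] at h₁ h₃ ⊢
    refine ⟨fun m => DPerf.approx_Ici₂ m T hT (h₁.1 m) (h₃.1 m), fun R A i _ j _ φ w => ?_⟩
    obtain ⟨a, b, hab⟩ := h₁.2 R A i j φ w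
    obtain ⟨a', b', hab'⟩ := h₃.2 R A i j φ w
    exact ⟨min a a', max b b', fun y => DBaseChange.torAmp_triangle₂ _ _ _
      ((stD φ y).map_distinguished _ ((DPerf.resD j).map_distinguished _ hT))
      (DBaseChange.hasTorAmplitudeIn_mono (min_le_left _ _) (le_max_left _ _) (hab y))
      (DBaseChange.hasTorAmplitudeIn_mono (min_le_right _ _) (le_max_right _ _) (hab' y))⟩

open Pretriangulated in
theorem isStableUnderRetracts_relPerf (f : X ⟶ S) [Flat f] : (RelPerf f).IsStableUnderRetracts where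
  of_retract {L K} r hK := by
    rw [relPerf_iff_stalks] at hK ⊢
    refine ⟨fun m => ?_, fun R A i _ j _ φ w => ?_⟩
    · obtain ⟨C, g, h, hT⟩ := distinguished_cocone_triangle r.i
      have hm : Mono r.i := IsSplitMono.mono r.i (hf := IsSplitMono.mk' ⟨r.r, r.retract⟩)
      obtain ⟨e, -⟩ := exists_iso_binaryBiproduct_of_distTriang _ hT (Triangle.mor₃_eq_zero_of_mono₁ _ hT hm)
      exact DPerf.approx_of_isPseudoCoherentD
        (DPerf.isPseudoCoherentD_biprod (DPerf.isPseudoCoherentD_of_approx ((hK.1 m).of_iso e))).1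
    · obtain ⟨a, b, hab⟩ := hK.2 R A i j φ w
      let F : DCoh.D X ⥤ _ := DPerf.resD j
      exact ⟨a, b, fun y => DBaseChange.torAmp_retract ((stD φ y).map (F.map r.i)) ((stD φ y).map (F.map r.r))
        (by rw [← Functor.map_comp, ← Functor.map_comp, r.retract, CategoryTheory.Functor.map_id,
          CategoryTheory.Functor.map_id]) a b (hab y)⟩

/-- The module of a relatively perfect object on a chart is relatively perfect. -/
theorem isRelPerfect_chart (f : X ⟶ S) (i : Spec R ⟶ S) [IsOpenImmersion i] (j : Spec A ⟶ X) [IsOpenImmersion j]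
    (φ : R ⟶ A) (w : j ≫ f = Spec.map φ ≫ i) {K : DCoh.D X} (hK : RelPerf f K) (M : Dual.D A)
    (eM : (DPerf.tildeDD A).obj M ≅ (DPerf.resD j).obj K) :
    @Dual2.IsRelPerfect R A _ _ φ.hom.toAlgebra M := by
  refine ⟨(DMod.pc'_iff M).2 fun m => (DPerf.pc_tilde_iff (R := A) m M).1
    (DPerf.isPseudoCoherentD_of_approx ((RelPCS8.approx_res (DPerf.approx_of_isPseudoCoherentD (hK.1 m)) j).of_iso eM.symm)), ?_⟩
  exact exists_torAmp_of_loc f i j φ w hK.2 M eM

/-- Relative perfection from a family of charts covering the source. -/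
theorem relPerf_of_charts (f : X ⟶ S) [Flat f] (K : DCoh.D X)
    (h : ∀ x : X, ∃ (R A : CommRingCat.{u}) (i : Spec R ⟶ S) (_ : IsOpenImmersion i) (j : Spec A ⟶ X)
      (_ : IsOpenImmersion j) (φ : R ⟶ A) (M : Dual.D A) (_ : φ.hom.Flat), x ∈ j.opensRange ∧
        j ≫ f = Spec.map φ ≫ i ∧ Nonempty ((DPerf.tildeDD A).obj M ≅ (DPerf.resD j).obj K) ∧
        @Dual2.IsRelPerfect R A _ _ φ.hom.toAlgebra M) : RelPerf f K := by
  refine ⟨fun m => DPerf.isPseudoCoherentD_of_approx (RelPCS8.approx_of_cover fun x => ?_), fun x => ?_⟩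
  · obtain ⟨R, A, i, hi, j, hj, φ, M, -, hx, -, ⟨eM⟩, hp, -⟩ := h x
    exact ⟨_, j, hj, hx, (DPerf.approx_of_isPseudoCoherentD
      ((DPerf.pc_tilde_iff (R := A) m M).2 ((DMod.pc'_iff M).1 hp m))).of_iso eM⟩
  · obtain ⟨R, A, i, hi, j, hj, φ, M, hφ, hx, w, ⟨eM⟩, -, a, b, hab⟩ := h x
    exact ⟨j.opensRange, a, b, hx, fun F' ⟨eF⟩ => hasRel_of_torAmp f i j φ hφ w M eM hab F' eF⟩

end Groth.Agent.RelT
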