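import Groth.Agent.Lib.DGen9.Lift
import Groth.Agent.Lib.DGen9.Approx
import Groth.Agent.Lib.DGam9.Basic
import Mathlib.CategoryTheory.Triangulated.Triangulated

/-! Approximation by perfect complexes on qcqs schemes. -/

set_option autoImplicit false
set_option linter.unusedSectionVars false
set_option linter.style.haveILetI false
set_option backward.isDefEq.respectTransparency false
set_option backward.isDefEq.respectTransparency.types false
set_option maxHeartbeats 800000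

universe u

open CategoryTheory CategoryTheory.Limits AlgebraicGeometry Pretriangulated

attribute [local instance] HasDerivedCategory.standard

namespace Groth.Agent.DGen9

attribute [local instance] DBC9.hasRpush

variable {X : Scheme.{u}}

local notation "HH" => DerivedCategory.homologyFunctor

/-- An approximation in degrees `≥ m`. -/
def ApproxMap (m : ℤ) {P E : DCoh.D X} (α : P ⟶ E) : Prop :=
  ∀ i, m ≤ i → Epi ((HH X.Modules i).map α) ∧ Mono ((HH X.Modules (i + 1)).map α)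

theorem ApproxMap.comp_iso {m : ℤ} {P E E' : DCoh.D X} {α : P ⟶ E} (h : ApproxMap m α) (e : E ⟶ E') [IsIso e] :
    ApproxMap m (α ≫ e) := fun i hi => by
  obtain ⟨h₁, h₂⟩ := h i hi
  rw [Functor.map_comp, Functor.map_comp]
  exact ⟨epi_comp _ _, mono_comp _ _⟩

theorem ApproxMap.iso_comp {m : ℤ} {P P' E : DCoh.D X} {α : P ⟶ E} (h : ApproxMap m α) (e : P' ⟶ P) [IsIso e] :
    ApproxMap m (e ≫ α) := fun i hi => by
  obtain ⟨h₁, h₂⟩ := h i hi
  rw [Functor.map_comp, Functor.map_comp]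
  exact ⟨epi_comp _ _, mono_comp _ _⟩

theorem approxMap_iff_isZero {m : ℤ} (T : Triangle (DCoh.D X)) (hT : T ∈ distTriang _) :
    ApproxMap m T.mor₁ ↔ ∀ i, m ≤ i → IsZero (DCoh.HD T.obj₃ i) := by
  refine ⟨fun h i hi => ?_, fun h i hi => ⟨?_, ?_⟩⟩
  · exact (DerivedCategory.HomologySequence.exact₃ T hT i (i + 1) rfl).isZero_of_both_zeros
      ((DerivedCategory.HomologySequence.epi_homologyMap_mor₁_iff T hT i).1 (h i hi).1)
      ((DerivedCategory.HomologySequence.mono_homologyMap_mor₁_iff T hT i (i + 1) rfl).1 (h i hi).2)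
  · exact (DerivedCategory.HomologySequence.epi_homologyMap_mor₁_iff T hT i).2 ((h i hi).eq_of_tgt _ _)
  · exact (DerivedCategory.HomologySequence.mono_homologyMap_mor₁_iff T hT i (i + 1) rfl).2 ((h i hi).eq_of_src _ _)

theorem stalkZero₃ (T : Triangle (DCoh.D X)) (hT : T ∈ distTriang _) (x : X) (i : ℤ)
    (h₂ : RHom.StalkZero x (DCoh.HD T.obj₂ i)) (h₁ : RHom.StalkZero x (DCoh.HD T.obj₁ (i + 1))) :
    RHom.StalkZero x (DCoh.HD T.obj₃ i) :=
  ((DerivedCategory.HomologySequence.exact₃ T hT i (i + 1) rfl).map (M1.stalkAb x)).isZero_of_both_zeros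
    (h₂.eq_of_src _ _) (h₁.eq_of_tgt _ _)

theorem approxMap_resD {m : ℤ} {P E : DCoh.D X} {α : P ⟶ E} (h : ApproxMap m α) {Z : Scheme.{u}} (j : Z ⟶ X)
    [IsOpenImmersion j] : ApproxMap m ((DPerf.resD j).map α) := by
  obtain ⟨C, u, v, hT⟩ := distinguished_cocone_triangle α
  refine (approxMap_iff_isZero _ ((DPerf.resD j).map_distinguished _ hT)).2 fun i hi => ?_
  exact ((Scheme.Modules.restrictFunctor j).map_isZero ((approxMap_iff_isZero _ hT).1 h i hi)).of_iso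
    (DPerf.hdResIso j C i)

theorem isPseudoCoherentD_resD {Z : Scheme.{u}} (j : Z ⟶ X) [IsOpenImmersion j] {K : DCoh.D X} {m : ℤ}
    (h : DCoh.IsPseudoCoherentD m K) : DCoh.IsPseudoCoherentD m ((DPerf.resD j).obj K) := by
  refine DPerf.isPseudoCoherentD_of_approx fun z => ?_
  obtain ⟨W, hW, hW'⟩ := (DPerf.approx_of_isPseudoCoherentD h).exists_opens (j z)
  let k := (j ⁻¹ᵁ W).ι
  have hr : Set.range (k ≫ j) ⊆ Set.range W.ι := by
    rintro _ ⟨w, rfl⟩
    exact ⟨⟨_, w.2⟩, by simp [k]⟩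
  obtain ⟨E, hE, α, hα⟩ := (hW' W le_rfl).res (IsOpenImmersion.lift W.ι (k ≫ j) hr) (IsOpenImmersion.lift_fac _ _ _)
  exact ⟨_, k, inferInstance, ⟨⟨z, hW⟩, rfl⟩, E, hE, α ≫ (DPerf.resDComp j k).inv.app K,
    hα.comp (@DPerf.dcond_of_isIso _ _ _ _ _ _ _ _ ((DPerf.resDComp j k).app K).isIso_inv)⟩

theorem stalkZero_HD_resD {Z : Scheme.{u}} (j : Z ⟶ X) [IsOpenImmersion j] (K : DCoh.D X) (z : Z) (i : ℤ) :
    RHom.StalkZero z (DCoh.HD ((DPerf.resD j).obj K) i) ↔ RHom.StalkZero (j z) (DCoh.HD K i) :=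
  ⟨fun h => (RHom.stalkZero_restrict_iff j z _).1 (RHom.stalkZero_iso (DPerf.hdResIso j K i) h),
    fun h => RHom.stalkZero_iso (DPerf.hdResIso j K i).symm ((RHom.stalkZero_restrict_iff j z _).2 h)⟩

theorem support_resD {T : Set X} {Z : Scheme.{u}} (j : Z ⟶ X) [IsOpenImmersion j] {K : DCoh.D X} {i : ℤ}
    (h : CohB1.support (DCoh.HD K i) ⊆ T) : CohB1.support (DCoh.HD ((DPerf.resD j).obj K) i) ⊆ j ⁻¹' T := fun z hz => by
  by_contra hzT
  exact hz (AddCommGrpCat.subsingleton_of_isZero ((stalkZero_HD_resD j K z i).2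
    (DMV.stalkZero_of_not_mem_support fun h' => hzT (h h'))))

theorem stalkZero_of_isZero (x : X) {M : X.Modules} (h : IsZero M) : RHom.StalkZero x M :=
  (M1.stalkAb x).map_isZero h

/-- The approximation property. -/
def HasApprox (X : Scheme.{u}) : Prop :=
  ∀ T : Set X, IsClosed T → IsCompact Tᶜ → ∃ r : ℕ, ∀ (m : ℤ) (E : DCoh.D X), DCoh.IsQCohD E →
    DCoh.IsPseudoCoherentD (m - r) E → (∀ i : ℤ, m - r ≤ i → CohB1.support (DCoh.HD E i) ⊆ T) →
      ∃ (P : DCoh.D X) (α : P ⟶ E), DCoh.IsPerfect P ∧ SuppOn T P ∧ ApproxMap m α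

theorem hasApprox_affine (X : Scheme.{u}) [IsAffine X] : HasApprox X := fun T hT hTc => by
  classical
  obtain ⟨l, hl⟩ := exists_covers X.isoSpec hT hTc
  have hTz : X.zeroLocus (U := ⊤) (↑l.toFinset : Set Γ(X, ⊤)) = T := by
    ext x
    have hpre : ∀ a : Γ(X, ⊤), X.isoSpec.hom x ∈ M1.bo a ↔ x ∈ X.basicOpen a := fun a => by
      rw [← Scheme.toSpecΓ_preimage_basicOpen X a]
      rfl
    rw [Scheme.mem_zeroLocus_iff]
    refine ⟨fun h => ?_, fun h a ha hxa => (hl x).2 ⟨a, List.mem_toFinset.1 ha, (hpre a).2 hxa⟩ h⟩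
    by_contra hxT
    obtain ⟨a, ha, hxa⟩ := (hl x).1 hxT
    exact h a (List.mem_toFinset.2 ha) ((hpre a).1 hxa)
  refine ⟨l.toFinset.card, fun m E hE hpc hsupp => ?_⟩
  obtain ⟨P, α, hP, hPT, hiso, hepi⟩ := exists_approx_affine X l.toFinset m E hE
    (isPseudoCoherentD_mono hpc (by omega)) (fun i hi => hTz.symm ▸ hsupp i (by omega))
  refine ⟨P, α, hP, suppOn_mono hTz.le hPT, fun i hi => ⟨?_, ?_⟩⟩
  · rcases hi.eq_or_lt with rfl | hi'
    · exact hepi
    · haveI := hiso i hi'; infer_instance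
  · haveI := hiso (i + 1) (by omega); infer_instance

theorem hasApprox_of_iso {Y Y' : Scheme.{u}} (e : Y ≅ Y') (h : HasApprox Y) : HasApprox Y' := fun T hT hTc => by
  have hpre : e.inv ⁻¹' (e.hom ⁻¹' T) = T := by
    ext y; simp
  obtain ⟨r, hr⟩ := h (e.hom ⁻¹' T) (hT.preimage e.hom.continuous) (e.hom.homeomorph.isCompact_preimage.2 hTc)
  refine ⟨r, fun m E hE hpc hsupp => ?_⟩
  obtain ⟨P, α, hP, hPT, hα⟩ := hr m _ (DQC.isQCohD_resD e.hom hE) (isPseudoCoherentD_resD e.hom hpc)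
    (fun i hi => support_resD e.hom (hsupp i hi))
  refine ⟨(DPerf.resD e.inv).obj P, (DPerf.resD e.inv).map α ≫ (resEquiv e).unitIso.inv.app E,
    isPerfect_resD e.inv hP, ?_, (approxMap_resD hα e.inv).comp_iso _⟩
  have := suppOn_resD e.inv hPT
  rwa [hpre] at this

set_option maxHeartbeats 3200000 in
theorem hasApprox_union [CompactSpace X] [QuasiSeparatedSpace X] {U V : X.Opens} (hU : IsCompact (U : Set X))
    (hV : IsAffineOpen V) (hUV : U ⊔ V = ⊤) (ha : HasApprox (U : Scheme.{u})) : HasApprox X := fun T hT hTc => by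
  haveI : IsAffine (V : Scheme.{u}) := hV
  haveI := quasiCompact_ι hU
  haveI := quasiCompact_ι hV.isCompact
  haveI : CompactSpace U := isCompact_iff_compactSpace.1 hU
  have hcov : ∀ x : X, x ∈ U ∨ x ∈ V := fun x => by
    have hx : x ∈ U ⊔ V := hUV ▸ trivial
    exact hx
  let T' : Set X := T ∩ (U : Set X)ᶜ
  have hT' : IsClosed T' := hT.inter U.2.isClosed_compl
  have hT'c : IsCompact T'ᶜ := by
    rw [Set.compl_inter, compl_compl]; exact hTc.union hU
  have hT'V : T' ⊆ (V : Set X) := fun x hx => (hcov x).resolve_left hx.2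
  obtain ⟨rU, hrU⟩ := ha (U.ι ⁻¹' T) (hT.preimage U.ι.continuous) (by
    rw [← Set.preimage_compl]; exact Scheme.Hom.isCompact_preimage U.ι (U := ⟨Tᶜ, hT.isOpen_compl⟩) hTc)
  obtain ⟨rV, hrV⟩ := hasApprox_affine (V : Scheme.{u}) (V.ι ⁻¹' T') (hT'.preimage V.ι.continuous) (by
    rw [← Set.preimage_compl]; exact Scheme.Hom.isCompact_preimage V.ι (U := ⟨T'ᶜ, hT'.isOpen_compl⟩) hT'c)
  refine ⟨rU + rV + 1, fun m E hE hpc hsupp => ?_⟩
  obtain ⟨m₁, hm₁⟩ : ∃ m₁ : ℤ, m₁ = m - rV - 1 := ⟨_, rfl⟩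
  let RU := DPerf.resD U.ι
  let RV := DPerf.resD V.ι
  obtain ⟨P₁, α₁, hP₁, hP₁T, hα₁⟩ := hrU m₁ _ (DQC.isQCohD_resD U.ι hE)
    (isPseudoCoherentD_mono (isPseudoCoherentD_resD U.ι hpc) (by omega))
    (fun i hi => support_resD U.ι (hsupp i (by omega)))
  obtain ⟨b, hb⟩ := DPerf.exists_isLE_of_pseudoCoherent (isPseudoCoherentD_of_isPerfect hP₁ 0)
  obtain ⟨R₀, hR₀, hR₀T, ⟨e₀⟩⟩ := exists_glue_odd hU hV hUV hT hTc hP₁ hP₁T (b - m₁).toNat
  obtain ⟨c, hc⟩ : ∃ c : ℤ, (2 * (b - m₁).toNat + 1 : ℤ) = c := ⟨_, rfl⟩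
  rw [hc] at e₀
  obtain ⟨R₁, π, β, hR₁, hR₁T, hπ, hβ⟩ :=
    exists_lift_step hU hV hUV hT hTc hR₀ hR₀T hE (e₀.hom ≫ biprod.fst ≫ α₁)
  obtain ⟨E₁, u₁, v₁, hE₁⟩ := distinguished_cocone_triangle β
  have hfst : ApproxMap m₁ (biprod.fst : P₁ ⊞ P₁⟦c⟧ ⟶ P₁) := by
    have key : ∀ i, m₁ ≤ i → IsIso ((HH (U : Scheme.{u}).Modules i).map (biprod.fst : P₁ ⊞ P₁⟦c⟧ ⟶ P₁)) := fun i hi => by
      let H := HH (U : Scheme.{u}).Modules i
      have hz : IsZero (H.obj (P₁⟦c⟧)) :=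
        DMV.isZero_HD_shift P₁ c i ((DerivedCategory.isLE_iff _ _).1 hb (c + i) (by omega))
      refine ⟨H.map biprod.inl, ?_, ?_⟩
      · have h := congrArg H.map (biprod.total (X := P₁) (Y := P₁⟦c⟧))
        rw [Functor.map_add, Functor.map_comp, Functor.map_comp, hz.eq_of_tgt (H.map biprod.snd) 0, zero_comp,
          add_zero, CategoryTheory.Functor.map_id] at h
        exact h
      · rw [← Functor.map_comp, biprod.inl_fst, CategoryTheory.Functor.map_id]
    intro i hi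
    haveI := key i hi
    haveI := key (i + 1) (by omega)
    exact ⟨inferInstance, inferInstance⟩
  have hE₁U : ∀ i, m₁ ≤ i → IsZero (DCoh.HD (RU.obj E₁) i) :=
    (approxMap_iff_isZero _ (RU.map_distinguished _ hE₁)).1 (show ApproxMap m₁ (RU.map β) by
      rw [← hβ]
      haveI : IsIso (RU.map π) := hπ
      refine ApproxMap.iso_comp (ApproxMap.iso_comp (fun i hi => ?_) e₀.hom) (RU.map π)
      obtain ⟨h₁, h₂⟩ := hfst i hi
      obtain ⟨h₃, h₄⟩ := hα₁ i hi
      rw [Functor.map_comp, Functor.map_comp]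
      exact ⟨epi_comp _ _, mono_comp _ _⟩)
  have hxU : ∀ x, x ∈ U → ∀ i, m₁ ≤ i → RHom.StalkZero x (DCoh.HD E₁ i) := fun x hx i hi =>
    (stalkZero_HD_resD U.ι E₁ ⟨x, hx⟩ i).1 (stalkZero_of_isZero _ (hE₁U i hi))
  have hE₁q : DCoh.IsQCohD E₁ := DPush.isQCohD_obj₃ _ hE₁ (isQCohD_of_isPerfect hR₁) hE
  have hE₁pc : DCoh.IsPseudoCoherentD (m - rV) E₁ :=
    isPseudoCoherentD_mono (DPerf.isPseudoCoherentD_of_approx (DPerf.approx_Ici₃ _ _ hE₁
      (DPerf.approx_of_isPseudoCoherentD (isPseudoCoherentD_of_isPerfect hR₁ _))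
      (DPerf.approx_of_isPseudoCoherentD hpc))) (by omega)
  have hE₁supp : ∀ i, m - rV ≤ i → CohB1.support (DCoh.HD E₁ i) ⊆ T' := fun i hi x hx => by
    refine ⟨?_, fun hxU' => hx (AddCommGrpCat.subsingleton_of_isZero (hxU x hxU' i (by omega)))⟩
    by_contra hxT
    exact hx (AddCommGrpCat.subsingleton_of_isZero (stalkZero₃ _ hE₁ x i
      (DMV.stalkZero_of_not_mem_support fun h => hxT (hsupp i (by omega) h)) (stalkZero_of_suppOn hR₁T hxT _)))
  obtain ⟨P₂, α₂, hP₂, hP₂T, hα₂⟩ := hrV m _ (DQC.isQCohD_resD V.ι hE₁q) (isPseudoCoherentD_resD V.ι hE₁pc)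
    (fun i hi => support_resD V.ι (hE₁supp i hi))
  let Q := (DCoh.Rpush V.ι).obj P₂
  have hQ : DCoh.IsPerfect Q := DMV.isPerfect_rpush_of_support V P₂ hP₂ _ hT' hT'V
    fun i => Set.image_subset_iff.2 (hP₂T i)
  have hQT : SuppOn T' Q := suppOn_rpush V.ι hT' hP₂T
  let adjV := adjR V.ι
  obtain ⟨W, uW, vW, hW⟩ := distinguished_cocone_triangle (adjV.unit.app E₁)
  have hVU : (V : Set X)ᶜ ⊆ (U : Set X) := fun x hx => (hcov x).resolve_right hx
  haveI := isIso_resD_unit V.ι E₁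
  obtain ⟨eW⟩ := DMV.nonempty_iso_rpush_restrict U _ V.2.isClosed_compl hVU W (by
    have h : SuppOn ((V : Set X)ᶜ) W := by
      refine suppOn_mono (le_of_eq ?_) (suppOn_of_isZero_resD V.ι (isZero_resD_cone V.ι hW))
      erw [Scheme.Opens.range_ι]
    exact h)
  obtain ⟨γ, hγ⟩ := (DGam9.bijective_comp U.ι (isZero_resD_of_suppOn U.ι hQT fun x h => h.2 x.2) hW eW).2
    ((DCoh.Rpush V.ι).map α₂)
  simp only at hγ
  have hγV : RV.map γ = (resPushIso V.ι P₂).hom ≫ α₂ := by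
    haveI := isIso_counit V.ι
    have h := congrArg (fun z => RV.map z ≫ adjV.counit.app (RV.obj E₁)) hγ
    simp only [Functor.map_comp, Category.assoc] at h
    have ht : RV.map (adjV.unit.app E₁) ≫ adjV.counit.app (RV.obj E₁) = 𝟙 _ := adjV.left_triangle_components E₁
    rw [ht, Category.comp_id] at h
    exact h.trans (adjV.counit.naturality α₂)
  obtain ⟨E₂, u₂, v₂, hE₂⟩ := distinguished_cocone_triangle γ
  have hE₂z : ∀ i, m ≤ i → IsZero (DCoh.HD E₂ i) := fun i hi => by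
    refine DPerf.isZero_of_stalks fun x => AddCommGrpCat.subsingleton_of_isZero ?_
    rcases hcov x with hx | hx
    · exact stalkZero₃ _ hE₂ x i (hxU x hx i (by omega)) (stalkZero_of_suppOn hQT (fun h => h.2 hx) _)
    · refine (stalkZero_HD_resD V.ι E₂ ⟨x, hx⟩ i).1 (stalkZero_of_isZero _ ?_)
      refine (approxMap_iff_isZero _ (RV.map_distinguished _ hE₂)).1 (show ApproxMap m (RV.map γ) from ?_) i hi
      rw [hγV]
      exact hα₂.iso_comp _
  obtain ⟨P, α, v, hP⟩ := distinguished_cocone_triangle₁ (u₁ ≫ u₂)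
  let o := Triangulated.someOctahedron rfl (rot_of_distTriang _ hE₁) (rot_of_distTriang _ hE₂)
    (rot_of_distTriang _ hP)
  refine ⟨P, α, ?_, ?_, (approxMap_iff_isZero _ hP).2 hE₂z⟩
  · have h : DCoh.IsPerfect (P⟦(1 : ℤ)⟧) :=
      isPerfect_obj₂ o.triangle o.mem (isPerfect_shiftD hR₁ 1) (isPerfect_shiftD hQ 1)
    exact isPerfect_of_iso ((shiftFunctorCompIsoId (DCoh.D X) (1 : ℤ) (-1) (by omega)).app P) (isPerfect_shiftD h (-1))
  · have h : SuppOn T (P⟦(1 : ℤ)⟧) :=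
      suppOn_triangle₂ o.triangle o.mem (suppOn_shift hR₁T 1) (suppOn_shift (suppOn_mono Set.inter_subset_left hQT) 1)
    exact suppOn_of_iso ((shiftFunctorCompIsoId (DCoh.D X) (1 : ℤ) (-1) (by omega)).app P) (suppOn_shift h (-1))

theorem hasApprox (X : Scheme.{u}) [CompactSpace X] [QuasiSeparatedSpace X] : HasApprox X := by
  have key : HasApprox ((⊤ : X.Opens) : Scheme.{u}) := by
    refine compact_open_induction_on (P := fun S : X.Opens => HasApprox (S : Scheme.{u})) (⊤ : X.Opens)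
      (by simpa using isCompact_univ) ?_ fun S hS V hg => ?_
    · haveI : IsAffine ((⊥ : X.Opens) : Scheme.{u}) := isAffineOpen_bot X
      exact hasApprox_affine _
    · haveI := QuasiSeparatedSpace.of_isOpenEmbedding (S ⊔ V.1).ι.isOpenEmbedding
      have hc : IsCompact ((S ⊔ V.1 : X.Opens) : Set X) := by simpa using hS.union V.2.isCompact
      haveI := quasiCompact_ι (W := S ⊔ V.1) hc
      haveI : CompactSpace (S ⊔ V.1 : X.Opens) := isCompact_iff_compactSpace.1 hc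
      refine hasApprox_union (U := (S ⊔ V.1).ι ⁻¹ᵁ S) (V := (S ⊔ V.1).ι ⁻¹ᵁ V.1)
        (Scheme.Hom.isCompact_preimage _ (U := S) hS) (isAffineOpen_sub V.2 le_sup_right) ?_
        (hasApprox_of_iso (subOpenIso le_sup_left).symm hg)
      rw [← Scheme.Hom.preimage_sup, Scheme.Opens.ι_preimage_self]
  exact hasApprox_of_iso X.topIso key

theorem exists_approximation (X : Scheme.{u}) [CompactSpace X] [QuasiSeparatedSpace X]
    (T : Set X) (hT : IsClosed T) (hTc : IsCompact Tᶜ) :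
    ∃ r : ℤ, ∀ (m : ℤ) (E : DCoh.D X), DCoh.IsQCohD E → DCoh.IsPseudoCoherentD (m - r) E →
      (∀ i : ℤ, m - r ≤ i → CohB1.support (DCoh.HD E i) ⊆ T) →
      ∃ (P : DCoh.D X) (α : P ⟶ E), DCoh.IsPerfect P ∧ SuppOn T P ∧
        (∀ i : ℤ, m < i → IsIso ((DerivedCategory.homologyFunctor X.Modules i).map α)) ∧
        Epi ((DerivedCategory.homologyFunctor X.Modules m).map α) := by
  obtain ⟨r, hr⟩ := hasApprox X T hT hTc
  refine ⟨r, fun m E hE hpc hsupp => ?_⟩
  obtain ⟨P, α, hP, hPT, hα⟩ := hr m E hE hpc hsupp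
  refine ⟨P, α, hP, hPT, fun i hi => ?_, (hα m le_rfl).1⟩
  haveI := (hα i hi.le).1
  haveI : Mono ((DerivedCategory.homologyFunctor X.Modules i).map α) := by
    have := (hα (i - 1) (by omega)).2
    rwa [sub_add_cancel] at this
  exact isIso_of_mono_of_epi _

end Groth.Agent.DGen9
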