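import Groth.Agent.Lib.DGen9.PerfMain
import Groth.Agent.Lib.DGen9.GlobalApprox

/-!
# Pseudo-coherent and relatively perfect direct images
-/

set_option autoImplicit false
set_option linter.style.haveILetI false
set_option linter.unusedSectionVars false
set_option backward.isDefEq.respectTransparency false
set_option backward.isDefEq.respectTransparency.types false
set_option maxHeartbeats 800000

universe u

open CategoryTheory CategoryTheory.Limits AlgebraicGeometry Pretriangulated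

attribute [local instance] HasDerivedCategory.standard

namespace Groth.Agent.PerfPush9

open DMon9

attribute [local instance] DBC9.hasRpush

variable {X : Scheme.{u}}

/-- If all perfect objects have perfect direct image, pseudo-coherent objects have pseudo-coherent direct image. -/
theorem pc_rpush_of_perfect [CompactSpace X] [QuasiSeparatedSpace X] {S : Scheme.{u}} [CompactSpace S] (f : X ⟶ S)
    [QuasiCompact f] [QuasiSeparated f]
    (hperf : ∀ P : DCoh.D X, DCoh.IsPerfect P → DCoh.IsPerfect ((DCoh.Rpush f).obj P)) (E : DCoh.D X)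
    (hE : ∀ m : ℤ, DCoh.IsPseudoCoherentD m E) (m : ℤ) :
    DCoh.IsPseudoCoherentD m ((DCoh.Rpush f).obj E) := by
  obtain ⟨r, hr⟩ := DGen9.exists_approximation X Set.univ isClosed_univ (by simp)
  obtain ⟨N, hN⟩ := DPush.exists_bound f
  obtain ⟨_, _⟩ := DPush.exists_commShift_isTriangulated f
  have hq := RelT.isQCohD_of_pc hE
  obtain ⟨P, α, hP, -, hα, hα'⟩ := hr (m - N) E hq (hE _) (fun i _ => Set.subset_univ _)
  obtain ⟨C, g, w, hT⟩ := distinguished_cocone_triangle α
  have hd : DPerf.DCond (Set.Ici (m - N)) α := fun i hi => by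
    refine ⟨?_, ?_⟩
    · rcases (Set.mem_Ici.1 hi).eq_or_lt with h | h
      · exact h ▸ hα'
      · haveI := hα i h; infer_instance
    · haveI := hα (i + 1) (by have := Set.mem_Ici.1 hi; omega); infer_instance
  have hz : ∀ i, m - N ≤ i → IsZero (DCoh.HD C i) := fun i hi =>
    DPerf.isZero_homology_of_dcond hT hd (show i ∈ Set.Ici (m - (N : ℤ)) from hi)
  have hC : C.IsLE (m - N - 1) := (DerivedCategory.isLE_iff _ _).2 fun i hi => hz i (by omega)
  have hCq : DCoh.IsQCohD C := DPush.isQCohD_obj₃ _ hT (DGen9.isQCohD_of_isPerfect hP) hq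
  refine DPerf.isPseudoCoherentD_of_approx (DPerf.approx_Ici₂ m _ ((DCoh.Rpush f).map_distinguished _ hT)
    ((DPerf.isPerfect_iff_approx.1 (hperf P hP)).mono_set (Set.subset_univ _))
    (DPerf.approx_of_isZero_HD fun i hi => hN C hCq _ hC i (by omega)))

/-- Pseudo-coherence can be checked on affine opens of the base. -/
theorem pc_rpush_of_affine {S : Scheme.{u}} (f : X ⟶ S) (E : DCoh.D X) (m : ℤ)
    (h : ∀ (V : S.Opens) (hV : IsAffineOpen V), DCoh.IsPseudoCoherentD m
      ((DCoh.Rpush (f ∣_ V ≫ hV.isoSpec.hom)).obj ((DPerf.resD (f ⁻¹ᵁ V).ι).obj E))) :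
    DCoh.IsPseudoCoherentD m ((DCoh.Rpush f).obj E) := by
  refine DPerf.isPseudoCoherentD_of_approx (DPerf.Approx.of_cover fun s => ?_)
  obtain ⟨V, hV, hsV, -⟩ := exists_isAffineOpen_mem_and_subset (X := S) (x := s) (U := ⊤) trivial
  have H : IsPullback (f ∣_ V ≫ hV.isoSpec.hom) (f ⁻¹ᵁ V).ι hV.fromSpec f :=
    (isPullback_morphismRestrict f V).of_iso (Iso.refl _) hV.isoSpec (Iso.refl _) (Iso.refl _)
      (by simp) (by simp) (by rw [← IsAffineOpen.isoSpec_hom_fromSpec hV]; simp) (by simp)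
  obtain ⟨c⟩ := DBC9.nonempty_res_rpush f (f ∣_ V ≫ hV.isoSpec.hom) hV.fromSpec (f ⁻¹ᵁ V).ι H
  exact ⟨_, hV.fromSpec, inferInstance, by rw [IsAffineOpen.range_fromSpec]; exact hsV,
    (DPerf.approx_of_isPseudoCoherentD (h V hV)).of_iso (c.app E).symm⟩

theorem pc_res {Z : Scheme.{u}} (j : Z ⟶ X) [IsOpenImmersion j] {E : DCoh.D X} {m : ℤ}
    (h : DCoh.IsPseudoCoherentD m E) : DCoh.IsPseudoCoherentD m ((DPerf.resD j).obj E) :=
  DPerf.isPseudoCoherentD_of_approx (RelPCS8.approx_res (DPerf.approx_of_isPseudoCoherentD h) j)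

/-- Flat proper morphisms of finite presentation preserve pseudo-coherence. -/
theorem pc_rpush_flat {S : Scheme.{u}} (f : X ⟶ S) [IsProper f] [Flat f] [LocallyOfFinitePresentation f]
    (E : DCoh.D X) (hE : ∀ m : ℤ, DCoh.IsPseudoCoherentD m E) (m : ℤ) :
    DCoh.IsPseudoCoherentD m ((DCoh.Rpush f).obj E) :=
  pc_rpush_of_affine f E m fun V hV => by
    haveI : CompactSpace (f ⁻¹ᵁ V : Scheme.{u}) :=
      QuasiCompact.compactSpace_of_compactSpace (f ∣_ V ≫ hV.isoSpec.hom)
    haveI : QuasiSeparatedSpace (f ⁻¹ᵁ V : Scheme.{u}) :=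
      quasiSeparatedSpace_of_quasiSeparated (f ∣_ V ≫ hV.isoSpec.hom)
    exact pc_rpush_of_perfect _ (fun P hP => isPerfect_rpush_flat _ P hP) _ (fun m => pc_res _ (hE m)) m

/-- Flat proper morphisms of finite presentation send relatively perfect objects to perfect ones. -/
theorem isPerfect_rpush_relPerf {S : Scheme.{u}} (f : X ⟶ S) [IsProper f] [Flat f] [LocallyOfFinitePresentation f]
    (E : DCoh.D X) (hpc : ∀ m : ℤ, DCoh.IsPseudoCoherentD m E) (htor : DCoh.LocHasFiniteRelTorDim f E) :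
    DCoh.IsPerfect ((DCoh.Rpush f).obj E) := by
  refine isPerfect_rpush_of_affine f E fun V hV => ?_
  let u := f ∣_ V ≫ hV.isoSpec.hom
  haveI : CompactSpace (f ⁻¹ᵁ V : Scheme.{u}) := QuasiCompact.compactSpace_of_compactSpace u
  haveI : QuasiSeparatedSpace (f ⁻¹ᵁ V : Scheme.{u}) := quasiSeparatedSpace_of_quasiSeparated u
  let E' := (DPerf.resD (f ⁻¹ᵁ V).ι).obj E
  have hpc' : ∀ m, DCoh.IsPseudoCoherentD m E' := fun m => pc_res _ (hpc m)
  refine isPerfect_of_finAmp (pc_rpush_flat u E' hpc') (TorPush9.finAmp_rpush u E' (RelT.isQCohD_of_pc hpc') ?_)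
  intro A j _ φ M w e
  exact RelT.exists_torAmp_of_loc f hV.fromSpec (j ≫ (f ⁻¹ᵁ V).ι) φ
    (by rw [← w, Category.assoc, Category.assoc, Category.assoc, IsAffineOpen.isoSpec_hom_fromSpec,
      morphismRestrict_ι]) htor M (e ≪≫ (DPerf.resDComp (f ⁻¹ᵁ V).ι j).app E)

end Groth.Agent.PerfPush9
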