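import Groth.Agent.Lib.DGen9.Hocolim
import Groth.Prelude.Def_Koszul
import Groth.Prelude.Def_Wider

/-! Orthogonality to a Koszul complex on an affine scheme. -/

set_option autoImplicit false
set_option linter.unusedSectionVars false
set_option linter.style.haveILetI false
set_option backward.isDefEq.respectTransparency false
set_option backward.isDefEq.respectTransparency.types false
set_option maxHeartbeats 1600000

universe u

open CategoryTheory CategoryTheory.Limits AlgebraicGeometry Pretriangulated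

attribute [local instance] HasDerivedCategory.standard

namespace Groth.Agent.DGen9.KO

section Ring

variable {R : Type u} [CommRing R]

/-- The Koszul object. -/
noncomputable abbrev KD (fs : List R) : Dual.D R := DerivedCategory.Q.obj (Koszul.koszul R fs)

/-- All maps into the `n`-th shift vanish. -/
def Orth (K E : Dual.D R) (n : ℤ) : Prop := ∀ φ : K ⟶ E⟦n⟧, φ = 0

theorem exists_triangle (a : R) (l : List R) :
    ∃ (g : KD l ⟶ KD (a :: l)) (h : KD (a :: l) ⟶ (KD l)⟦(1 : ℤ)⟧),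
      Triangle.mk (a • 𝟙 (KD l)) g h ∈ distTriang (Dual.D R) := by
  let φ := a • 𝟙 (Koszul.koszul R l)
  have hφ : DerivedCategory.Q.map φ = a • 𝟙 (KD l) :=
    (Functor.map_smul DerivedCategory.Q _ _).trans (congrArg (a • ·) (CategoryTheory.Functor.map_id _ _))
  refine ⟨(DerivedCategory.Q.mapTriangle.obj (CochainComplex.mappingCone.triangle φ)).mor₂,
    (DerivedCategory.Q.mapTriangle.obj (CochainComplex.mappingCone.triangle φ)).mor₃, ?_⟩
  rw [← hφ]
  exact DerivedCategory.mappingCone_triangle_distinguished φ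

/-- The empty Koszul object. -/
noncomputable def nilIso : pt (R := R) 0 ≅ KD ([] : List R) :=
  (DerivedCategory.singleFunctorIsoCompQ (ModuleCat.{u} R) 0).app _

theorem supp_KD : ∀ (fs : List R), ∀ a ∈ fs, Supp a (KD fs)
  | [], a, h => by simp at h
  | b :: l, a, h => by
    obtain ⟨g, h', hT⟩ := exists_triangle b l
    rcases List.mem_cons.1 h with rfl | h
    · exact supp_cone 1 (by rw [pow_one]; exact hT)
    · exact supp_triangle₃ _ hT (supp_KD l a h) (supp_KD l a h)

theorem isPerfect_KD : ∀ fs : List R, DRing.IsPerfect R (KD fs)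
  | [] => DBaseChange.isPerfect_of_iso nilIso (isPerfect_pt 0)
  | b :: l => by
    obtain ⟨g, h', hT⟩ := exists_triangle b l
    exact DBaseChange.isPerfect_triangle₂ _ (rot_of_distTriang _ hT) (isPerfect_KD l)
      (DBaseChange.isPerfect_shift _ (isPerfect_KD l))

theorem isLE_KD : ∀ fs : List R, DerivedCategory.TStructure.t.IsLE (KD fs) 0
  | [] => DerivedCategory.TStructure.t.isLE_of_iso nilIso 0
  | b :: l => by
    obtain ⟨g, h', hT⟩ := exists_triangle b l
    haveI := isLE_KD l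
    haveI : (DerivedCategory.TStructure.t).IsLE ((KD l)⟦(1 : ℤ)⟧) (-1) :=
      (DerivedCategory.TStructure.t).isLE_shift (KD l) 0 1 (-1) (by omega)
    haveI : (DerivedCategory.TStructure.t).IsLE ((KD l)⟦(1 : ℤ)⟧) 0 :=
      (DerivedCategory.TStructure.t).isLE_of_le _ (-1) 0 (by omega)
    exact (DerivedCategory.TStructure.t).isLE₂ _ (rot_of_distTriang _ hT) 0 ‹_› ‹_›

theorem isZero_homology_of_pt {E : Dual.D R} {n : ℤ} (h : Orth (pt 0) E n) :
    IsZero ((DerivedCategory.homologyFunctor (ModuleCat.{u} R) n).obj E) := by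
  haveI : Subsingleton ((DerivedCategory.homologyFunctor (ModuleCat.{u} R) 0).obj (E⟦n⟧) : Type u) :=
    ⟨fun x y => (eltEquiv 0 (E⟦n⟧)).symm.injective ((h _).trans (h _).symm)⟩
  have hz : IsZero ((DerivedCategory.homologyFunctor (ModuleCat.{u} R) 0).obj (E⟦n⟧)) :=
    ModuleCat.isZero_of_subsingleton _
  exact IsZero.of_iso hz
    ((((DerivedCategory.homologyFunctor (ModuleCat.{u} R) 0)).shiftIso n 0 n (add_zero n)).app E).symm

theorem orth_pt {E : Dual.D R} {n : ℤ} (h : IsZero ((DerivedCategory.homologyFunctor (ModuleCat.{u} R) n).obj E)) :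
    Orth (pt 0) E n := fun φ => by
  have hz : IsZero ((DerivedCategory.homologyFunctor (ModuleCat.{u} R) 0).obj (E⟦n⟧)) :=
    h.of_iso ((((DerivedCategory.homologyFunctor (ModuleCat.{u} R) 0)).shiftIso n 0 n (add_zero n)).app E)
  haveI := ModuleCat.subsingleton_of_isZero hz
  exact (eltEquiv 0 (E⟦n⟧)).injective (Subsingleton.elim _ _)

/-- Koszul orthogonality descends to cohomology for torsion objects. -/
theorem isZero_homology_of_orth {E : Dual.D R} {n : ℤ} :
    ∀ (fs : List R), (∀ a ∈ fs, Supp a E) → Orth (KD fs) E n →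
      IsZero ((DerivedCategory.homologyFunctor (ModuleCat.{u} R) n).obj E)
  | [], _, h => isZero_homology_of_pt fun φ => (cancel_epi nilIso.inv).1 ((h _).trans comp_zero.symm)
  | a :: l, hE, h => by
    obtain ⟨g, h', hT⟩ := exists_triangle a l
    refine isZero_homology_of_orth l (fun b hb => hE b (List.mem_cons_of_mem _ hb)) fun φ => ?_
    have hinj : ∀ ψ : KD l ⟶ E⟦n⟧, a • ψ = 0 → ψ = 0 := fun ψ hψ => by
      have hex : ∃ ξ : KD (a :: l) ⟶ E⟦n⟧, ψ = g ≫ ξ := Triangle.yoneda_exact₂ _ hT ψ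
        (show (a • 𝟙 (KD l)) ≫ ψ = 0 by rw [Linear.smul_comp, Category.id_comp, hψ])
      obtain ⟨ξ, hξ⟩ := hex
      rw [hξ, h ξ, comp_zero]
    obtain ⟨m, hm⟩ := kill (supp_shift (hE a List.mem_cons_self) n) (isPerfect_KD l) φ
    clear h
    induction m with
    | zero => simpa using hm
    | succ m ihm => exact ihm (hinj _ (by rw [smul_smul, ← pow_succ']; exact hm))

theorem orth_of_isGE {E : Dual.D R} {a : ℤ} (h : DerivedCategory.TStructure.t.IsGE E a) (fs : List R) (n : ℤ)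
    (hn : n < a) : Orth (KD fs) E n := fun φ => by
  haveI := isLE_KD fs
  haveI := h
  haveI : DerivedCategory.TStructure.t.IsGE (E⟦n⟧) (a - n) :=
    DerivedCategory.TStructure.t.isGE_shift E a n (a - n) (by omega)
  exact DerivedCategory.TStructure.t.zero φ 0 (a - n) (by omega)

theorem orth_of_isZero {E : Dual.D R} {a : ℤ}
    (h : ∀ i, a ≤ i → IsZero ((DerivedCategory.homologyFunctor (ModuleCat.{u} R) i).obj E)) :
    ∀ (fs : List R) (n : ℤ), a + fs.length ≤ n → Orth (KD fs) E n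
  | [], n, hn => fun φ => (cancel_epi nilIso.hom).1 ((orth_pt (h n (by simpa using hn)) _).trans comp_zero.symm)
  | b :: l, n, hn => fun φ => by
    obtain ⟨g, h', hT⟩ := exists_triangle b l
    rw [List.length_cons, Nat.cast_succ] at hn
    obtain ⟨ξ, rfl⟩ : ∃ ξ : (KD l)⟦(1 : ℤ)⟧ ⟶ E⟦n⟧, φ = h' ≫ ξ :=
      Triangle.yoneda_exact₃ _ hT φ (orth_of_isZero h l n (by omega) _)
    let e : (E⟦n - 1⟧)⟦(1 : ℤ)⟧ ≅ E⟦n⟧ := ((shiftFunctorAdd' (Dual.D R) (n - 1) 1 n (by omega)).app E).symm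
    obtain ⟨χ, hχ⟩ := (shiftFunctor (Dual.D R) (1 : ℤ)).map_surjective (ξ ≫ e.inv)
    have hξ : ξ = 0 := by
      rw [← cancel_mono e.inv, zero_comp, ← hχ, orth_of_isZero h l (n - 1) (by omega) χ, Functor.map_zero]
    rw [hξ, comp_zero]

end Ring

section Tilde

variable {R : CommRingCat.{u}}

/-- All maps from the shifts of the Koszul object vanish. -/
def VanX (fs : List R) (E : DCoh.D (Spec R)) (n : ℤ) : Prop :=
  ∀ φ : ((DPerf.tildeDD R).obj (KD fs))⟦-n⟧ ⟶ E, φ = 0

theorem vanX_iff (fs : List R) (M : DerivedCategory (ModuleCat.{u} R)) (n : ℤ) :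
    VanX fs ((DPerf.tildeDD R).obj M) n ↔ Orth (KD fs) M n := by
  let t := DPerf.tildeDD R
  refine ⟨fun h φ => ?_, fun h φ => ?_⟩
  · let φ' : (KD fs)⟦-n⟧ ⟶ M := φ⟦-n⟧' ≫ (shiftShiftNeg M n).hom
    have h0 : φ' = 0 := (DQC.bijective_map _ _).1 (by
      dsimp only
      rw [Functor.map_zero, ← cancel_epi ((t.commShiftIso (-n)).inv.app (KD fs)), comp_zero]
      exact h _)
    apply (shiftFunctor (Dual.D R) (-n)).map_injective
    rw [Functor.map_zero, ← cancel_mono (shiftShiftNeg M n).hom, zero_comp]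
    exact h0
  · obtain ⟨ψ, hψ⟩ := (DQC.bijective_map ((KD fs)⟦-n⟧) M).2 ((t.commShiftIso (-n)).hom.app (KD fs) ≫ φ)
    dsimp only at hψ
    obtain ⟨χ, hχ⟩ := (shiftFunctor (Dual.D R) (-n)).map_surjective (ψ ≫ (shiftShiftNeg M n).inv)
    have h0 : ψ = 0 := by
      rw [← cancel_mono (shiftShiftNeg M n).inv, zero_comp, ← hχ, h χ, Functor.map_zero]
    rw [← cancel_epi ((t.commShiftIso (-n)).hom.app (KD fs)), ← hψ, h0, Functor.map_zero, comp_zero]

theorem vanX_iso {fs : List R} {E E' : DCoh.D (Spec R)} (e : E ≅ E') {n : ℤ} (h : VanX fs E n) : VanX fs E' n :=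
  fun φ => (cancel_mono e.inv).1 ((h _).trans zero_comp.symm)

/-- Quasi-coherent objects: a criterion. -/
theorem isZero_HD_of_vanX (fs : List R) {E : DCoh.D (Spec R)} (hE : DCoh.IsQCohD E) {U : (Spec R).Opens}
    (hU : ∀ a ∈ fs, M1.bo a ≤ U) (hz : IsZero ((DPerf.resD U.ι).obj E)) {n : ℤ} (h : VanX fs E n) :
    IsZero (DCoh.HD E n) := by
  obtain ⟨M, ⟨i⟩⟩ := DQC.exists_iso_of_isQCohD _ hE
  have hs : ∀ a ∈ fs, Supp a M := fun a ha => (supp_iff_support a M).2 fun j x hx hsup => by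
    have h1 := suppOn_of_iso i.symm (suppOn_of_isZero_resD U.ι hz) j hsup
    rw [Scheme.Opens.range_ι] at h1
    exact h1 (hU a ha hx)
  have h2 := isZero_homology_of_orth fs hs ((vanX_iff fs M n).1 (vanX_iso i.symm h))
  exact (((tilde.functor R).map_isZero h2).of_iso (DPerf.hdTildeIso M n)).of_iso
    ((DerivedCategory.homologyFunctor _ n).mapIso i).symm

theorem vanX_of_isGE (fs : List R) {E : DCoh.D (Spec R)} (hE : DCoh.IsQCohD E) {a n : ℤ}
    (h : ∀ i, i < a → IsZero (DCoh.HD E i)) (hn : n < a) : VanX fs E n := by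
  obtain ⟨M, ⟨i⟩⟩ := DQC.exists_iso_of_isQCohD _ hE
  refine vanX_iso i ((vanX_iff fs M n).2 (orth_of_isGE ?_ fs n hn))
  exact (DerivedCategory.isGE_iff M a).2 fun j hj => DPerf.isZero_of_tilde
    (((h j hj).of_iso ((DerivedCategory.homologyFunctor _ j).mapIso i)).of_iso (DPerf.hdTildeIso M j).symm)

theorem vanX_of_isZero (fs : List R) {E : DCoh.D (Spec R)} (hE : DCoh.IsQCohD E) {a n : ℤ}
    (h : ∀ i, a ≤ i → IsZero (DCoh.HD E i)) (hn : a + fs.length ≤ n) : VanX fs E n := by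
  obtain ⟨M, ⟨i⟩⟩ := DQC.exists_iso_of_isQCohD _ hE
  refine vanX_iso i ((vanX_iff fs M n).2 (orth_of_isZero (fun j hj => DPerf.isZero_of_tilde
    (((h j hj).of_iso ((DerivedCategory.homologyFunctor _ j).mapIso i)).of_iso (DPerf.hdTildeIso M j).symm)) fs n hn))

theorem vanX_rpush (fs : List R) {U : (Spec R).Opens} [DCoh.HasRpush U.ι]
    (hU : ∀ x ∈ U, ∃ a ∈ fs, x ∈ M1.bo a) (N : DCoh.D (U : Scheme.{u})) (n : ℤ) :
    VanX fs ((DCoh.Rpush U.ι).obj N) n := fun φ => by
  have hK : SuppOn (U : Set (Spec R))ᶜ (((DPerf.tildeDD R).obj (KD fs))⟦-n⟧) := by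
    refine suppOn_shift (suppOn_of_stalks fun x hx i => ?_) _
    obtain ⟨a, ha, hxa⟩ := hU x (not_not.1 hx)
    exact DMV.stalkZero_of_not_mem_support ((supp_iff_support a _).1 (supp_KD fs a ha) i x hxa)
  have hz := isZero_resD_of_suppOn U.ι hK (fun u h => h u.2)
  exact ((adjR U.ι).homEquiv _ _).symm.injective (hz.eq_of_src _ _)

end Tilde

section Trunc

/-- The standard t-structure. -/
noncomputable abbrev tS {X : Scheme.{u}} : CategoryTheory.Triangulated.TStructure (DCoh.D X) :=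
  DerivedCategory.TStructure.t

/-- Cohomology. -/
noncomputable abbrev hS {X : Scheme.{u}} (n : ℤ) : DCoh.D X ⥤ X.Modules :=
  DerivedCategory.homologyFunctor X.Modules n

variable {X : Scheme.{u}}


theorem isIso_truncLE_map_iff_homology {A B : DCoh.D X} (φ : A ⟶ B) (a : ℤ) :
    IsIso ((tS.truncLE a).map φ) ↔ ∀ j, j ≤ a → IsIso ((DerivedCategory.homologyFunctor X.Modules j).map φ) := by
  have key : ∀ j, j ≤ a → (IsIso ((DerivedCategory.homologyFunctor X.Modules j).map ((tS.truncLE a).map φ)) ↔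
      IsIso ((DerivedCategory.homologyFunctor X.Modules j).map φ)) := fun j hj => by
    haveI := DerTrunc.isIso_homology_truncLTι A (a + 1) j (by omega)
    haveI := DerTrunc.isIso_homology_truncLTι B (a + 1) j (by omega)
    exact (MorphismProperty.isomorphisms _).arrow_mk_iso_iff (Arrow.isoMk
      (asIso ((DerivedCategory.homologyFunctor X.Modules j).map ((tS.truncLTι (a + 1)).app A)))
      (asIso ((DerivedCategory.homologyFunctor X.Modules j).map ((tS.truncLTι (a + 1)).app B)))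
      (((DerivedCategory.homologyFunctor X.Modules j).map_comp _ _).symm.trans
        ((congrArg (DerivedCategory.homologyFunctor X.Modules j).map ((tS.truncLTι (a + 1)).naturality φ).symm).trans
          ((DerivedCategory.homologyFunctor X.Modules j).map_comp _ _))))
  refine ⟨fun h j hj => (key j hj).1 (by haveI := h; infer_instance), fun h => ?_⟩
  refine (DerivedCategory.isIso_iff X.Modules _).2 fun j => ?_
  by_cases hj : j ≤ a
  · exact (key j hj).2 (h j hj)
  · haveI : DerivedCategory.IsLE ((tS.truncLE a).obj A) a := (inferInstance : tS.IsLE ((tS.truncLE a).obj A) a)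
    haveI : DerivedCategory.IsLE ((tS.truncLE a).obj B) a := (inferInstance : tS.IsLE ((tS.truncLE a).obj B) a)
    exact ⟨⟨0, IsZero.eq_of_src (DerivedCategory.isZero_of_isLE _ a j (by omega)) _ _,
      IsZero.eq_of_src (DerivedCategory.isZero_of_isLE _ a j (by omega)) _ _⟩⟩

end Trunc

section Main

variable {R : CommRingCat.{u}}

open DerivedCategory

theorem bo_cover (fs : List R) :
    (∀ a ∈ fs, M1.bo a ≤ LocCoh.puncturedOpen R (Ideal.span {a | a ∈ fs})) ∧
    ∀ x ∈ LocCoh.puncturedOpen R (Ideal.span {a | a ∈ fs}), ∃ a ∈ fs, x ∈ M1.bo a := by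
  refine ⟨fun a ha x hx hz => hx (hz (Ideal.subset_span ha)), fun x hx => ?_⟩
  by_contra hn
  push Not at hn
  exact hx fun r hr => (Ideal.span_le (I := (x : PrimeSpectrum R).asIdeal)).2 (fun a ha => not_not.1 (hn a ha)) hr

theorem quasiCompact_ι (fs : List R) : QuasiCompact (LocCoh.puncturedOpen R (Ideal.span {a | a ∈ fs})).ι := by
  haveI : CompactSpace (LocCoh.puncturedOpen R (Ideal.span {a | a ∈ fs}) : Scheme.{u}) := by
    refine isCompact_iff_compactSpace.1 ?_
    have e : ((LocCoh.puncturedOpen R (Ideal.span {a | a ∈ fs}) : (Spec R).Opens) : Set (Spec R)) =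
        ⋃ a ∈ {a | a ∈ fs}, (M1.bo (R := R) a : Set (Spec R)) := by
      ext x
      constructor
      · intro hx
        obtain ⟨a, ha, hxa⟩ := (bo_cover fs).2 x hx
        exact Set.mem_biUnion (x := a) ha hxa
      · intro hx
        obtain ⟨a, ha, hxa⟩ := Set.mem_iUnion₂.1 hx
        exact (bo_cover fs).1 a ha hxa
    rw [e]
    exact fs.finite_toSet.isCompact_biUnion fun a _ => PrimeSpectrum.isCompact_basicOpen a
  exact (quasiCompact_iff_compactSpace _).2 inferInstance

variable (fs : List R) [DCoh.HasRpush (LocCoh.puncturedOpen R (Ideal.span {a | a ∈ fs})).ι]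
  (adj : DPerf.resD (LocCoh.puncturedOpen R (Ideal.span {a | a ∈ fs})).ι ⊣
    DCoh.Rpush (LocCoh.puncturedOpen R (Ideal.span {a | a ∈ fs})).ι)
  (E : DCoh.D (Spec R)) (hE : DCoh.IsQCohD E)


theorem isQCohD_push (N : DCoh.D (LocCoh.puncturedOpen R (Ideal.span {a | a ∈ fs}) : Scheme.{u}))
    (hN : DCoh.IsQCohD N) : DCoh.IsQCohD ((DCoh.Rpush (LocCoh.puncturedOpen R (Ideal.span {a | a ∈ fs})).ι).obj N) :=
  haveI := quasiCompact_ι fs
  DPush.isQCohD_rpush _ N hN

include hE in
/-- The fibre of the unit. -/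
theorem exists_fibre : ∃ (F : DCoh.D (Spec R)) (i : F ⟶ E) (δ : _ ⟶ F⟦(1 : ℤ)⟧),
    Triangle.mk i (adj.unit.app E) δ ∈ distTriang _ ∧ DCoh.IsQCohD F ∧
      IsZero ((DPerf.resD (LocCoh.puncturedOpen R (Ideal.span {a | a ∈ fs})).ι).obj F) := by
  let j := (LocCoh.puncturedOpen R (Ideal.span {a | a ∈ fs})).ι
  obtain ⟨F, i, δ, hT⟩ := distinguished_cocone_triangle₁ (adj.unit.app E)
  refine ⟨F, i, δ, hT, ?_, ?_⟩
  · exact DPush.isQCohD_obj₃ _ (inv_rot_of_distTriang _ (inv_rot_of_distTriang _ hT))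
      (DMV.isQCohD_shift E hE (-1)) (DMV.isQCohD_shift _ (isQCohD_push fs _ (DQC.isQCohD_resD j hE)) (-1))
  · haveI := DBC9.isIso_counit_openImmersion j
    haveI := (DMon9.adjLP j).fullyFaithfulROfIsIsoCounit.full
    haveI := (DMon9.adjLP j).fullyFaithfulROfIsIsoCounit.faithful
    haveI : IsIso ((DPerf.resD j).map (adj.unit.app E)) := by
      haveI : IsIso (𝟙 ((DPerf.resD j).obj E)) := IsIso.id _
      exact IsIso.of_isIso_fac_right (adj.left_triangle_components E)
    exact (Triangle.isZero₁_iff_isIso₂ _ ((DPerf.resD j).map_distinguished _ hT)).2 this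

include hE in
theorem truncLE_iff (a : ℤ) :
    ((∀ n : ℤ, n ≤ a → VanX fs E n) → IsIso ((tS.truncLE (a - 1)).map (adj.unit.app E))) ∧
    (IsIso ((tS.truncLE (a - 1)).map (adj.unit.app E)) → ∀ n : ℤ, n ≤ a - 1 → VanX fs E n) := by
  obtain ⟨F, i, δ, hT, hFq, hF0⟩ := exists_fibre fs adj E hE
  have hR := vanX_rpush fs (bo_cover fs).2 ((DPerf.resD (LocCoh.puncturedOpen R (Ideal.span {a | a ∈ fs})).ι).obj E)
  refine ⟨fun h => (isIso_truncLE_map_iff_homology _ _).2 fun j hj => ?_, fun h n hn φ => ?_⟩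
  · have hz : ∀ m ≤ a, IsZero (DCoh.HD F m) := fun m hm =>
      isZero_HD_of_vanX fs hFq (bo_cover fs).1 hF0 fun φ => by
        obtain ⟨ψ, rfl⟩ : ∃ ψ, φ = ψ ≫ (Triangle.mk i (adj.unit.app E) δ).invRotate.mor₁ :=
          Triangle.coyoneda_exact₂ _ (inv_rot_of_distTriang _ hT) φ (h m hm _)
        have h0 : ψ = 0 := by
          have h1 := vanX_rpush fs (bo_cover fs).2
            (((DPerf.resD (LocCoh.puncturedOpen R (Ideal.span {a | a ∈ fs})).ι).obj E)) (m - 1)
          obtain ⟨χ, hχ⟩ := (shiftFunctor (DCoh.D (Spec R)) (-1 : ℤ)).map_surjective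
            (((shiftFunctorAdd' (DCoh.D (Spec R)) (-(m - 1)) (-1) (-m) (by omega)).inv.app _) ≫ ψ)
          rw [h1 χ, Functor.map_zero] at hχ
          exact (cancel_epi ((shiftFunctorAdd' (DCoh.D (Spec R)) (-(m - 1)) (-1) (-m) (by omega)).inv.app _)).1
            (hχ.symm.trans comp_zero.symm)
        rw [h0, zero_comp]
    exact DerTrunc.isIso_map_mor₂ _ hT j (hz j (by omega)) (hz (j + 1) (by omega))
  · have hj := (isIso_truncLE_map_iff_homology _ _).1 h
    have hz : ∀ m < a, IsZero (DCoh.HD F m) := fun m hm => by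
      have e := HomologySequence.exact₂ _ hT m
      haveI : IsIso ((hS m).map (adj.unit.app E)) := hj m (by omega)
      haveI : IsIso ((hS (m - 1)).map (adj.unit.app E)) := hj (m - 1) (by omega)
      haveI : Mono ((hS m).map i) := (HomologySequence.mono_homologyMap_mor₁_iff _ hT (m - 1) m (by omega)).2
        ((cancel_epi ((hS (m - 1)).map (adj.unit.app E))).1 ((HomologySequence.comp_δ _ hT (m - 1) m (by omega)).trans comp_zero.symm))
      refine IsZero.of_mono_eq_zero ((hS m).map i) ?_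
      rw [← cancel_mono ((hS m).map (adj.unit.app E)), zero_comp]
      exact ((hS m).map_comp i _).symm.trans
        ((congrArg (hS m).map (comp_distTriang_mor_zero₁₂ _ hT)).trans (Functor.map_zero _ _ _))
    obtain ⟨ψ, rfl⟩ : ∃ ψ, φ = ψ ≫ i := Triangle.coyoneda_exact₂ _ hT φ (hR n _)
    rw [vanX_of_isGE fs hFq hz (by omega) ψ, zero_comp]

include hE in
theorem truncGE_iff (a : ℤ) :
    ((∀ n : ℤ, a ≤ n → VanX fs E n) → IsIso ((tS.truncGE a).map (adj.unit.app E))) ∧
    (IsIso ((tS.truncGE a).map (adj.unit.app E)) → ∀ n : ℤ, a + (fs.length : ℤ) ≤ n → VanX fs E n) := by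
  obtain ⟨F, i, δ, hT, hFq, hF0⟩ := exists_fibre fs adj E hE
  have hR := vanX_rpush fs (bo_cover fs).2 ((DPerf.resD (LocCoh.puncturedOpen R (Ideal.span {a | a ∈ fs})).ι).obj E)
  refine ⟨fun h => (DGen9.isIso_truncGE_map_iff _ _).2 fun j hj => ?_, fun h n hn φ => ?_⟩
  · have hz : ∀ m, a ≤ m → IsZero (DCoh.HD F m) := fun m hm =>
      isZero_HD_of_vanX fs hFq (bo_cover fs).1 hF0 fun φ => by
        obtain ⟨ψ, rfl⟩ : ∃ ψ, φ = ψ ≫ (Triangle.mk i (adj.unit.app E) δ).invRotate.mor₁ :=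
          Triangle.coyoneda_exact₂ _ (inv_rot_of_distTriang _ hT) φ (h m hm _)
        have h0 : ψ = 0 := by
          obtain ⟨χ, hχ⟩ := (shiftFunctor (DCoh.D (Spec R)) (-1 : ℤ)).map_surjective
            (((shiftFunctorAdd' (DCoh.D (Spec R)) (-(m - 1)) (-1) (-m) (by omega)).inv.app _) ≫ ψ)
          rw [hR (m - 1) χ, Functor.map_zero] at hχ
          exact (cancel_epi ((shiftFunctorAdd' (DCoh.D (Spec R)) (-(m - 1)) (-1) (-m) (by omega)).inv.app _)).1
            (hχ.symm.trans comp_zero.symm)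
        rw [h0, zero_comp]
    exact DerTrunc.isIso_map_mor₂ _ hT j (hz j hj) (hz (j + 1) (by omega))
  · obtain ⟨T', f, g, hT'⟩ : ∃ (T' : DCoh.D (Spec R)) (f : T' ⟶ E) (g : (tS.truncGE a).obj E ⟶ T'⟦(1 : ℤ)⟧),
        Triangle.mk f ((tS.truncGEπ a).app E) g ∈ distTriang _ ∧ T' = (tS.truncLT a).obj E :=
      ⟨_, _, _, tS.triangleLTGE_distinguished a E, rfl⟩
    obtain ⟨hT', rfl⟩ := hT'
    haveI := h
    have hπ : φ ≫ (tS.truncGEπ a).app E = 0 := by
      rw [← cancel_mono ((tS.truncGE a).map (adj.unit.app E)), zero_comp, Category.assoc]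
      erw [← (tS.truncGEπ a).naturality (adj.unit.app E)]
      rw [← Category.assoc]
      erw [hR n (φ ≫ adj.unit.app E)]
      rw [zero_comp]
    obtain ⟨ψ, rfl⟩ : ∃ ψ, φ = ψ ≫ f := Triangle.coyoneda_exact₂ _ hT' φ hπ
    haveI hLE : DerivedCategory.IsLE ((tS.truncLT a).obj E) (a - 1) :=
      (inferInstance : tS.IsLE ((tS.truncLT a).obj E) (a - 1))
    have hq : DCoh.IsQCohD ((tS.truncLT a).obj E) := fun j => by
      by_cases hj : j < a
      · haveI := DerTrunc.isIso_homology_truncLTι E a j hj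
        exact M1.isQCoh_of_isIso (asIso ((hS j).map ((tS.truncLTι a).app E))).symm (hE j)
      · exact M1.isQCoh_isZero (DerivedCategory.isZero_of_isLE _ (a - 1) j (by omega))
    rw [vanX_of_isZero fs hq (fun j hj => DerivedCategory.isZero_of_isLE _ (a - 1) j (by omega)) hn ψ, zero_comp]

omit adj in
include hE in
/-- Orthogonal objects are pushed forward from the complement. -/
theorem pushforward_iff :
    (∃ M : DCoh.D (LocCoh.puncturedOpen R (Ideal.span {a | a ∈ fs}) : Scheme.{u}), DCoh.IsQCohD M ∧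
      Nonempty (E ≅ (DCoh.Rpush (LocCoh.puncturedOpen R (Ideal.span {a | a ∈ fs})).ι).obj M)) ↔
    ∀ (n : ℤ) (φ : ((DPerf.tildeDD R).obj (KD fs))⟦n⟧ ⟶ E), φ = 0 := by
  let j := (LocCoh.puncturedOpen R (Ideal.span {a | a ∈ fs})).ι
  refine ⟨fun ⟨M, _, ⟨e⟩⟩ n φ => ?_, fun h => ?_⟩
  · have h1 := vanX_iso e.symm (vanX_rpush fs (bo_cover fs).2 M (-n))
    unfold VanX at h1
    rw [neg_neg] at h1
    exact h1 φ
  · let ad := adjR j
    obtain ⟨F, i, δ, hT, hFq, hF0⟩ := exists_fibre fs ad E hE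
    have hz : IsZero F := DMV.isZero_of_hd fun m => isZero_HD_of_vanX fs hFq (bo_cover fs).1 hF0 fun φ => by
      obtain ⟨ψ, rfl⟩ : ∃ ψ, φ = ψ ≫ (Triangle.mk i (ad.unit.app E) δ).invRotate.mor₁ :=
        Triangle.coyoneda_exact₂ _ (inv_rot_of_distTriang _ hT) φ (h (-m) _)
      obtain ⟨χ, hχ⟩ := (shiftFunctor (DCoh.D (Spec R)) (-1 : ℤ)).map_surjective
        (((shiftFunctorAdd' (DCoh.D (Spec R)) (-(m - 1)) (-1) (-m) (by omega)).inv.app _) ≫ ψ)
      rw [vanX_rpush fs (bo_cover fs).2 _ (m - 1) χ, Functor.map_zero] at hχ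
      rw [(cancel_epi ((shiftFunctorAdd' (DCoh.D (Spec R)) (-(m - 1)) (-1) (-m) (by omega)).inv.app _)).1
        (hχ.symm.trans comp_zero.symm), zero_comp]
    haveI : IsIso (ad.unit.app E) := (Triangle.isZero₁_iff_isIso₂ _ hT).1 hz
    exact ⟨_, DQC.isQCohD_resD j hE, ⟨asIso (ad.unit.app E)⟩⟩

end Main

section Power

variable {R : Type u} [CommRing R]

/-- The canonical map of the unit into a Koszul object. -/
noncomputable def iota : ∀ fs : List R, pt (R := R) 0 ⟶ KD fs
  | [] => nilIso.hom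
  | a :: l => iota l ≫ DerivedCategory.Q.map (CochainComplex.mappingCone.inr (a • 𝟙 (Koszul.koszul R l)))

theorem triangle_inr (a : R) (l : List R) :
    ∃ h : KD (a :: l) ⟶ (KD l)⟦(1 : ℤ)⟧, Triangle.mk (a • 𝟙 (KD l))
      (DerivedCategory.Q.map (CochainComplex.mappingCone.inr (a • 𝟙 (Koszul.koszul R l)))) h ∈ distTriang (Dual.D R) := by
  let φ := a • 𝟙 (Koszul.koszul R l)
  have hφ : DerivedCategory.Q.map φ = a • 𝟙 (KD l) :=
    (Functor.map_smul DerivedCategory.Q _ _).trans (congrArg (a • ·) (CategoryTheory.Functor.map_id _ _))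
  refine ⟨(DerivedCategory.Q.mapTriangle.obj (CochainComplex.mappingCone.triangle φ)).mor₃, ?_⟩
  rw [← hφ]
  exact DerivedCategory.mappingCone_triangle_distinguished φ

theorem killRange_KD : ∀ fs : List R, KillRange (KD fs) (-(fs.length : ℤ)) 0
  | [] => killRange_of_iso nilIso (killRange_mono (by simp) le_rfl (killRange_pt 0))
  | b :: l => by
    obtain ⟨g, h', hT⟩ := exists_triangle b l
    exact killRange_triangle₂ _ (rot_of_distTriang _ hT)
      (killRange_mono (by simp only [List.length_cons]; omega) le_rfl (killRange_KD l))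
      (killRange_mono (by simp only [List.length_cons]; omega) (by omega) (killRange_shift (killRange_KD l) 1))

theorem exists_transition {e e' : ℕ} (he : e ≤ e') : ∀ l : List R,
    ∃ T : KD (l.map (· ^ e')) ⟶ KD (l.map (· ^ e)), iota (l.map (· ^ e')) ≫ T = iota (l.map (· ^ e))
  | [] => ⟨𝟙 _, Category.comp_id _⟩
  | a :: l => by
    obtain ⟨T, hT⟩ := exists_transition he l
    obtain ⟨h₁, hd₁⟩ := triangle_inr (a ^ e') (l.map (· ^ e'))
    obtain ⟨h₂, hd₂⟩ := triangle_inr (a ^ e) (l.map (· ^ e))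
    obtain ⟨c, hc, -⟩ := complete_distinguished_triangle_morphism _ _ hd₁ hd₂ (a ^ (e' - e) • T) T (by
      change (a ^ e' • 𝟙 _) ≫ T = (a ^ (e' - e) • T) ≫ (a ^ e • 𝟙 _)
      rw [Linear.smul_comp, Category.id_comp, Linear.comp_smul, Category.comp_id, smul_smul,
        ← pow_add, Nat.add_sub_cancel' he])
    refine ⟨c, ?_⟩
    change (iota (l.map (· ^ e')) ≫ _) ≫ c = iota (l.map (· ^ e)) ≫ _
    rw [Category.assoc]
    exact (congrArg (iota _ ≫ ·) hc).trans (by rw [← Category.assoc, hT]; rfl)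

/-- Classes with torsion cohomology factor through a Koszul object of powers. -/
theorem exists_factor_power {E : Dual.D R} (x : pt (R := R) 0 ⟶ E) :
    ∀ fs : List R, (∀ a ∈ fs, ∀ i : ℤ, -(fs.length : ℤ) < i → i ≤ 0 → Tors a E i) →
      ∃ (e : ℕ) (ψ : KD (fs.map (· ^ e)) ⟶ E), iota (fs.map (· ^ e)) ≫ ψ = x
  | [], _ => ⟨0, nilIso.inv ≫ x, nilIso.hom_inv_id_assoc x⟩
  | a :: l, hE => by
    simp only [List.length_cons] at hE
    obtain ⟨e, γ, hγ⟩ := exists_factor_power x l fun b hb i h₁ h₂ => hE b (List.mem_cons_of_mem _ hb) i (by omega) h₂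
    obtain ⟨n, hn⟩ := killRange_KD (l.map (· ^ e)) a E
      (fun i h₁ h₂ => hE a List.mem_cons_self i (by rw [List.length_map] at h₁; omega) h₂) γ
    obtain ⟨T, hT⟩ := exists_transition (le_max_left e n) l
    obtain ⟨h', hd⟩ := triangle_inr (a ^ max e n) (l.map (· ^ max e n))
    have hex : ∃ ξ : KD ((a :: l).map (· ^ max e n)) ⟶ E, T ≫ γ =
        DerivedCategory.Q.map (CochainComplex.mappingCone.inr (a ^ max e n • 𝟙 _)) ≫ ξ :=
      Triangle.yoneda_exact₂ _ hd (T ≫ γ) (show (a ^ max e n • 𝟙 _) ≫ T ≫ γ = 0 by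
        rw [Linear.smul_comp]
        erw [Category.id_comp]
        have hp : a ^ max e n = a ^ (max e n - n) * a ^ n :=
          ((pow_add a _ _).symm.trans (congrArg (a ^ ·) (Nat.sub_add_cancel (le_max_right e n)))).symm
        refine (congrArg (fun z => z • (T ≫ γ)) hp).trans ?_
        rw [mul_smul, ← Linear.comp_smul, hn, comp_zero, smul_zero])
    obtain ⟨ξ, hξ⟩ := hex
    refine ⟨max e n, ξ, ?_⟩
    change (iota (l.map (· ^ max e n)) ≫ _) ≫ ξ = x
    rw [Category.assoc]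
    exact (congrArg (iota _ ≫ ·) hξ.symm).trans (by rw [← Category.assoc, hT, hγ])

end Power

section PowerTilde

variable {R : CommRingCat.{u}}

/-- The structure sheaf as the tilde of the unit. -/
noncomputable def oneIso : DCoh.inD (Spec R) (Coh.structureModule (Spec R)) ≅ (DPerf.tildeDD R).obj (pt (R := R) 0) :=
  (DerivedCategory.singleFunctor (Spec R).Modules 0).mapIso (tildeSelf (R := R)).symm ≪≫
    ((tilde.functor R).mapDerivedCategorySingleFunctor 0).symm.app (ModuleCat.of R R)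

theorem section_factors (fs : List R) {E : DCoh.D (Spec R)} (hE : DCoh.IsQCohD E)
    (hU : ∀ i : ℤ, -(fs.length : ℤ) < i → i ≤ 0 →
      IsZero ((DCoh.HD E i).restrict (LocCoh.puncturedOpen R (Ideal.span {a | a ∈ fs})).ι))
    (s : DCoh.inD (Spec R) (Coh.structureModule (Spec R)) ⟶ E) :
    ∃ (e : ℕ) (ψ : (DPerf.tildeDD R).obj (KD (fs.map (· ^ e))) ⟶ E)
      (t : DCoh.inD (Spec R) (Coh.structureModule (Spec R)) ⟶ (DPerf.tildeDD R).obj (KD (fs.map (· ^ e)))),
      t ≫ ψ = s := by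
  obtain ⟨M, ⟨i⟩⟩ := DQC.exists_iso_of_isQCohD _ hE
  obtain ⟨x, hx⟩ := (DQC.bijective_map (pt (R := R) 0) M).2 (oneIso.inv ≫ s ≫ i.inv)
  obtain ⟨e, ψ, hψ⟩ := exists_factor_power x fs fun a ha j h₁ h₂ => (tors_iff_support a M j).2 fun y hy hsup => by
    have hz : IsZero ((DCoh.HD ((DPerf.tildeDD R).obj M) j).restrict
        (LocCoh.puncturedOpen R (Ideal.span {a | a ∈ fs})).ι) :=
      (hU j h₁ h₂).of_iso ((Scheme.Modules.restrictFunctor _).mapIso ((DerivedCategory.homologyFunctor _ j).mapIso i))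
    exact hsup (AddCommGrpCat.subsingleton_of_isZero ((RHom.stalkZero_restrict_iff
      (LocCoh.puncturedOpen R (Ideal.span {a | a ∈ fs})).ι
      (show (LocCoh.puncturedOpen R (Ideal.span {a | a ∈ fs}) : Scheme.{u}) from ⟨y, (bo_cover fs).1 a ha hy⟩) _).1
      ((M1.stalkAb _).map_isZero hz)))
  refine ⟨e, (DPerf.tildeDD R).map ψ ≫ i.hom, oneIso.hom ≫ (DPerf.tildeDD R).map (iota _), ?_⟩
  rw [Category.assoc, ← Category.assoc ((DPerf.tildeDD R).map (iota _)), ← Functor.map_comp, hψ]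
  dsimp only at hx
  rw [hx]
  simp

end PowerTilde

end Groth.Agent.DGen9.KO
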