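import Groth.Agent.Lib.DGen9.Glue
import Groth.Agent.Lib.DPush.Coprod
import Groth.Agent.Lib.DMV.Perfect
import Groth.Agent.Lib.DCompact9.Perfect
import Groth.Agent.Lib.DGam9.Sigma
import Groth.Agent.Lib.RHom.Compact
import Groth.Prelude.Def_PerfAux

/-! Perfect objects are the compact objects with quasi-coherent cohomology. -/

set_option autoImplicit false
set_option linter.unusedSectionVars false
set_option linter.style.haveILetI false
set_option backward.isDefEq.respectTransparency false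
set_option backward.isDefEq.respectTransparency.types false
set_option maxHeartbeats 800000

universe w u

open CategoryTheory CategoryTheory.Limits AlgebraicGeometry Pretriangulated Groth.Agent.DPush

attribute [local instance] HasDerivedCategory.standard

namespace Groth.Agent.DGen9

attribute [local instance] DBC9.hasRpush

section Sum

variable {D : Type*} [Category* D] [Preadditive D] (K : D) {ι : Type w} (X : ι → D) [HasCoproduct X]

open Classical in
theorem homSum_of (i : ι) (f : K ⟶ X i) :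
    PerfAux.homSumToHomCoprod K X (DirectSum.of (fun i => K ⟶ X i) i f) = f ≫ Sigma.ι X i :=
  (DirectSum.toAddMonoid_of (fun i => Preadditive.rightComp K (Sigma.ι X i)) i f).trans rfl

theorem bijective_homSum_iff :
    Function.Bijective (PerfAux.homSumToHomCoprod K X) ↔ ∀ f : K ⟶ ∐ X, FinFac X f := by
  classical
  have key : ∀ s, ∃ t : Finset ι, PerfAux.homSumToHomCoprod K X s = ∑ i ∈ t, s i ≫ Sigma.ι X i := fun s => by
    refine ⟨s.support, ?_⟩
    conv_lhs => rw [← DirectSum.sum_support_of s, map_sum]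
    exact Finset.sum_congr rfl fun i _ => homSum_of K X i _
  refine ⟨fun h f => ?_, fun h => ⟨?_, fun f => ?_⟩⟩
  · obtain ⟨s, rfl⟩ := h.2 f
    obtain ⟨t, ht⟩ := key s
    refine ⟨t, ?_⟩
    rw [ht, Preadditive.sum_comp]
    exact Finset.sum_congr rfl fun i hi => by rw [Category.assoc, ι_finProj, if_pos hi]
  · refine (injective_iff_map_eq_zero _).2 fun s hs => DFinsupp.ext fun j => ?_
    have hπ : ∀ x : DirectSum ι (fun i => K ⟶ X i), PerfAux.homSumToHomCoprod K X x ≫ Sigma.π X j = x j := by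
      intro x
      induction x using DirectSum.induction_on with
      | zero => simp
      | of i f =>
        rw [homSum_of, Category.assoc]
        by_cases hij : i = j
        · subst hij
          rw [Sigma.ι_π_eq_id, Category.comp_id, DirectSum.of_eq_same]
        · rw [Sigma.ι_π_of_ne X hij, comp_zero]
          exact (DirectSum.of_eq_of_ne (β := fun i => K ⟶ X i) i j f (Ne.symm hij)).symm
      | add x y hx hy => rw [map_add, Preadditive.add_comp, hx, hy]; rfl
    exact (hπ s).symm.trans (by rw [hs, zero_comp]; rfl)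
  · obtain ⟨s, hs⟩ := h f
    refine ⟨∑ i ∈ s, DirectSum.of (fun i => K ⟶ X i) i (f ≫ Sigma.π X i), ?_⟩
    rw [map_sum]
    conv_rhs => rw [← hs, finProj_eq_sum, Preadditive.comp_sum]
    exact Finset.sum_congr rfl fun i _ => (homSum_of K X i _).trans (Category.assoc _ _ _)

end Sum

variable {X : Scheme.{u}}

/-- Finite support against all families with quasi-coherent cohomology. -/
def QFin (K : DCoh.D X) : Prop :=
  ∀ (ι : Type u) (E : ι → DCoh.D X) [HasCoproduct E], (∀ i, DCoh.IsQCohD (E i)) → ∀ f : K ⟶ ∐ E, FinFac E f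

theorem qFin_of_iso {K L : DCoh.D X} (e : K ≅ L) (h : QFin K) : QFin L := fun ι E _ hE f => by
  obtain ⟨s, hs⟩ := h ι E hE (e.hom ≫ f)
  exact ⟨s, by rwa [Category.assoc, cancel_epi] at hs⟩

theorem qFin_triangle₂ (T : Triangle (DCoh.D X)) (hT : T ∈ distTriang _) (h₁ : QFin T.obj₁) (h₃ : QFin T.obj₃) :
    QFin T.obj₂ := fun ι E _ hE f => by
  obtain ⟨s, hs⟩ := h₁ ι E hE (T.mor₁ ≫ f)
  obtain ⟨g, hg⟩ := Triangle.yoneda_exact₂ _ hT (f - f ≫ finProj E s) (by
    rw [Preadditive.comp_sub, ← Category.assoc, hs, sub_self])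
  obtain ⟨t, ht⟩ := h₃ ι E hE g
  have h := FinFac.add E (finFac_finProj E f s) (finFac_finProj E (T.mor₂ ≫ g) t)
  rwa [Category.assoc, ht, ← hg, add_sub_cancel] at h

theorem qFin_shift {K : DCoh.D X} (hK : QFin K) (n : ℤ) : QFin (K⟦n⟧) := fun ι E _ hE f => by
  haveI := hasCoproduct_D fun i => (shiftFunctor (DCoh.D X) (-n)).obj (E i)
  refine DCompact9.finFac_of_equivalence (shiftFunctor (DCoh.D X) (-n)) f fun g => ?_
  let e := (shiftFunctorCompIsoId (DCoh.D X) n (-n) (add_neg_cancel n)).app K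
  obtain ⟨s, hs⟩ := hK ι _ (fun i => DMV.isQCohD_shift _ (hE i) _) (e.inv ≫ g)
  exact ⟨s, by rwa [Category.assoc, cancel_epi] at hs⟩

/-- Classes on quasi-compact opens have finite support. -/
theorem finFac_gen [QuasiSeparatedSpace X] {W : X.Opens} (hW : IsCompact (W : Set X)) {ι : Type u}
    (K : ι → DCoh.D X) [HasCoproduct K] (hK : ∀ i, DCoh.IsQCohD (K i)) (m : ℤ)
    (x : (DerivedCategory.singleFunctor X.Modules m).obj ((DQC.gen X).obj W) ⟶ ∐ K) : FinFac K x := by
  obtain ⟨d, hd⟩ := CohFound.exists_vanishing_bound_compact hW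
  have hext : ∀ (M : X.Modules), Coh.IsQCoh M → ∀ p, d ≤ p →
      Subsingleton (Abelian.Ext.{u} ((DQC.gen X).obj W) M p) := fun M hM p hp =>
    SiteRlim.subsingleton_ext_freeOn X.sheaf W M p
      ((CohFound.huExt ((CohFound.abF X).obj M) p W).toEquiv.subsingleton_congr.2 (hd M hM p hp))
  let n := ((d : ℤ) - m).toNat
  have hL := DPerf.isQCohD_sigma K hK
  haveI := DQC.hasProduct_nat (CohCx.truncTower (∐ K))
  have hst : SiteRlim.Stable (CohCx.truncTower (∐ K)) (CohCx.truncTowerMap (∐ K)) m n ((DQC.gen X).obj W) :=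
    SiteRlim.stable_truncTower (∐ K) m n fun n' hn' k _ _ => hext _ (hL _) k (by omega)
  have h1 := hst.bijective (DQC.isRlimVia_truncTower (∐ K) hL)
  let t := (DerivedCategory.TStructure.t : Triangulated.TStructure (DCoh.D X))
  haveI := hasCoproduct_D fun i => (t.truncGE (-(n : ℤ))).obj (K i)
  obtain ⟨c, _, hc⟩ := exists_truncGE_sigma K (-(n : ℤ))
  obtain ⟨s, hs⟩ := finFac_classes hW (IsQuasiSeparated.of_quasiSeparatedSpace _)
    (fun i => (t.truncGE (-(n : ℤ))).obj (K i)) (-(n : ℤ))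
    (fun i => (inferInstance : t.IsGE ((t.truncGE (-(n : ℤ))).obj (K i)) _)) m
    (x ≫ Limits.Sigma.map (f := K) fun i => (t.truncGEπ (-(n : ℤ))).app (K i))
  refine ⟨s, h1.1 ?_⟩
  change (x ≫ finProj K s) ≫ (t.truncGEπ (-(n : ℤ))).app (∐ K) = x ≫ (t.truncGEπ (-(n : ℤ))).app (∐ K)
  rw [← cancel_mono c, Category.assoc, Category.assoc, Category.assoc, hc, finProj_map, ← Category.assoc, hs]

theorem qFin_of_isPerfect [CompactSpace X] [QuasiSeparatedSpace X] {K : DCoh.D X} (hK : DCoh.IsPerfect K) :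
    QFin K := by
  refine DMV.perfect_induction (P := fun Y : DCoh.D X => QFin Y) ⟨qFin_of_iso, ?_, qFin_triangle₂⟩ ?_
    (fun A hA => qFin_shift hA 1) K hK
  · exact fun ι E _ _ f => by
      rw [(isZero_zero _).eq_of_src f 0]; exact finFac_zero E
  · intro W hW m ι E _ hE f
    obtain ⟨s, hs⟩ := finFac_gen hW E hE m
      (((DerivedCategory.singleFunctorIsoCompQ X.Modules m).app ((DQC.gen X).obj W)).hom ≫ f)
    exact ⟨s, by rwa [Category.assoc, cancel_epi] at hs⟩

/-- The derived direct image along an open immersion commutes with coproducts. -/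
theorem isIso_rpush_sigma [QuasiSeparatedSpace X] {W : X.Opens} (hW : IsCompact (W : Set X)) {ι : Type u}
    (E : ι → DCoh.D (W : Scheme.{u})) [HasCoproduct E] [HasCoproduct fun i => (DCoh.Rpush W.ι).obj (E i)]
    (hE : ∀ i, DCoh.IsQCohD (E i)) : IsIso (Sigma.desc fun i => (DCoh.Rpush W.ι).map (Sigma.ι E i)) := by
  haveI := quasiCompact_ι hW
  exact isIso_sigmaDesc W.ι E fun V hV m x => finFac_classes_qcoh W.ι E hE hV m x

/-- Compactness against supported families gives compactness against all families. -/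
theorem qFin_of_compact [QuasiSeparatedSpace X] {T : Set X} (hT : IsClosed T) (hTc : IsCompact Tᶜ)
    {K : DCoh.D X} (hKT : SuppOn T K)
    (h : ∀ (ι : Type u) (E : ι → DCoh.D X) [HasCoproduct E], (∀ i, DCoh.IsQCohD (E i)) → (∀ i, SuppOn T (E i)) →
      ∀ f : K ⟶ ∐ E, FinFac E f) : QFin K := fun ι E _ hE f => by
  let W : X.Opens := ⟨Tᶜ, hT.isOpen_compl⟩
  have hW : IsCompact (W : Set X) := hTc
  let adj := adjR W.ι
  let R := DPerf.resD W.ι
  have hex : ∀ i, ∃ Tr : Triangle (DCoh.D X), Tr ∈ distTriang _ ∧ DCoh.IsQCohD Tr.obj₁ ∧ SuppOn T Tr.obj₁ ∧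
      Tr.obj₂ = E i ∧ Tr.obj₃ = (DCoh.Rpush W.ι).obj (R.obj (E i)) := fun i => by
    obtain ⟨A, a, b, hA⟩ := distinguished_cocone_triangle₁ (adj.unit.app (E i))
    haveI := isIso_resD_unit W.ι (E i)
    have hA0 : IsZero (R.obj A) := (Triangle.isZero₁_iff_isIso₂ _ (R.map_distinguished _ hA)).2
      (inferInstanceAs (IsIso (R.map (adj.unit.app (E i)))))
    refine ⟨_, hA, isQCohD_obj₁ _ hA (hE i) (isQCohD_rpushι hW (DQC.isQCohD_resD W.ι (hE i))), ?_, rfl, rfl⟩
    refine suppOn_mono (le_of_eq ?_) (suppOn_of_isZero_resD W.ι hA0)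
    erw [Scheme.Opens.range_ι]
    exact compl_compl T
  choose Tr hTr hq hs h₂ h₃ using hex
  haveI := hasCoproduct_D fun i => (Tr i).obj₁
  haveI := hasCoproduct_D fun i => (Tr i).obj₂
  haveI := hasCoproduct_D fun i => (Tr i).obj₃
  haveI := hasCoproduct_D fun i => R.obj (E i)
  haveI := hasCoproduct_D fun i => (DCoh.Rpush W.ι).obj (R.obj (E i))
  haveI : HasColimitsOfShape (Discrete ι) (DCoh.D X) :=
    ⟨fun F => haveI : HasColimit (Discrete.functor (F.obj ∘ Discrete.mk)) := hasCoproduct_D (fun i => F.obj ⟨i⟩)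
      hasColimit_of_iso Discrete.natIsoFunctor⟩
  obtain ⟨b, c, hS⟩ := DGam9.exists_sigma_triangle Tr hTr
  haveI := isIso_rpush_sigma hW (fun i => R.obj (E i)) fun i => DQC.isQCohD_resD W.ι (hE i)
  let e₂ : (∐ fun i => (Tr i).obj₂) ≅ ∐ E := Sigma.mapIso fun i => eqToIso (h₂ i)
  let e₃ : (∐ fun i => (Tr i).obj₃) ≅ (DCoh.Rpush W.ι).obj (∐ fun i => R.obj (E i)) :=
    (Sigma.mapIso fun i => eqToIso (h₃ i)) ≪≫ asIso (Sigma.desc fun i => (DCoh.Rpush W.ι).map (Sigma.ι (fun i => R.obj (E i)) i))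
  have hKW : IsZero (R.obj K) := isZero_resD_of_suppOn W.ι hKT fun x => x.2
  have h0 : (f ≫ e₂.inv) ≫ b = 0 := by
    rw [← cancel_mono e₃.hom, zero_comp]
    exact (adj.homEquiv _ _).symm.injective (hKW.eq_of_src _ _)
  have hex' : ∃ g : K ⟶ ∐ fun i => (Tr i).obj₁, f ≫ e₂.inv = g ≫ Limits.Sigma.map fun i => (Tr i).mor₁ :=
    Triangle.coyoneda_exact₂ _ hS _ h0
  obtain ⟨g, hg⟩ := hex'
  have hf : f = g ≫ Limits.Sigma.map fun i => (Tr i).mor₁ ≫ eqToHom (h₂ i) := by
    rw [← cancel_mono e₂.inv, hg, Category.assoc]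
    refine congrArg (g ≫ ·) (Sigma.hom_ext _ _ fun i => ?_)
    simp [e₂]
  rw [hf]
  exact (h ι _ hq hs g).map fun i => (Tr i).mor₁ ≫ eqToHom (h₂ i)

theorem tX_full {R : CommRingCat.{u}} (e : X ≅ Spec R) : (tX e).Full :=
  ⟨fun g => (bijective_tX e _ _).2 g⟩

theorem tX_faithful {R : CommRingCat.{u}} (e : X ≅ Spec R) : (tX e).Faithful :=
  ⟨fun h => (bijective_tX e _ _).1 h⟩

theorem isIso_sigmaComparison_tX {R : CommRingCat.{u}} (e : X ≅ Spec R) {ι : Type u}
    (E : ι → DerivedCategory (ModuleCat.{u} R)) [HasCoproduct E] [HasCoproduct fun i => (tX e).obj (E i)] :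
    IsIso (sigmaComparison (tX e) E) := by
  haveI := tX_full e
  haveI := tX_faithful e
  obtain ⟨N, ⟨iN⟩⟩ := exists_tX_iso e (DPerf.isQCohD_sigma _ fun i => isQCohD_tX e (E i))
  let φ := sigmaComparison (tX e) E
  let h : ∐ E ⟶ N := Sigma.desc fun i =>
    (tX e).preimage (Sigma.ι (fun i => (tX e).obj (E i)) i ≫ iN.inv)
  let ψ : (tX e).obj (∐ E) ⟶ ∐ fun i => (tX e).obj (E i) := (tX e).map h ≫ iN.hom
  have h1 : φ ≫ ψ = 𝟙 _ := Sigma.hom_ext _ _ fun i => by
    simp [φ, ψ, h, ← Functor.map_comp_assoc]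
  refine ⟨ψ, h1, ?_⟩
  have h2 : h ≫ (tX e).preimage (iN.hom ≫ φ) = 𝟙 _ := Sigma.hom_ext _ _ fun i => (tX e).map_injective (by
    simp [h, φ, Functor.map_comp])
  have h3 := congrArg (tX e).map h2
  rw [Functor.map_comp, Functor.map_preimage, CategoryTheory.Functor.map_id] at h3
  exact (Category.assoc _ _ _).trans h3

/-- Compact objects with quasi-coherent cohomology are perfect. -/
theorem isPerfect_of_qFin [QuasiSeparatedSpace X] {K : DCoh.D X} (hKq : DCoh.IsQCohD K) (hK : QFin K) :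
    DCoh.IsPerfect K := by
  refine DPerf.isPerfect_iff_approx.2 fun x => ?_
  obtain ⟨V, hV, hxV, -⟩ := exists_isAffineOpen_mem_and_subset (x := x) (U := (⊤ : X.Opens)) trivial
  haveI : IsAffine (V : Scheme.{u}) := hV
  let R₀ := Γ((V : Scheme.{u}), ⊤)
  let e := (V : Scheme.{u}).isoSpec
  let Rj := DCoh.Rpush V.ι
  obtain ⟨_, _⟩ := DPush.exists_commShift_isTriangulated V.ι
  obtain ⟨M, ⟨iM⟩⟩ := exists_tX_iso e (DQC.isQCohD_resD V.ι hKq)
  have hV' : ∀ (ι : Type u) (E : ι → DCoh.D (V : Scheme.{u})) [HasCoproduct E], (∀ i, DCoh.IsQCohD (E i)) →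
      ∀ g : (DPerf.resD V.ι).obj K ⟶ ∐ E, FinFac E g := by
    intro ι E _ hE g
    haveI := hasCoproduct_D fun i => Rj.obj (E i)
    haveI := isIso_rpush_sigma hV.isCompact E hE
    let φ := Sigma.desc fun i => Rj.map (Sigma.ι E i)
    let a := (adjR V.ι).homEquiv _ _ g
    obtain ⟨s, hs⟩ := hK ι _ (fun i => isQCohD_rpushι hV.isCompact (hE i)) (a ≫ inv φ)
    refine ⟨s, ((adjR V.ι).homEquiv _ _).injective ?_⟩
    rw [Adjunction.homEquiv_naturality_right]
    have hc : φ ≫ Rj.map (finProj E s) = finProj (fun i => Rj.obj (E i)) s ≫ φ := Sigma.hom_ext _ _ fun i => by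
      rw [reassoc_of% (ι_finProj (fun i => Rj.obj (E i)) s i), Sigma.ι_desc_assoc, ← Functor.map_comp, ι_finProj]
      by_cases hi : i ∈ s <;> simp [hi, φ]
    calc a ≫ Rj.map (finProj E s) = (a ≫ inv φ) ≫ φ ≫ Rj.map (finProj E s) := by simp
      _ = ((a ≫ inv φ) ≫ finProj _ s) ≫ φ := by rw [hc]; simp only [Category.assoc]
      _ = a := by rw [hs]; simp
  have hsmall : DCompact9.SmallFin M := fun ι E _ f => by
    haveI := hasCoproduct_D fun i => (tX e).obj (E i)
    haveI := isIso_sigmaComparison_tX e E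
    haveI := tX_faithful e
    refine DCompact9.finFac_of_equivalence (tX e) f fun g => ?_
    obtain ⟨s, hs⟩ := hV' ι _ (fun i => isQCohD_tX e (E i)) (iM.inv ≫ g)
    exact ⟨s, by rwa [Category.assoc, cancel_epi] at hs⟩
  have hcount : DCompact9.CountFin M := fun E _ f => by
    haveI := hasCoproduct_D fun i : ULift.{u} ℕ => E i.down
    let w : (∐ fun i : ULift.{u} ℕ => E i.down) ⟶ ∐ E :=
      Sigma.desc fun i => (Iso.refl (E i.down)).hom ≫ Sigma.ι E i.down
    let w' : ∐ E ⟶ ∐ fun i : ULift.{u} ℕ => E i.down :=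
      Sigma.desc fun n => Sigma.ι (fun i : ULift.{u} ℕ => E i.down) ⟨n⟩
    have hww : w' ≫ w = 𝟙 _ := Sigma.hom_ext _ _ fun n => by simp [w, w']
    have := RHom.finFac_whisker E (fun i : ULift.{u} ℕ => E i.down) Equiv.ulift (fun i => Iso.refl _) _
      (hsmall _ _ (f ≫ w'))
    rw [show f = (f ≫ w') ≫ w by rw [Category.assoc, hww, Category.comp_id]]
    exact this
  have hP : DCoh.IsPerfect ((DPerf.resD V.ι).obj K) :=
    isPerfect_of_iso iM ((isPerfect_tX_iff e M).2 (DCompact9.isPerfect_of_fin hsmall hcount))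
  obtain ⟨Z, k, hk, ⟨z, hz⟩, P', hP', α, hα⟩ := (DPerf.isPerfect_iff_approx.1 hP) ⟨x, hxV⟩
  exact ⟨Z, k ≫ V.ι, inferInstance, ⟨z, by simp [hz]⟩, P', hP', α ≫ (DPerf.resDComp V.ι k).hom.app K,
    hα.comp (DPerf.dcond_of_isIso _)⟩

theorem isCompactObjRel_iff_isPerfect [CompactSpace X] [QuasiSeparatedSpace X] {T : Set X} (hT : IsClosed T)
    (hTc : IsCompact Tᶜ) {K : DCoh.D X} (hKq : DCoh.IsQCohD K) (hKT : SuppOn T K) :
    PerfAux.IsCompactObjRel.{u} (fun L : DCoh.D X => DCoh.IsQCohD L ∧ SuppOn T L) K ↔ DCoh.IsPerfect K := by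
  refine ⟨fun h => isPerfect_of_qFin hKq (qFin_of_compact hT hTc hKT fun ι E _ h₁ h₂ => ?_), fun h ι E _ hE => ?_⟩
  · exact (bijective_homSum_iff K E).1 (h ι E fun i => ⟨h₁ i, h₂ i⟩)
  · exact (bijective_homSum_iff K E).2 (qFin_of_isPerfect h ι E fun i => (hE i).1)

end Groth.Agent.DGen9
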