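import Groth.Agent.Lib.DGen9.Coloc
import Groth.Agent.Lib.DGen9.Gen
import Groth.Agent.Lib.DGen9.CompactPerf
import Groth.Agent.Lib.RHom.Small
import Mathlib.CategoryTheory.Adjunction.Comma

/-! The inclusion of `D_QCoh` is a left adjoint. -/

set_option autoImplicit false
set_option linter.unusedSectionVars false
set_option linter.style.haveILetI false
set_option backward.isDefEq.respectTransparency false
set_option backward.isDefEq.respectTransparency.types false
set_option maxHeartbeats 800000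

universe u

open CategoryTheory CategoryTheory.Limits AlgebraicGeometry Pretriangulated

attribute [local instance] HasDerivedCategory.standard

namespace Groth.Agent.DGen9

theorem hasCoproducts_D (X : Scheme.{u}) (κ : Type u) : HasColimitsOfShape (Discrete κ) (DCoh.D X) :=
  ⟨fun F => haveI : HasColimit (Discrete.functor (F.obj ∘ Discrete.mk)) := DPush.hasCoproduct_D (fun i => F.obj ⟨i⟩)
    hasColimit_of_iso Discrete.natIsoFunctor⟩

theorem exists_qcoh_coloc (X : Scheme.{u}) [CompactSpace X] [QuasiSeparatedSpace X] (M : DCoh.D X) :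
    ∃ (N : DCoh.D X) (ε : N ⟶ M), DCoh.IsQCohD N ∧
      ∀ Q, DCoh.IsQCohD Q → Function.Bijective fun f : Q ⟶ N => f ≫ ε := by
  haveI : LocallySmall.{u} (DCoh.D X) := RHom.locallySmall_derivedCategory X.Modules
  haveI : ∀ κ : Type u, HasColimitsOfShape (Discrete κ) (DCoh.D X) := hasCoproducts_D X
  haveI : HasColimitsOfShape (Discrete ℕ) (DCoh.D X) :=
    hasColimitsOfShape_of_equivalence (Discrete.equivalence (Equiv.ulift.{u} : ULift.{u} ℕ ≃ ℕ))
  obtain ⟨P, hP, hPq, -, hgen⟩ := exists_generator_qcqs X Set.univ isClosed_univ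
    (by rw [Set.compl_univ]; exact isCompact_empty)
  refine exists_coloc.{u} P (S := fun L : DCoh.D X => DCoh.IsQCohD L)
    ⟨DQC.isQCohD_of_iso, fun κ Y hY => DPerf.isQCohD_sigma Y hY, fun T hT => DPush.isQCohD_obj₃ T hT⟩
    (fun n => DMV.isQCohD_shift P hPq n) (fun n Y hY f => ?_)
    (fun Q hQ h => (hgen Q hQ (suppOn_univ Q)).2 h) M
  have hfin := qFin_of_isPerfect (isPerfect_shiftD hP n)
  let w : (∐ fun i : ULift.{u} ℕ => Y i.down) ⟶ ∐ Y :=
    Sigma.desc fun i => (Iso.refl (Y i.down)).hom ≫ Sigma.ι Y i.down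
  let w' : ∐ Y ⟶ ∐ fun i : ULift.{u} ℕ => Y i.down :=
    Sigma.desc fun k => Sigma.ι (fun i : ULift.{u} ℕ => Y i.down) ⟨k⟩
  have hww : w' ≫ w = 𝟙 _ := Sigma.hom_ext _ _ fun k => by simp [w, w']
  have := RHom.finFac_whisker Y (fun i : ULift.{u} ℕ => Y i.down) Equiv.ulift (fun i => Iso.refl _) _
    (hfin _ _ (fun i : ULift.{u} ℕ => hY i.down) (f ≫ w'))
  rw [show f = (f ≫ w') ≫ w by rw [Category.assoc, hww, Category.comp_id]]
  exact this

theorem isLeftAdjoint_inclusion (X : Scheme.{u}) [CompactSpace X] [QuasiSeparatedSpace X] :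
    (ObjectProperty.ι (DCoh.IsQCohD (X := X))).IsLeftAdjoint := by
  let G := ObjectProperty.ι (DCoh.IsQCohD (X := X))
  haveI : ∀ M, HasTerminal (CostructuredArrow G M) := fun M => by
    obtain ⟨N, ε, hN, hb⟩ := exists_qcoh_coloc X M
    let T : CostructuredArrow G M := CostructuredArrow.mk (Y := (⟨N, hN⟩ : ObjectProperty.FullSubcategory _)) ε
    refine (IsTerminal.ofUniqueHom (Y := T) (fun Q => CostructuredArrow.homMk
      (ObjectProperty.homMk ((hb Q.left.obj Q.left.property).2 Q.hom).choose)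
      ((hb Q.left.obj Q.left.property).2 Q.hom).choose_spec) fun Q g => ?_).hasTerminal
    refine CostructuredArrow.hom_ext _ _ (ObjectProperty.hom_ext _ ((hb Q.left.obj Q.left.property).1 ?_))
    exact (CostructuredArrow.w g).trans ((hb Q.left.obj Q.left.property).2 Q.hom).choose_spec.symm
  exact isLeftAdjoint_of_costructuredArrowTerminals G

end Groth.Agent.DGen9
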