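import Groth.Agent.Lib.DGen9.FibreCrit
import Groth.Agent.Lib.DGen9.RelLocal
import Groth.Agent.Lib.RHom.PCoh
import Mathlib.AlgebraicGeometry.Fiber

/-!
Relative tor dimension and boundedness on the fibres.
-/

set_option autoImplicit false
set_option linter.style.haveILetI false
set_option backward.isDefEq.respectTransparency false
set_option backward.isDefEq.respectTransparency.types false
set_option maxHeartbeats 1000000

universe u

open CategoryTheory CategoryTheory.Limits AlgebraicGeometry TensorProduct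

attribute [local instance] HasDerivedCategory.standard

namespace Groth.Agent.RelT

open DMod

variable {X S : Scheme.{u}}

/-- Locally bounded below. -/
def LocGE (K : DCoh.D X) : Prop := ∀ x : X, ∃ (V : X.Opens) (a : ℤ), x ∈ V ∧ ((DPerf.resD V.ι).obj K).IsGE a

theorem locGE_of_loc (f : X ⟶ S) {K : DCoh.D X} (h : DCoh.LocHasFiniteRelTorDim f K) : LocGE K := fun x => by
  obtain ⟨V, a, b, hx, hV⟩ := h x
  let F' := DerivedCategory.Q.objPreimage K
  let eF : DCoh.toD X F' ≅ K := DerivedCategory.Q.objObjPreimageIso K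
  obtain ⟨E, hv, -, ⟨eE⟩⟩ := hV F' ⟨eF⟩
  refine ⟨V, a, hx, ?_⟩
  haveI : (DCoh.toD _ E).IsGE a := (DerivedCategory.isGE_Q_obj_iff (C := (V : Scheme.{u}).Modules) E a).2
    ((CochainComplex.isGE_iff _ a).2 fun i hi => by
      rw [HomologicalComplex.exactAt_iff]
      exact ShortComplex.exact_of_isZero_X₂ _ (hv i (Or.inl hi)))
  exact DerivedCategory.TStructure.t.isGE_of_iso (eE ≪≫ ((DPerf.resFac V.ι).app F').symm ≪≫ (DPerf.resD V.ι).mapIso eF) a

theorem isGE_resD_of_le {K : DCoh.D X} {V : X.Opens} {a : ℤ} (h : ((DPerf.resD V.ι).obj K).IsGE a)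
    {Y : Scheme.{u}} (j : Y ⟶ X) [IsOpenImmersion j] (hj : j.opensRange ≤ V) : ((DPerf.resD j).obj K).IsGE a := by
  let k := IsOpenImmersion.lift V.ι j (by rw [Scheme.Opens.range_ι]; exact hj)
  have hk : k ≫ V.ι = j := IsOpenImmersion.lift_fac _ _ _
  haveI : IsOpenImmersion (k ≫ V.ι) := hk ▸ (inferInstance : IsOpenImmersion j)
  haveI : IsOpenImmersion k := IsOpenImmersion.of_comp k V.ι
  haveI : DerivedCategory.TStructure.t.IsGE ((DPerf.resD V.ι ⋙ DPerf.resD k).obj K) a :=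
    RHom.isGE_resD k ((DPerf.resD V.ι).obj K) a
  exact DerivedCategory.TStructure.t.isGE_of_iso ((DPerf.resDComp V.ι k).app K ≪≫ (RelPCS8.resDCongr hk).app K) a

/-- `tilde` reflects lower bounds. -/
theorem exactAt_of_isGE_tilde {A : CommRingCat.{u}} {F : DRing.Cx A} {L : DCoh.D (Spec A)} {a : ℤ} [L.IsGE a]
    (e : L ≅ (DPerf.tildeDD A).obj (DRing.toD F)) (i : ℤ) (hi : i < a) : F.ExactAt i := by
  haveI : PreservesFiniteLimits (tilde.functor A) := M1.tilde_preservesFiniteLimits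
  haveI : (DCoh.toD (Spec A) ((DPerf.tildeX A).obj F)).IsGE a :=
    DerivedCategory.TStructure.t.isGE_of_iso (e ≪≫ (tilde.functor A).mapDerivedCategoryFactors.app F) a
  have h := (CochainComplex.isGE_iff _ a).1
    ((DerivedCategory.isGE_Q_obj_iff (C := (Spec A).Modules) ((DPerf.tildeX A).obj F) a).1 inferInstance) i hi
  rw [HomologicalComplex.exactAt_iff] at h ⊢
  exact (ShortComplex.exact_map_iff_of_faithful _ (tilde.functor A)).1 h

/-- Elements of a module dying in a localization are torsion. -/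
theorem exists_pow_smul_of_isZero_ext_aux {C L : Type u} [CommRing C] [CommRing L] (φ : C →+* L) (c : C)
    [I : Algebra C L] (hI : I = φ.toAlgebra) [IsLocalization.Away c L] (H : ModuleCat.{u} C)
    (h : IsZero ((RelPC8.eS φ).obj H)) (z : H) : ∃ m : ℕ, c ^ m • z = 0 := by
  subst hI
  letI := φ.toAlgebra
  haveI : IsLocalizedModule (Submonoid.powers c) (TensorProduct.mk C L H 1) :=
    (isLocalizedModule_iff_isBaseChange (Submonoid.powers c) L _).2 (TensorProduct.isBaseChange C H L)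
  haveI : Subsingleton (L ⊗[C] H) := ModuleCat.subsingleton_of_isZero h
  obtain ⟨⟨_, m, rfl⟩, hm⟩ := (IsLocalizedModule.eq_zero_iff (Submonoid.powers c)
    (TensorProduct.mk C L H 1)).1 (Subsingleton.elim (TensorProduct.mk C L H 1 z) 0)
  exact ⟨m, hm⟩

theorem exists_pow_smul_of_isZero_ext {C L : Type u} [CommRing C] [CommRing L] [iA : Algebra C L] (c : C)
    [IsLocalization.Away c L] (H : ModuleCat.{u} C)
    (h : IsZero ((RelPC8.eS (algebraMap C L)).obj H)) (z : H) : ∃ m : ℕ, c ^ m • z = 0 :=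
  @exists_pow_smul_of_isZero_ext_aux C L _ _ (algebraMap C L) c iA (Algebra.algebra_ext _ _ fun _ => rfl) _ H h z

/-- Opens along an embedding into an affine scheme contain traces of basic opens. -/
theorem exists_basicOpen_trace {A : CommRingCat.{u}} {Z : Scheme.{u}} (θ : Z ⟶ Spec A)
    (hθ : Topology.IsEmbedding θ) (W : Z.Opens) (z : Z) (hz : z ∈ W) :
    ∃ g : A, θ z ∈ PrimeSpectrum.basicOpen g ∧ ∀ v, θ v ∈ PrimeSpectrum.basicOpen g → v ∈ W := by
  obtain ⟨O, hO, hOe⟩ := hθ.isInducing.isOpen_iff.1 W.isOpen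
  have hzO : θ z ∈ O := by rw [← Set.mem_preimage, hOe]; exact hz
  obtain ⟨_, ⟨g, rfl⟩, hg, hgO⟩ :=
    PrimeSpectrum.isTopologicalBasis_basic_opens.exists_subset_of_mem_open hzO hO
  exact ⟨g, hg, fun v hv => by
    have h4 : θ v ∈ O := hgO hv
    rw [← Set.mem_preimage, hOe] at h4
    exact h4⟩

/-- A prime lies in its fibre. -/
theorem exists_fibre_prime {R A : Type u} [CommRing R] [CommRing A] [Algebra R A] {p : Ideal R} [p.IsPrime]
    (q : Ideal A) [q.IsPrime] (h : p = q.comap (algebraMap R A)) :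
    (⟨q, ‹_›⟩ : PrimeSpectrum A) ∈ Set.range (PrimeSpectrum.comap (algebraMap A (A ⊗[R] p.ResidueField))) := by
  let m := Ideal.ResidueField.map p q (algebraMap R A) h
  let a₁ : A →ₐ[R] q.ResidueField := IsScalarTower.toAlgHom R A q.ResidueField
  let a₂ : p.ResidueField →ₐ[R] q.ResidueField :=
    { m with
      commutes' := fun r =>
        (Ideal.ResidueField.map_algebraMap p q (algebraMap R A) h r).trans (IsScalarTower.algebraMap_apply R A q.ResidueField r).symm }
  let χ := (Algebra.TensorProduct.lift a₁ a₂ fun _ _ => Commute.all _ _).toRingHom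
  refine ⟨⟨RingHom.ker χ, RingHom.ker_isPrime χ⟩, PrimeSpectrum.ext ?_⟩
  ext x
  show χ (x ⊗ₜ 1) = 0 ↔ x ∈ q
  rw [show χ (x ⊗ₜ 1) = a₁ x * a₂ 1 from rfl, map_one, mul_one]
  exact Ideal.algebraMap_residueField_eq_zero

theorem exists_fibre_point' {R A : CommRingCat.{u}} [Algebra R A] (p : Spec R) (q : Spec A)
    (h : p.asIdeal = q.asIdeal.comap (algebraMap R A)) :
    ∃ z, (Spec.map (CommRingCat.ofHom (algebraMap A (A ⊗[R] p.asIdeal.ResidueField)))) z = q := by
  obtain ⟨z, hz⟩ := exists_fibre_prime (p := p.asIdeal) q.asIdeal h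
  exact ⟨z, PrimeSpectrum.ext (congrArg (PrimeSpectrum.asIdeal) hz)⟩

/-- The chart of a fibre. -/
theorem exists_fibre_chart (f : X ⟶ S) {R A : CommRingCat.{u}} (i : Spec R ⟶ S) [IsOpenImmersion i]
    (j : Spec A ⟶ X) [IsOpenImmersion j] (φ : R ⟶ A) (w : j ≫ f = Spec.map φ ≫ i) (p : Spec R) :
    letI := φ.hom.toAlgebra
    ∃ k : Spec (CommRingCat.of (A ⊗[R] p.asIdeal.ResidueField)) ⟶ f.fiber (i p), IsOpenImmersion k ∧
      k ≫ f.fiberι (i p) = Spec.map (CommRingCat.ofHom (algebraMap A (A ⊗[R] p.asIdeal.ResidueField))) ≫ j := by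
  letI := φ.hom.toAlgebra
  let κ : CommRingCat.{u} := CommRingCat.of p.asIdeal.ResidueField
  let C : CommRingCat.{u} := CommRingCat.of (A ⊗[R] p.asIdeal.ResidueField)
  let ρ : R ⟶ κ := CommRingCat.ofHom (algebraMap R p.asIdeal.ResidueField)
  let θ : A ⟶ C := CommRingCat.ofHom (algebraMap A (A ⊗[R] p.asIdeal.ResidueField))
  let σ : κ ⟶ C := CommRingCat.ofHom
    (Algebra.TensorProduct.includeRight (R := R) (A := A) (B := p.asIdeal.ResidueField)).toRingHom
  have hsq : IsPullback (Spec.map θ) (Spec.map σ) (Spec.map φ) (Spec.map ρ) :=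
    isPullback_SpecMap_of_isPushout φ ρ θ σ (CommRingCat.isPushout_tensorProduct R A p.asIdeal.ResidueField)
  have hsq' : IsPullback (Spec.map θ) (Spec.map σ) (Spec.map φ ≫ i) (Spec.map ρ ≫ i) :=
    IsPullback.of_isLimit' ⟨by rw [← Category.assoc, hsq.w, Category.assoc]⟩
      (PullbackCone.isLimitOfCompMono _ _ i _ hsq.isLimit)
  let t : Spec κ ⟶ Spec (S.residueField (i p)) :=
    Spec.map (Scheme.Spec.residueFieldIso R p).hom ≫ Spec.map (i.residueFieldMap p)
  have ht : t ≫ S.fromSpecResidueField (i p) = Spec.map ρ ≫ i := by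
    rw [Category.assoc, Scheme.Hom.SpecMap_residueFieldMap_fromSpecResidueField, ← Category.assoc,
      ← Scheme.Spec.map_residueFieldIso_inv_eq_fromSpecResidueField, ← Category.assoc, ← Spec.map_comp]
    simp [ρ, κ]
  have hout : IsPullback (Spec.map θ) (Spec.map σ ≫ t) (j ≫ f) (S.fromSpecResidueField (i p)) := by
    rw [w]
    exact hsq'.of_iso (Iso.refl _) (Iso.refl _) (asIso t) (Iso.refl _) (by simp) (by simp) (by simp)
      (by simp [ht])
  let k : Spec C ⟶ f.fiber (i p) := pullback.lift (Spec.map θ ≫ j) (Spec.map σ ≫ t) (by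
    rw [Category.assoc]; exact hout.w)
  have hk : k ≫ f.fiberι (i p) = Spec.map θ ≫ j := pullback.lift_fst _ _ _
  have hk' : k ≫ pullback.snd f (S.fromSpecResidueField (i p)) = Spec.map σ ≫ t := pullback.lift_snd _ _ _
  have hbig : IsPullback (Spec.map θ) (k ≫ pullback.snd f (S.fromSpecResidueField (i p))) (j ≫ f)
      (S.fromSpecResidueField (i p)) := hk'.symm ▸ hout
  have hleft : IsPullback k (Spec.map θ) (pullback.fst f (S.fromSpecResidueField (i p))) j :=
    IsPullback.of_right hbig.flip hk (IsPullback.of_hasPullback f (S.fromSpecResidueField (i p))).flip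
  exact ⟨k, MorphismProperty.of_isPullback hleft.flip inferInstance, hk⟩

/-- Boundedness of the fibre through a point kills fibre cohomology near it. -/
theorem fibre_kill (f : X ⟶ S) {R A : CommRingCat.{u}} (i : Spec R ⟶ S) [IsOpenImmersion i] (j : Spec A ⟶ X)
    [IsOpenImmersion j] (φ : R ⟶ A) (w : j ≫ f = Spec.map φ ≫ i) {K : DCoh.D X} {M : Dual.D A}
    (eM : (DPerf.tildeDD A).obj M ≅ (DPerf.resD j).obj K) (F : DRing.Cx A) (b : ℤ) [F.IsStrictlyLE b]
    (hFflat : ∀ l, Module.Flat A (F.X l)) (eF : DRing.toD F ≅ M)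
    (hfib : ∀ s : S, LocGE ((DMon9.lP (f.fiberι s)).obj K)) (qA : Spec A) :
    letI := φ.hom.toAlgebra
    ∃ (a' : ℤ) (g₀ : A), g₀ ∉ qA.asIdeal ∧ ∀ l, l < a' →
      ∀ z : ((RelPC8.eCx (algebraMap A (A ⊗[R] ((Spec.map φ) qA).asIdeal.ResidueField))).obj F).homology l,
        ∃ m : ℕ, (algebraMap A (A ⊗[R] ((Spec.map φ) qA).asIdeal.ResidueField) g₀) ^ m • z = 0 := by
  letI := φ.hom.toAlgebra
  let p : Spec R := (Spec.map φ) qA
  let Cq : CommRingCat.{u} := CommRingCat.of (A ⊗[R] p.asIdeal.ResidueField)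
  let θ : A ⟶ Cq := CommRingCat.ofHom (algebraMap A (A ⊗[R] p.asIdeal.ResidueField))
  obtain ⟨k, hko, hk⟩ := exists_fibre_chart f i j φ w p
  haveI := hko
  have hjq : f (j qA) = i p := by rw [← Scheme.Hom.comp_apply, w]; rfl
  obtain ⟨y, hy⟩ : j qA ∈ Set.range (f.fiberι (i p)) := by rw [Scheme.Hom.range_fiberι]; exact hjq
  obtain ⟨W', a', hyW, hW'⟩ := hfib (i p) y
  have hθ : Topology.IsEmbedding (Spec.map θ) := by
    refine Topology.IsEmbedding.of_comp (Spec.map θ).continuous j.continuous ?_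
    have h1 := (f.fiberι (i p)).isEmbedding.comp k.isOpenEmbedding.isEmbedding
    have h2 : (fun z => j ((Spec.map θ) z)) = fun z => f.fiberι (i p) (k z) := funext fun z => by
      rw [← Scheme.Hom.comp_apply, ← hk, Scheme.Hom.comp_apply]
    exact (show ⇑j ∘ ⇑(Spec.map θ) = ⇑(f.fiberι (i p)) ∘ ⇑k from h2) ▸ h1
  have hpq : p.asIdeal = qA.asIdeal.comap φ.hom := rfl
  have hz0 : ∃ z, (Spec.map θ) z = qA := exists_fibre_point' (R := R) (A := A) p qA hpq
  obtain ⟨z, hz⟩ := hz0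
  have hyk : k z = y := (f.fiberι (i p)).isEmbedding.injective (by
    rw [hy, ← Scheme.Hom.comp_apply, hk, Scheme.Hom.comp_apply]
    exact congrArg (fun w => j w) hz)
  obtain ⟨g₀, hqg', hgW⟩ := exists_basicOpen_trace (Spec.map θ) hθ (k ⁻¹ᵁ W') z
    (show k z ∈ W' by rw [hyk]; exact hyW)
  have hqg : g₀ ∉ qA.asIdeal := by rw [hz] at hqg'; exact hqg'
  refine ⟨a', g₀, hqg, fun l hl z' => ?_⟩
  let c : Cq := θ g₀
  let ψ : Cq ⟶ CommRingCat.of (Localization.Away c) := CommRingCat.ofHom (algebraMap Cq (Localization.Away c))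
  let jc := Spec.map ψ
  haveI : IsOpenImmersion jc := IsOpenImmersion.of_isLocalization c
  haveI := DQC.hasLBaseChange θ.hom
  haveI := DQC.hasLBaseChange ψ.hom
  haveI := isGE_resD_of_le hW' (jc ≫ k) (by
    rintro _ ⟨v, rfl⟩
    show k (jc v) ∈ W'
    have h3 : jc v ∈ (PrimeSpectrum.basicOpen c : TopologicalSpace.Opens _) :=
      (PrimeSpectrum.localization_away_comap_range (Localization.Away c) c).le ⟨v, rfl⟩
    exact hgW (jc v) h3)
  haveI : PreservesFiniteLimits (tilde.functor (CommRingCat.of (Localization.Away c))) := M1.tilde_preservesFiniteLimits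
  haveI : PreservesFiniteLimits (tilde.functor Cq) := M1.tilde_preservesFiniteLimits
  have hcflat : ψ.hom.Flat := RingHom.flat_algebraMap_iff.2 (IsLocalization.flat _ (Submonoid.powers c))
  let G := (DBaseChange.extCx θ.hom).obj F
  haveI := isIso_valueMap_of_flat ψ.hom hcflat G
  let e : (DPerf.resD (jc ≫ k)).obj ((DMon9.lP (f.fiberι (i p))).obj K) ≅
      (DPerf.tildeDD (CommRingCat.of (Localization.Away c))).obj (DRing.toD ((DBaseChange.extCx ψ.hom).obj G)) :=
    ((DMon9.lPRes (jc ≫ k)).app _).symm ≪≫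
    (DMon9.lPComp (jc ≫ k) (f.fiberι (i p)) (show (jc ≫ k) ≫ f.fiberι (i p) = (jc ≫ Spec.map θ) ≫ j by
      rw [Category.assoc, hk, Category.assoc])).app K ≪≫
    ((DMon9.lPComp (jc ≫ Spec.map θ) j rfl).app K).symm ≪≫
    (DMon9.lP (jc ≫ Spec.map θ)).mapIso ((DMon9.lPRes j).app K ≪≫ eM.symm ≪≫ (DPerf.tildeDD A).mapIso eF.symm) ≪≫
    ((DMon9.lPComp jc (Spec.map θ) rfl).app _).symm ≪≫
    (DMon9.lP jc).mapIso ((DBC9.lPTildeIso θ).app _ ≪≫
      (DPerf.tildeDD Cq).mapIso (DBaseChange.valueIso θ.hom F (DBaseChange.adapted_of_flat F b hFflat))) ≪≫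
    (DBC9.lPTildeIso ψ).app _ ≪≫
    (DPerf.tildeDD _).mapIso (asIso ((DBaseChange.valueMap ψ.hom).app G))
  have h5 := exactAt_of_isGE_tilde e l hl
  refine exists_pow_smul_of_isZero_ext (L := Localization.Away c) c (G.homology l) ?_ z'
  haveI : Module.Flat Cq (Localization.Away c) := IsLocalization.flat _ (Submonoid.powers c)
  haveI := RelPC8.preservesHomology_eS (P := Cq) (P' := Localization.Away c)
  exact IsZero.of_iso ((HomologicalComplex.exactAt_iff_isZero_homology _ _).1 h5)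
    ((G.sc l).mapHomologyIso (RelPC8.eS (algebraMap Cq (Localization.Away c)))).symm

/-- Bounded fibres give finite relative tor dimension. -/
theorem loc_of_fibres (f : X ⟶ S) [Flat f] [LocallyOfFinitePresentation f] {K : DCoh.D X}
    (hpc : ∀ m : ℤ, DCoh.IsPseudoCoherentD m K) (hX : LocGE K)
    (hfib : ∀ s : S, LocGE ((DMon9.lP (f.fiberι s)).obj K)) : DCoh.LocHasFiniteRelTorDim f K := fun x => by
  obtain ⟨V, a, hxV, hV⟩ := hX x
  obtain ⟨W, hW, hxW, -⟩ := exists_isAffineOpen_mem_and_subset (X := S) (x := f x) (U := ⊤) trivial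
  obtain ⟨U, hU, hxU, hUV⟩ :=
    exists_isAffineOpen_mem_and_subset (X := X) (x := x) (U := V ⊓ f ⁻¹ᵁ W) ⟨hxV, hxW⟩
  have hUW : U ≤ f ⁻¹ᵁ W := le_trans hUV inf_le_right
  let R := Γ(S, W)
  let A := Γ(X, U)
  let φ : R ⟶ A := f.appLE W U hUW
  let i := hW.fromSpec
  let j := hU.fromSpec
  have w : j ≫ f = Spec.map φ ≫ i := (IsAffineOpen.SpecMap_appLE_fromSpec f hW hU hUW).symm
  obtain ⟨M, ⟨eM⟩⟩ := exists_chartModule j (isQCohD_of_pc hpc)
  have hM : DRing.IsPseudoCoherent' A M := (DMod.pc'_iff M).2 fun m => (DPerf.pc_tilde_iff (R := A) m M).1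
    (DPerf.isPseudoCoherentD_of_approx ((RelPCS8.approx_res (DPerf.approx_of_isPseudoCoherentD (hpc m)) j).of_iso eM.symm))
  obtain ⟨F, b, hFb, hF, ⟨eF⟩⟩ := id hM
  haveI := (DMod.vanishesAbove_iff F b).1 hFb
  haveI := isGE_resD_of_le hV j (by rw [IsAffineOpen.opensRange_fromSpec]; exact le_trans hUV inf_le_left)
  have hex := fun l (hl : l < a) => exactAt_of_isGE_tilde (eM.symm ≪≫ (DPerf.tildeDD A).mapIso eF.symm) l hl
  letI := φ.hom.toAlgebra
  haveI : Module.Flat R A := f.flat_appLE hW hU hUW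
  haveI : Algebra.FinitePresentation R A := f.finitePresentation_appLE hW hU hUW
  have hFflat : ∀ l, Module.Flat A (F.X l) := fun l => have := (hF l).2; inferInstance
  obtain ⟨a₀, b₀, hamp⟩ := exists_amp_of_fibres (R := R) (A := A) F b hF a hex fun q hq =>
    fibre_kill f i j φ w eM F b hFflat eF hfib ⟨q, hq⟩
  have hamp' : DRing.HasTorAmplitudeIn R a₀ b₀ ((DRing.restrictD φ.hom).obj M) :=
    DBaseChange.hasTorAmplitudeIn_of_iso (((ModuleCat.restrictScalars.{u} φ.hom).mapDerivedCategoryFactors.app F).symm ≪≫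
      (DRing.restrictD φ.hom).mapIso eF) hamp
  exact ⟨j.opensRange, a₀, b₀, by rw [IsAffineOpen.opensRange_fromSpec]; exact hxU, fun F' ⟨eF'⟩ =>
    hasRel_of_torAmp f i j φ (f.flat_appLE hW hU hUW) w M eM hamp' F' eF'⟩

end Groth.Agent.RelT
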