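import Groth.Agent.Lib.DGen9.QCohAdj

/-! A generator is a classical generator of the perfect objects. -/

set_option autoImplicit false
set_option linter.unusedSectionVars false
set_option linter.style.haveILetI false
set_option backward.isDefEq.respectTransparency false
set_option backward.isDefEq.respectTransparency.types false
set_option maxHeartbeats 800000

universe u

open CategoryTheory CategoryTheory.Limits AlgebraicGeometry Pretriangulated Groth.Agent.DPush ZeroObject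

attribute [local instance] HasDerivedCategory.standard

namespace Groth.Agent.DGen9

variable {X : Scheme.{u}}

/-- A class closed under isomorphisms, extensions, shifts and retracts, containing zero. -/
structure ThickClass (A : DCoh.D X → Prop) : Prop where
  iso : ∀ {K L : DCoh.D X}, (K ≅ L) → A K → A L
  zero : A 0
  ext : ∀ T ∈ (distTriang (DCoh.D X)), A T.obj₁ → A T.obj₃ → A T.obj₂
  shift : ∀ (K : DCoh.D X) (n : ℤ), A K → A (K⟦n⟧)
  retract : ∀ {K L : DCoh.D X} (i : L ⟶ K) (r : K ⟶ L), i ≫ r = 𝟙 L → A K → A L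

/-- Maps from perfect objects factor through the perfect objects of the class. -/
def FacThrough (A : DCoh.D X → Prop) (Z : DCoh.D X) : Prop :=
  ∀ K : DCoh.D X, DCoh.IsPerfect K → ∀ f : K ⟶ Z,
    ∃ (Y : DCoh.D X) (a : K ⟶ Y) (b : Y ⟶ Z), A Y ∧ DCoh.IsPerfect Y ∧ a ≫ b = f

variable {A : DCoh.D X → Prop} (hA : ThickClass A)

include hA in
theorem exists_fac_add {Z K : DCoh.D X} {f g : K ⟶ Z}
    (hf : ∃ (Y : DCoh.D X) (a : K ⟶ Y) (b : Y ⟶ Z), A Y ∧ DCoh.IsPerfect Y ∧ a ≫ b = f)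
    (hg : ∃ (Y : DCoh.D X) (a : K ⟶ Y) (b : Y ⟶ Z), A Y ∧ DCoh.IsPerfect Y ∧ a ≫ b = g) :
    ∃ (Y : DCoh.D X) (a : K ⟶ Y) (b : Y ⟶ Z), A Y ∧ DCoh.IsPerfect Y ∧ a ≫ b = f + g := by
  obtain ⟨Y, a, b, hY, hYp, rfl⟩ := hf
  obtain ⟨Y', a', b', hY', hYp', rfl⟩ := hg
  exact ⟨Y ⊞ Y', biprod.lift a a', biprod.desc b b', hA.ext _ (binaryBiproductTriangle_distinguished Y Y') hY hY',
    isPerfect_obj₂ _ (binaryBiproductTriangle_distinguished Y Y') hYp hYp', biprod.lift_desc⟩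

include hA in
theorem facThrough_shift {Z : DCoh.D X} (h : FacThrough A Z) (n : ℤ) : FacThrough A (Z⟦n⟧) := fun K hK f => by
  obtain ⟨Y, a, b, hY, hYp, hab⟩ := h (K⟦-n⟧) (isPerfect_shiftD hK _) (f⟦-n⟧' ≫ (shiftShiftNeg Z n).hom)
  refine ⟨Y⟦n⟧, (shiftNegShift K n).inv ≫ a⟦n⟧', b⟦n⟧', hA.shift Y n hY, isPerfect_shiftD hYp n, ?_⟩
  rw [Category.assoc, ← Functor.map_comp, hab, Functor.map_comp, ← cancel_epi (shiftNegShift K n).hom,
    Iso.hom_inv_id_assoc]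
  exact (congrArg (_ ≫ ·) (shift_shiftFunctorCompIsoId_hom_app n (-n) (add_neg_cancel n) Z)).trans
    ((shiftFunctorCompIsoId (DCoh.D X) (-n) n (neg_add_cancel n)).hom.naturality f)

include hA in
theorem facThrough_cone (T : Triangle (DCoh.D X)) (hT : T ∈ distTriang _) (h₁ : FacThrough A T.obj₁)
    (h₂ : FacThrough A T.obj₂) : FacThrough A T.obj₃ := fun K hK f => by
  obtain ⟨Y', a, b, hY', hY'p, hab⟩ := facThrough_shift hA h₁ 1 K hK (f ≫ T.mor₃)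
  obtain ⟨K', i, c, hK'⟩ := distinguished_cocone_triangle₁ a
  have hia : i ≫ a = 0 := comp_distTriang_mor_zero₁₂ _ hK'
  have hexh : ∃ h : K' ⟶ T.obj₂, i ≫ f = h ≫ T.mor₂ := Triangle.coyoneda_exact₃ _ hT (i ≫ f)
    (by rw [Category.assoc, ← hab, reassoc_of% hia, zero_comp])
  obtain ⟨h, hh⟩ := hexh
  obtain ⟨Y₂, a₂, b₂, hY₂, hY₂p, hab₂⟩ := h₂ K' (isPerfect_obj₁ _ hK' hK hY'p) h
  obtain ⟨Y₃, j, e, hY₃⟩ := distinguished_cocone_triangle₂ (c ≫ a₂⟦(1 : ℤ)⟧')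
  have hexk : ∃ k : K ⟶ Y₃, i ≫ k = a₂ ≫ j ∧ a ≫ 𝟙 Y' = k ≫ e :=
    complete_distinguished_triangle_morphism₂ _ _ hK' hY₃ a₂ (𝟙 Y') (Category.id_comp _).symm
  obtain ⟨k, hik, hke⟩ := hexk
  rw [Category.comp_id] at hke
  have hci : c ≫ i⟦(1 : ℤ)⟧' = 0 := comp_distTriang_mor_zero₃₁ _ hK'
  have hexm : ∃ g : Y₃⟦(1 : ℤ)⟧ ⟶ T.obj₃⟦(1 : ℤ)⟧, (b₂ ≫ T.mor₂)⟦(1 : ℤ)⟧' = (-(j⟦(1 : ℤ)⟧')) ≫ g :=
    Triangle.yoneda_exact₃ _ (rot_of_distTriang _ hY₃) ((b₂ ≫ T.mor₂)⟦(1 : ℤ)⟧') (by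
      show (c ≫ a₂⟦(1 : ℤ)⟧') ≫ (b₂ ≫ T.mor₂)⟦(1 : ℤ)⟧' = 0
      rw [Category.assoc, ← Functor.map_comp, reassoc_of% hab₂, ← hh, Functor.map_comp, reassoc_of% hci,
        zero_comp])
  obtain ⟨g, hg⟩ := hexm
  obtain ⟨m₀, hm₀⟩ := (shiftFunctor (DCoh.D X) (1 : ℤ)).map_surjective (-g)
  have hjm : j ≫ m₀ = b₂ ≫ T.mor₂ := (shiftFunctor (DCoh.D X) (1 : ℤ)).map_injective (by
    rw [Functor.map_comp, hm₀, hg, Preadditive.neg_comp, Preadditive.comp_neg])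
  have hexz : ∃ z : Y' ⟶ T.obj₃, f - k ≫ m₀ = a ≫ z := Triangle.yoneda_exact₂ _ hK' (f - k ≫ m₀) (by
    show i ≫ (f - k ≫ m₀) = 0
    rw [Preadditive.comp_sub, reassoc_of% hik, hjm, reassoc_of% hab₂, ← hh, sub_self])
  obtain ⟨z, hz⟩ := hexz
  refine ⟨Y₃, k, m₀ + e ≫ z, hA.ext _ hY₃ hY₂ hY', isPerfect_obj₂ _ hY₃ hY₂p hY'p, ?_⟩
  rw [Preadditive.comp_add, ← reassoc_of% hke, ← hz, add_sub_cancel]

include hA in
/-- Every perfect object lies in a thick class containing the shifts of a generator. -/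
theorem mem_of_isPerfect [CompactSpace X] [QuasiSeparatedSpace X] {P : DCoh.D X} (hP : DCoh.IsPerfect P)
    (hgen : ∀ Q : DCoh.D X, DCoh.IsQCohD Q → (∀ (n : ℤ) (φ : P⟦n⟧ ⟶ Q), φ = 0) → IsZero Q) (hPA : A P)
    {K : DCoh.D X} (hK : DCoh.IsPerfect K) : A K := by
  classical
  haveI : LocallySmall.{u} (DCoh.D X) := RHom.locallySmall_derivedCategory X.Modules
  haveI : ∀ κ : Type u, HasColimitsOfShape (Discrete κ) (DCoh.D X) := hasCoproducts_D X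
  haveI : HasColimitsOfShape (Discrete ℕ) (DCoh.D X) :=
    hasColimitsOfShape_of_equivalence (Discrete.equivalence (Equiv.ulift.{u} : ULift.{u} ℕ ≃ ℕ))
  let S : DCoh.D X → Prop := fun Z => DCoh.IsQCohD Z ∧ FacThrough A Z
  have hS : CoclosedClass.{u} S := by
    refine ⟨fun e h => ⟨DQC.isQCohD_of_iso e h.1, fun L hL f => ?_⟩,
      fun κ Y hY => ⟨DPerf.isQCohD_sigma Y fun k => (hY k).1, fun L hL f => ?_⟩,
      fun T hT h₁ h₂ => ⟨DPush.isQCohD_obj₃ T hT h₁.1 h₂.1, facThrough_cone hA T hT h₁.2 h₂.2⟩⟩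
    · obtain ⟨Y, a, b, hY, hYp, hab⟩ := h.2 L hL (f ≫ e.inv)
      exact ⟨Y, a, b ≫ e.hom, hY, hYp, by rw [reassoc_of% hab, Iso.inv_hom_id, Category.comp_id]⟩
    · obtain ⟨s, hs⟩ := qFin_of_isPerfect hL κ Y (fun k => (hY k).1) f
      have key : ∀ t : Finset κ, ∃ (Y' : DCoh.D X) (a : L ⟶ Y') (b : Y' ⟶ ∐ Y), A Y' ∧ DCoh.IsPerfect Y' ∧
          a ≫ b = ∑ k ∈ t, (f ≫ Sigma.π Y k) ≫ Sigma.ι Y k := by
        intro t
        induction t using Finset.induction_on with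
        | empty => exact ⟨0, 0, 0, hA.zero, isPerfect_obj₃ _ (contractible_distinguished L) hL hL, by simp⟩
        | insert k t hk ih =>
          rw [Finset.sum_insert hk]
          obtain ⟨Y', a, b, hY', hYp, hab⟩ := (hY k).2 L hL (f ≫ Sigma.π Y k)
          exact exists_fac_add hA ⟨Y', a, b ≫ Sigma.ι Y k, hY', hYp, by rw [reassoc_of% hab, Category.assoc]⟩ ih
      obtain ⟨Y', a, b, hY', hYp, hab⟩ := key s
      refine ⟨Y', a, b, hY', hYp, hab.trans ?_⟩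
      conv_rhs => rw [← hs, finProj_eq_sum, Preadditive.comp_sum]
      exact Finset.sum_congr rfl fun k _ => Category.assoc _ _ _
  have hSP : ∀ n : ℤ, S (P⟦n⟧) := fun n => ⟨DMV.isQCohD_shift P (isQCohD_of_isPerfect hP) n,
    fun L _ f => ⟨P⟦n⟧, f, 𝟙 _, hA.shift P n hPA, isPerfect_shiftD hP n, Category.comp_id f⟩⟩
  obtain ⟨N, ε, hN, hε⟩ := exists_tower_obj P hS hSP (fun n Y hY f => by
    let w : (∐ fun i : ULift.{u} ℕ => Y i.down) ⟶ ∐ Y :=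
      Sigma.desc fun i => (Iso.refl (Y i.down)).hom ≫ Sigma.ι Y i.down
    let w' : ∐ Y ⟶ ∐ fun i : ULift.{u} ℕ => Y i.down :=
      Sigma.desc fun k => Sigma.ι (fun i : ULift.{u} ℕ => Y i.down) ⟨k⟩
    have hww : w' ≫ w = 𝟙 _ := Sigma.hom_ext _ _ fun k => by simp [w, w']
    have := RHom.finFac_whisker Y (fun i : ULift.{u} ℕ => Y i.down) Equiv.ulift (fun i => Iso.refl _) _
      (qFin_of_isPerfect (isPerfect_shiftD hP n) _ _ (fun i : ULift.{u} ℕ => (hY i.down).1) (f ≫ w'))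
    rw [show f = (f ≫ w') ≫ w by rw [Category.assoc, hww, Category.comp_id]]
    exact this) K
  obtain ⟨Z, q, r, hT⟩ := distinguished_cocone_triangle ε
  have hZ : IsZero Z := hgen Z (DPush.isQCohD_obj₃ _ hT hN.1 (isQCohD_of_isPerfect hK)) (eq_zero_of_bijective hT hε)
  haveI : IsIso ε := (Triangle.isZero₃_iff_isIso₁ _ hT).1 hZ
  obtain ⟨Y, a, b, hY, -, hab⟩ := (hS.iso (asIso ε) hN).2 K hK (𝟙 K)
  exact hA.retract a b hab hY

end Groth.Agent.DGen9
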