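import Groth.Agent.Lib.DGen9.TorPush
import Groth.Agent.Lib.DGen9.Classical
import Groth.Agent.Lib.DPush9.Coh
import Groth.Agent.Lib.DPerf.RelAmp
import Groth.Prelude.Def_ClSub2

/-!
# Perfect derived direct images
-/

set_option autoImplicit false
set_option linter.style.haveILetI false
set_option linter.unusedSectionVars false
set_option backward.isDefEq.respectTransparency false
set_option backward.isDefEq.respectTransparency.types false
set_option maxHeartbeats 800000

universe u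

open CategoryTheory CategoryTheory.Limits AlgebraicGeometry Pretriangulated

attribute [local instance] HasDerivedCategory.standard

namespace Groth.Agent.PerfPush9

open DMon9 TorPush9

attribute [local instance] DBC9.hasRpush

section Basic

variable {X S : Scheme.{u}}

theorem isPerfect_retract {K L : DCoh.D X} (i : L ⟶ K) (r : K ⟶ L) (h : i ≫ r = 𝟙 L) (hK : DCoh.IsPerfect K) :
    DCoh.IsPerfect L := by
  obtain ⟨C, g, w, hT⟩ := distinguished_cocone_triangle i
  have hm : Mono i := IsSplitMono.mono i (hf := IsSplitMono.mk' ⟨r, h⟩)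
  obtain ⟨e, -⟩ := exists_iso_binaryBiproduct_of_distTriang _ hT (Triangle.mor₃_eq_zero_of_mono₁ _ hT hm)
  exact (DPerf.isPerfect_summands (DGen9.isPerfect_of_iso e hK)).1

theorem isPerfect_zero {Z : DCoh.D X} (h : IsZero Z) : DCoh.IsPerfect Z :=
  DPerf.isPerfect_iff_approx.2 fun x => ⟨X, 𝟙 X, inferInstance, ⟨x, rfl⟩,
    (HomologicalComplex.zero : CochainComplex X.Modules ℤ),
    ⟨⟨0, 0, fun i _ => isZero_zero _⟩, fun i => KFlat.Sch.isFinLocFree_of_isZero (isZero_zero _)⟩,
    ((DerivedCategory.Q.map_isZero (HomologicalComplex.isZero_zero)).iso ((DPerf.resD (𝟙 X)).map_isZero h)).hom,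
    @DPerf.dcond_of_isIso _ _ _ _ _ _ _ _ (Iso.isIso_hom _)⟩

/-- Perfection is local. -/
theorem isPerfect_of_cover {K : DCoh.D X}
    (h : ∀ x : X, ∃ (Z : Scheme.{u}) (j : Z ⟶ X) (_ : IsOpenImmersion j), x ∈ Set.range j ∧
      DCoh.IsPerfect ((DPerf.resD j).obj K)) : DCoh.IsPerfect K :=
  DPerf.isPerfect_iff_approx.2 (DPerf.Approx.of_cover fun x => by
    obtain ⟨Z, j, hj, hx, hZ⟩ := h x
    exact ⟨Z, j, hj, hx, DPerf.isPerfect_iff_approx.1 hZ⟩)

/-- Objects whose direct image is perfect. -/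
theorem thickClass (f : X ⟶ S) : DGen9.ThickClass fun E : DCoh.D X => DCoh.IsPerfect ((DCoh.Rpush f).obj E) := by
  obtain ⟨_, _⟩ := DPush.exists_commShift_isTriangulated f
  exact {
    iso := fun e h => DGen9.isPerfect_of_iso ((DCoh.Rpush f).mapIso e) h
    zero := isPerfect_zero ((DCoh.Rpush f).map_isZero (isZero_zero _))
    ext := fun T hT h₁ h₃ => DGen9.isPerfect_obj₂ _ ((DCoh.Rpush f).map_distinguished _ hT) h₁ h₃
    shift := fun K n h => DGen9.isPerfect_of_iso (((DCoh.Rpush f).commShiftIso n).app K).symm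
      (DGen9.isPerfect_shiftD h n)
    retract := fun i r h hK => isPerfect_retract ((DCoh.Rpush f).map i) ((DCoh.Rpush f).map r)
      (by rw [← Functor.map_comp, h, CategoryTheory.Functor.map_id]) hK }

/-- The question is local on the base. -/
theorem isPerfect_rpush_of_affine (f : X ⟶ S) (E : DCoh.D X)
    (h : ∀ (V : S.Opens) (hV : IsAffineOpen V), DCoh.IsPerfect ((DCoh.Rpush (f ∣_ V ≫ hV.isoSpec.hom)).obj
      ((DPerf.resD (f ⁻¹ᵁ V).ι).obj E))) : DCoh.IsPerfect ((DCoh.Rpush f).obj E) := by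
  refine isPerfect_of_cover fun s => ?_
  obtain ⟨V, hV, hsV, -⟩ := exists_isAffineOpen_mem_and_subset (X := S) (x := s) (U := ⊤) trivial
  have H : IsPullback (f ∣_ V ≫ hV.isoSpec.hom) (f ⁻¹ᵁ V).ι hV.fromSpec f :=
    (isPullback_morphismRestrict f V).of_iso (Iso.refl _) hV.isoSpec (Iso.refl _) (Iso.refl _)
      (by simp) (by simp) (by rw [← IsAffineOpen.isoSpec_hom_fromSpec hV]; simp) (by simp)
  obtain ⟨c⟩ := DBC9.nonempty_res_rpush f (f ∣_ V ≫ hV.isoSpec.hom) hV.fromSpec (f ⁻¹ᵁ V).ι H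
  exact ⟨_, hV.fromSpec, inferInstance, by rw [IsAffineOpen.range_fromSpec]; exact hsV,
    DGen9.isPerfect_of_iso (c.app E).symm (h V hV)⟩

end Basic

variable {R : CommRingCat.{u}} {X : Scheme.{u}}

/-- Pseudo-coherent with finite amplitude over an affine base. -/
theorem isPerfect_of_finAmp {G : DCoh.D (Spec R)} (hpc : ∀ m : ℤ, DCoh.IsPseudoCoherentD m G) (h : FinAmp G) :
    DCoh.IsPerfect G := by
  obtain ⟨M, ⟨e⟩⟩ := DQC.exists_iso_of_isQCohD G (RelT.isQCohD_of_pc hpc)
  obtain ⟨a, b, hM⟩ := (finAmp_tilde_iff M).1 (finAmp_of_iso e.symm h)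
  have h1 : DRing.IsPseudoCoherent R (a - 1) M :=
    (DPerf.pc_tilde_iff (R := R) (a - 1) M).1 (DPerf.isPseudoCoherentD_of_approx
      ((DPerf.approx_of_isPseudoCoherentD (hpc (a - 1))).of_iso e.symm))
  obtain ⟨P, hP, hPF, e'⟩ := DMod.exists_finProjAmp h1 hM
  exact DGen9.isPerfect_of_iso e ((DPerf.perfect_tilde_iff M).2 ⟨P, a, b, hP, hPF, e'⟩)

/-- Over a noetherian ring: coherent, bounded, proper support and finite tor dimension. -/
theorem isPerfect_rpush_noeth [IsNoetherianRing R] (f : X ⟶ Spec R) [LocallyOfFiniteType f] [CompactSpace X]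
    (E : DCoh.D X) (a b : ℤ) [E.IsGE a] [E.IsLE b] (hE : DCoh.IsCohD E)
    (hsupp : ∀ i : ℤ, ClSub.IsProperOver f (CohB1.support (DCoh.HD E i))) (htor : ChartAmp f E) :
    DCoh.IsPerfect ((DCoh.Rpush f).obj E) := by
  haveI : IsLocallyNoetherian X := LocallyOfFiniteType.isLocallyNoetherian f
  haveI : IsNoetherian X := ⟨⟩
  have hc := DPush9.isCohD_rpush f E a inferInstance hE hsupp
  obtain ⟨b', hb'⟩ := DPush9.exists_isLE_rpush f E a b inferInstance inferInstance hE hsupp
  haveI := hb'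
  exact isPerfect_of_finAmp (fun m => DPerf.isPseudoCoherentD_of_coherent (fun i _ => hc i) b')
    (finAmp_rpush f E (fun i => (hE i).1) htor)

/-- Perfect objects for a flat proper morphism to a noetherian affine scheme. -/
theorem isPerfect_rpush_flat_noeth [IsNoetherianRing R] (f : X ⟶ Spec R) [IsProper f] [Flat f] (E : DCoh.D X)
    (hE : DCoh.IsPerfect E) : DCoh.IsPerfect ((DCoh.Rpush f).obj E) := by
  haveI : IsLocallyNoetherian X := LocallyOfFiniteType.isLocallyNoetherian f
  haveI : CompactSpace X := QuasiCompact.compactSpace_of_compactSpace f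
  have hpc : ∀ m, DCoh.IsPseudoCoherentD m E := fun m =>
    DPerf.isPseudoCoherentD_of_approx ((DPerf.isPerfect_iff_approx.1 hE).mono_set (Set.subset_univ _))
  have hq := RelT.isQCohD_of_pc hpc
  have hc : DCoh.IsCohD E := fun i => DPerf.isCoh_HD_of_pseudoCoherent (hpc i) (hq i) le_rfl
  obtain ⟨a, ha⟩ := DPerf.exists_isGE_of_perfect hE
  obtain ⟨b, hb⟩ := DPerf.exists_isLE_of_pseudoCoherent (hpc 0)
  haveI := ha
  haveI := hb
  exact isPerfect_rpush_noeth f E a b hc
    (fun i => ⟨M1.isClosed_support (hc i).2, inferInstance⟩)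
    (chartAmp_of_loc f E (DPerf.locHasFiniteRelTorDim_of_isPerfect f hE))

end Groth.Agent.PerfPush9
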