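import Groth.Agent.Lib.DGen9.Lift

/-! Lifting maps from perfect objects on quasi-compact opens. -/

set_option autoImplicit false
set_option linter.unusedSectionVars false
set_option linter.style.haveILetI false
set_option backward.isDefEq.respectTransparency false
set_option backward.isDefEq.respectTransparency.types false
set_option maxHeartbeats 800000

universe u

open CategoryTheory CategoryTheory.Limits AlgebraicGeometry Pretriangulated

attribute [local instance] HasDerivedCategory.standard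

namespace Groth.Agent.DGen9

attribute [local instance] DBC9.hasRpush

/-- Maps from perfect objects lift, up to a direct summand. -/
def Lifts {U W : Scheme.{u}} (j : U ⟶ W) [IsOpenImmersion j] : Prop :=
  ∀ T : Set W, IsClosed T → IsCompact Tᶜ → ∀ E : DCoh.D W, DCoh.IsQCohD E → ∀ P : DCoh.D U, DCoh.IsPerfect P →
    SuppOn (j ⁻¹' T) P → ∀ α : P ⟶ (DPerf.resD j).obj E,
      ∃ (R : DCoh.D W) (β : R ⟶ E) (i : P ⟶ (DPerf.resD j).obj R) (p : (DPerf.resD j).obj R ⟶ P),
        DCoh.IsPerfect R ∧ SuppOn T R ∧ i ≫ p = 𝟙 P ∧ i ≫ (DPerf.resD j).map β = α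

theorem lifts_congr {U W : Scheme.{u}} {j j' : U ⟶ W} [IsOpenImmersion j] [IsOpenImmersion j'] (h : j = j')
    (hj : Lifts j) : Lifts j' := by
  subst h; exact hj

theorem lifts_iso {U W : Scheme.{u}} (e : U ≅ W) : Lifts e.hom := fun T hT hTc E hE P hP hPT α => by
  haveI : (DPerf.resD e.hom).Full := inferInstanceAs ((resEquiv e).functor.Full)
  let q := (resEquiv e).counitIso.app P
  obtain ⟨β, hβ⟩ := (DPerf.resD e.hom).map_surjective (q.hom ≫ α)
  have h1 := suppOn_resD e.inv hPT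
  have hpre : e.inv ⁻¹' (e.hom ⁻¹' T) = T := by ext y; simp
  rw [hpre] at h1
  exact ⟨_, β, q.inv, q.hom, isPerfect_resD e.inv hP, h1, q.inv_hom_id, by rw [hβ]; exact q.inv_hom_id_assoc α⟩

theorem lifts_comp {U W X : Scheme.{u}} (j : U ⟶ W) [IsOpenImmersion j] (k : W ⟶ X) [IsOpenImmersion k]
    [QuasiCompact k] (hj : Lifts j) (hk : Lifts k) : Lifts (j ≫ k) := fun T hT hTc E hE P hP hPT α => by
  let c := DPerf.resDComp k j
  have hWT : IsCompact (k ⁻¹' T)ᶜ := by
    rw [← Set.preimage_compl]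
    exact Scheme.Hom.isCompact_preimage k (U := ⟨Tᶜ, hT.isOpen_compl⟩) hTc
  obtain ⟨R', β', i', p', hR', hR'T, hip', hβ'⟩ := hj _ (hT.preimage k.continuous) hWT _
    (DQC.isQCohD_resD k hE) P hP hPT (α ≫ c.inv.app E)
  obtain ⟨R, β, i, p, hR, hRT, hip, hβ⟩ := hk T hT hTc E hE R' hR' hR'T β'
  refine ⟨R, β, i' ≫ (DPerf.resD j).map i ≫ c.hom.app R, c.inv.app R ≫ (DPerf.resD j).map p ≫ p', hR, hRT, ?_, ?_⟩
  · simp only [Category.assoc, Iso.hom_inv_id_app_assoc]
    rw [← Functor.map_comp_assoc, hip, CategoryTheory.Functor.map_id]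
    exact (congrArg (i' ≫ ·) (Category.id_comp p')).trans hip'
  · simp only [Category.assoc]
    rw [← c.hom.naturality β]
    refine (congrArg (i' ≫ ·) (Functor.map_comp_assoc _ _ _ _).symm).trans ?_
    rw [hβ, ← Category.assoc, hβ', Category.assoc]
    exact (congrArg (α ≫ ·) (c.inv_hom_id_app E)).trans (Category.comp_id α)

theorem lifts_step {X : Scheme.{u}} [QuasiSeparatedSpace X] {U V : X.Opens} (hU : IsCompact (U : Set X))
    (hV : IsAffineOpen V) (hUV : U ⊔ V = ⊤) : Lifts U.ι := fun T hT hTc E hE P hP hPT α => by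
  obtain ⟨R₀, hR₀, hR₀T, ⟨e⟩⟩ := exists_glue hU hV hUV hT hTc hP hPT
  obtain ⟨R, π, β, hR, hRT, hπ, hβ⟩ :=
    exists_lift_step hU hV hUV hT hTc hR₀ hR₀T hE (e.hom ≫ biprod.fst ≫ α)
  haveI : IsIso ((DPerf.resD U.ι).map π) := hπ
  refine ⟨R, β, biprod.inl ≫ e.inv ≫ inv ((DPerf.resD U.ι).map π),
    (DPerf.resD U.ι).map π ≫ e.hom ≫ biprod.fst, hR, hRT, by simp, ?_⟩
  rw [← hβ]
  simp

theorem lifts_opens {X : Scheme.{u}} [CompactSpace X] [QuasiSeparatedSpace X] (U : X.Opens)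
    (hU : IsCompact (U : Set X)) : Lifts U.ι := by
  have key : Lifts (X.homOfLE (le_sup_left : U ≤ U ⊔ ⊤)) := by
    refine compact_open_induction_on (P := fun S : X.Opens => Lifts (X.homOfLE (le_sup_left : U ≤ U ⊔ S)))
      (⊤ : X.Opens) (by simpa using isCompact_univ) ?_ fun S hS V hg => ?_
    · exact lifts_congr (j := (X.isoOfEq (sup_bot_eq U).symm).hom)
        (by rw [← cancel_mono (U ⊔ ⊥ : X.Opens).ι]; simp) (lifts_iso _)
    · have hUS : IsCompact ((U ⊔ S : X.Opens) : Set X) := by simpa using hU.union hS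
      have hc : IsCompact ((U ⊔ (S ⊔ V.1) : X.Opens) : Set X) := by
        simpa using hU.union (hS.union V.2.isCompact)
      haveI := QuasiSeparatedSpace.of_isOpenEmbedding (U ⊔ (S ⊔ V.1)).ι.isOpenEmbedding
      haveI := quasiCompact_ι (W := U ⊔ (S ⊔ V.1)) hc
      haveI : CompactSpace (U ⊔ (S ⊔ V.1) : X.Opens) := isCompact_iff_compactSpace.1 hc
      have hle : U ⊔ S ≤ U ⊔ (S ⊔ V.1) := sup_le_sup_left le_sup_left U
      let U' := (U ⊔ (S ⊔ V.1)).ι ⁻¹ᵁ (U ⊔ S)
      have hU' : IsCompact (U' : Set (U ⊔ (S ⊔ V.1) : X.Opens)) :=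
        Scheme.Hom.isCompact_preimage (U ⊔ (S ⊔ V.1)).ι (U := U ⊔ S) hUS
      have hcov : U' ⊔ (U ⊔ (S ⊔ V.1)).ι ⁻¹ᵁ V.1 = ⊤ := by
        rw [← Scheme.Hom.preimage_sup, sup_assoc, Scheme.Opens.ι_preimage_self]
      have h1 := lifts_step hU' (isAffineOpen_sub V.2 (le_sup_right.trans le_sup_right)) hcov
      haveI : QuasiCompact U'.ι := quasiCompact_ι hU'
      have h2 := lifts_comp _ U'.ι
        (lifts_comp (X.homOfLE (le_sup_left : U ≤ U ⊔ S)) (subOpenIso hle).inv hg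
          (lifts_iso (subOpenIso hle).symm)) h1
      refine lifts_congr ?_ h2
      rw [← cancel_mono (U ⊔ (S ⊔ V.1)).ι]
      simp only [Category.assoc, Scheme.homOfLE_ι]
      rw [show (subOpenIso hle).inv ≫ U'.ι ≫ (U ⊔ (S ⊔ V.1)).ι = (U ⊔ S).ι from
        IsOpenImmersion.isoOfRangeEq_inv_fac _ _ _, Scheme.homOfLE_ι]
  refine lifts_congr ?_ (lifts_comp _ (X.isoOfEq (sup_top_eq U) ≪≫ X.topIso).hom key (lifts_iso _))
  simp

end Groth.Agent.DGen9
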