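import Groth.Agent.Lib.DGen9.GlobalApprox
import Groth.Agent.Lib.DGen9.LiftQC
import Groth.Agent.Lib.DPerf.Noeth
import Groth.Agent.Lib.DPush9.Coh
import Groth.Agent.Lib.SiteCmp16.CohIn

/-! Extending bounded coherent objects from opens of noetherian schemes. -/

set_option autoImplicit false
set_option linter.unusedSectionVars false
set_option linter.style.haveILetI false
set_option backward.isDefEq.respectTransparency false
set_option backward.isDefEq.respectTransparency.types false
set_option maxHeartbeats 1600000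

universe u

open CategoryTheory CategoryTheory.Limits AlgebraicGeometry Pretriangulated

attribute [local instance] HasDerivedCategory.standard

namespace Groth.Agent.DGen9

attribute [local instance] DBC9.hasRpush

open DMon9 DerivedCategory.TStructure ZeroObject

theorem isCohD_obj₂ {X : Scheme.{u}} [IsLocallyNoetherian X] (T : Triangle (DCoh.D X)) (hT : T ∈ distTriang _)
    (h₁ : DCoh.IsCohD T.obj₁) (h₃ : DCoh.IsCohD T.obj₃) : DCoh.IsCohD T.obj₂ :=
  haveI := DPush9.isWeakSerre_coh X
  WayOut.cohIn_obj₂ (fun M : X.Modules => Coh.IsCoh M) T hT h₁ h₃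

theorem isCohD_shift {X : Scheme.{u}} [IsLocallyNoetherian X] {K : DCoh.D X} (h : DCoh.IsCohD K) (n : ℤ) :
    DCoh.IsCohD (K⟦n⟧) :=
  haveI := DPush9.isWeakSerre_coh X
  WayOut.cohIn_shift (fun M : X.Modules => Coh.IsCoh M) n h

theorem isCohD_resD {X Z : Scheme.{u}} (j : Z ⟶ X) [IsOpenImmersion j] {K : DCoh.D X} (h : DCoh.IsCohD K) :
    DCoh.IsCohD ((DPerf.resD j).obj K) := fun i =>
  let e := DPerf.hdResIso j K i
  ⟨M1.isQCoh_of_isIso e.symm (DPerf.isCoh_restrict (h i) j).1, M1.isFT_of_isIso e.symm (DPerf.isCoh_restrict (h i) j).2⟩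

variable {X : Scheme.{u}} [IsNoetherian X] (U : X.Opens)

/-- Descending induction: coherent objects mapping to `E`, more and more isomorphically over `U`. -/
theorem exists_coherent_approx (E : DCoh.D X) (hEq : DCoh.IsQCohD E)
    (hEU : DCoh.IsCohD ((DPerf.resD U.ι).obj E)) (b : ℤ) (hb : ((DPerf.resD U.ι).obj E).IsLE b) :
    ∀ (d : ℕ) (k : ℤ), k = b + 1 - d → ∃ (G : DCoh.D X) (γ : G ⟶ E) (C : DCoh.D X) (u : E ⟶ C)
      (v : C ⟶ G⟦(1 : ℤ)⟧), Triangle.mk γ u v ∈ distTriang _ ∧ DCoh.IsCohD G ∧ (∃ c, G.IsLE c) ∧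
      ∀ i, k ≤ i → IsZero (DCoh.HD ((DPerf.resD U.ι).obj C) i) := by
  intro d
  induction d with
  | zero =>
    intro k hk
    refine ⟨0, 0, E, 𝟙 E, 0, contractible_distinguished₁ E, fun i => DPerf.isCoh_of_isZero
      ((DerivedCategory.homologyFunctor X.Modules i).map_isZero (isZero_zero _)),
      ⟨0, (DerivedCategory.isLE_iff _ _).2 fun i _ =>
        (DerivedCategory.homologyFunctor X.Modules i).map_isZero (isZero_zero _)⟩, fun i hi => ?_⟩
    exact DerivedCategory.isZero_of_isLE _ b i (by omega)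
  | succ d ih =>
    intro k hk
    obtain ⟨G, γ, C, u, v, hT, hG, ⟨c, hc⟩, hCz⟩ := ih (k + 1) (by omega)
    have hCq : DCoh.IsQCohD C := DPush.isQCohD_obj₃ _ hT (fun i => (hG i).1) hEq
    have hCU : DCoh.IsCohD ((DPerf.resD U.ι).obj C) :=
      isCohD_obj₂ _ (rot_of_distTriang _ ((DPerf.resD U.ι).map_distinguished _ hT)) hEU
        (isCohD_shift (isCohD_resD U.ι hG) 1)
    haveI : ((DPerf.resD U.ι).obj C).IsLE k := (DerivedCategory.isLE_iff _ _).2 fun i hi => hCz i (by omega)
    have hU : IsCompact (U : Set X) := TopologicalSpace.NoetherianSpace.isCompact _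
    haveI : CompactSpace U := isCompact_iff_compactSpace.1 hU
    haveI : QuasiSeparatedSpace U := QuasiSeparatedSpace.of_isOpenEmbedding U.ι.isOpenEmbedding
    obtain ⟨r, hr⟩ := exists_approximation (U : Scheme.{u}) Set.univ isClosed_univ
      (by rw [Set.compl_univ]; exact isCompact_empty)
    obtain ⟨P, α, hP, -, hαi, hαe⟩ := hr k ((DPerf.resD U.ι).obj C) (fun i => (hCU i).1)
      (DPerf.isPseudoCoherentD_of_coherent (fun i _ => hCU i) k) (fun _ _ => Set.subset_univ _)
    obtain ⟨R, β, ι, p, hR, -, -, hιβ⟩ := lifts_opens U hU Set.univ isClosed_univ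
      (by rw [Set.compl_univ]; exact isCompact_empty) C hCq P hP (fun _ _ _ => trivial) α
    let R' := (t.truncLT (k + 1)).obj R
    let τ := (t.truncLTι (k + 1)).app R
    haveI : DerivedCategory.IsLE R' k := by
      have h1 : t.IsLE R' (k + 1 - 1) := inferInstance
      rw [show k + 1 - 1 = k by ring] at h1
      exact h1
    have hτ : DPerf.DCond {k} τ := fun i hi => by
      obtain rfl : i = k := hi
      haveI := DerTrunc.isIso_homology_truncLTι R (i + 1) i (by omega)
      exact ⟨inferInstance, ⟨fun f g _ => (DerivedCategory.isZero_of_isLE R' i (i + 1) (by omega)).eq_of_tgt f g⟩⟩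
    have hR'low : ∀ i, k < i → IsZero (DCoh.HD ((DPerf.resD U.ι).obj R') i) := fun i hi =>
      ((Scheme.Modules.restrictFunctor U.ι).map_isZero (DerivedCategory.isZero_of_isLE R' k i hi)).of_iso
        (DPerf.hdResIso U.ι R' i)
    have hRc : DCoh.IsCohD R := fun i => DPerf.isCoh_HD_of_pseudoCoherent (isPseudoCoherentD_of_isPerfect hR i)
      (isQCohD_of_isPerfect hR i) le_rfl
    have hR'c : DCoh.IsCohD R' := fun i => by
      by_cases hi : i ≤ k
      · haveI := DerTrunc.isIso_homology_truncLTι R (k + 1) i (by omega)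
        exact ⟨M1.isQCoh_of_isIso (asIso ((DerivedCategory.homologyFunctor _ i).map τ)).symm (hRc i).1,
          M1.isFT_of_isIso (asIso ((DerivedCategory.homologyFunctor _ i).map τ)).symm (hRc i).2⟩
      · exact DPerf.isCoh_of_isZero (DerivedCategory.isZero_of_isLE R' k i (by omega))
    have hβ : DPerf.DCond (Set.Ici k) ((DPerf.resD U.ι).map (τ ≫ β)) := by
      intro i hi
      rcases eq_or_lt_of_le (show k ≤ i from hi) with rfl | hlt
      · refine ⟨?_, ⟨fun f g _ => (hR'low (k + 1) (by omega)).eq_of_tgt f g⟩⟩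
        have h1 : Epi ((DerivedCategory.homologyFunctor _ k).map ((DPerf.resD U.ι).map τ)) :=
          (DPerf.dcond_map (Scheme.Modules.restrictFunctor U.ι) hτ k rfl).1
        have h2 : Epi ((DerivedCategory.homologyFunctor _ k).map ((DPerf.resD U.ι).map β)) := by
          have h3 : Epi ((DerivedCategory.homologyFunctor _ k).map ι ≫
              (DerivedCategory.homologyFunctor _ k).map ((DPerf.resD U.ι).map β)) := by
            rw [← Functor.map_comp, hιβ]; exact hαe
          exact @epi_of_epi _ _ _ _ _ _ _ h3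
        rw [Functor.map_comp, Functor.map_comp]
        exact @epi_comp _ _ _ _ _ _ h1 _ h2
      · exact ⟨⟨fun f g _ => (hCz i (by omega)).eq_of_src f g⟩,
          ⟨fun f g _ => (hR'low (i + 1) (by omega)).eq_of_tgt f g⟩⟩
    obtain ⟨C', u', v', hT'⟩ := distinguished_cocone_triangle (τ ≫ β)
    obtain ⟨W, s, t', hW⟩ := distinguished_cocone_triangle (u ≫ u')
    let O := Triangulated.someOctahedron (u₁₂ := u) (u₂₃ := u') rfl (rot_of_distTriang _ hT)
      (rot_of_distTriang _ hT') hW
    have hWc : DCoh.IsCohD W := isCohD_obj₂ _ O.mem (isCohD_shift hG 1) (isCohD_shift hR'c 1)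
    obtain ⟨e', he'⟩ : ∃ e' : ℤ, max c k = e' := ⟨_, rfl⟩
    have hGle : ∀ i, c - 1 < i → IsZero (DCoh.HD (G⟦(1 : ℤ)⟧) i) := fun i hi =>
      DMV.isZero_HD_shift G 1 i (DerivedCategory.isZero_of_isLE G c _ (by omega))
    have hRle : ∀ i, k - 1 < i → IsZero (DCoh.HD (R'⟦(1 : ℤ)⟧) i) := fun i hi =>
      DMV.isZero_HD_shift R' 1 i (DerivedCategory.isZero_of_isLE R' k _ (by omega))
    haveI hWle : W.IsLE e' := (DerivedCategory.isLE_iff _ _).2 fun i hi =>
      (DerivedCategory.HomologySequence.exact₂ _ O.mem i).isZero_of_both_zeros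
        ((hGle i (by omega)).eq_of_src _ _) ((hRle i (by omega)).eq_of_tgt _ _)
    let T'' := (Triangle.mk (u ≫ u') s t').invRotate
    refine ⟨T''.obj₁, T''.mor₁, T''.obj₃, T''.mor₂, T''.mor₃, inv_rot_of_distTriang _ hW,
      isCohD_shift hWc (-1), ⟨e' + 1, (DerivedCategory.isLE_iff _ _).2 fun i hi =>
        DMV.isZero_HD_shift W (-1) i (DerivedCategory.isZero_of_isLE W e' _ (by omega))⟩, fun i hi => ?_⟩
    exact DPerf.isZero_homology_of_dcond ((DPerf.resD U.ι).map_distinguished _ hT') hβ hi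

/-- Bounded coherent objects extend. -/
theorem exists_coherent_extension (F : DCoh.D (U : Scheme.{u})) (hF : DCoh.IsCohD F) (a b : ℤ) [F.IsGE a]
    [F.IsLE b] : ∃ (G : DCoh.D X) (b' : ℤ), DCoh.IsCohD G ∧ G.IsGE a ∧ G.IsLE b' ∧
      Nonempty ((DPerf.resD U.ι).obj G ≅ F) := by
  have hU : IsCompact (U : Set X) := TopologicalSpace.NoetherianSpace.isCompact _
  let E := (DCoh.Rpush U.ι).obj F
  let eF := resPushIso U.ι F
  have hEq : DCoh.IsQCohD E := isQCohD_rpushι hU fun i => (hF i).1
  haveI := DPush9.isWeakSerre_coh (U : Scheme.{u})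
  have hEU : DCoh.IsCohD ((DPerf.resD U.ι).obj E) :=
    WayOut.cohIn_of_iso (fun M : (U : Scheme.{u}).Modules => Coh.IsCoh M) eF.symm hF
  obtain ⟨k, hk₁, hk₂⟩ : ∃ k : ℤ, k ≤ a - 1 ∧ k ≤ b + 1 := ⟨min (a - 1) (b + 1), min_le_left _ _, min_le_right _ _⟩
  obtain ⟨G, γ, C, u, v, hT, hG, ⟨c, hc⟩, hCz⟩ := exists_coherent_approx U E hEq hEU b
    (DerivedCategory.TStructure.t.isLE_of_iso eF.symm b) (b + 1 - k).toNat k (by omega)
  let G' := (t.truncGE a).obj G
  have hG' : ∀ i, a ≤ i → IsIso ((DerivedCategory.homologyFunctor _ i).map ((t.truncGEπ a).app G)) :=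
    fun i hi => DerTrunc.isIso_homology_truncGEπ G a i hi
  haveI hG'ge : DerivedCategory.IsGE G' a := (inferInstance : t.IsGE G' a)
  have hG'c : DCoh.IsCohD G' := fun i => by
    by_cases hi : a ≤ i
    · haveI := hG' i hi
      exact ⟨M1.isQCoh_of_isIso (asIso ((DerivedCategory.homologyFunctor _ i).map ((t.truncGEπ a).app G))) (hG i).1,
        M1.isFT_of_isIso (asIso ((DerivedCategory.homologyFunctor _ i).map ((t.truncGEπ a).app G))) (hG i).2⟩
    · exact DPerf.isCoh_of_isZero (DerivedCategory.isZero_of_isGE G' a i (by omega))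
  refine ⟨G', max c a, hG'c, hG'ge, (DerivedCategory.isLE_iff _ _).2 fun i hi => ?_, ?_⟩
  · haveI := hG' i (by omega)
    exact (DerivedCategory.isZero_of_isLE G c i (by omega)).of_iso
      (asIso ((DerivedCategory.homologyFunctor _ i).map ((t.truncGEπ a).app G))).symm
  let R := DPerf.resD U.ι
  have hTl := R.map_distinguished _ (t.triangleLTGE_distinguished a G)
  let φ : R.obj G ⟶ F := R.map γ ≫ eF.hom
  have hex : ∃ ψ : R.obj G' ⟶ F, φ = R.map ((t.truncGEπ a).app G) ≫ ψ := by
    refine Triangle.yoneda_exact₂ _ hTl φ ?_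
    haveI : DerivedCategory.IsLE ((t.truncLT a).obj G) (a - 1) :=
      (inferInstance : t.IsLE ((t.truncLT a).obj G) (a - 1))
    haveI : DerivedCategory.IsLE (R.obj ((t.truncLT a).obj G)) a := (DerivedCategory.isLE_iff _ _).2 fun i hi =>
      ((Scheme.Modules.restrictFunctor U.ι).map_isZero (DerivedCategory.isZero_of_isLE ((t.truncLT a).obj G) (a - 1) i
        (by omega))).of_iso (DPerf.hdResIso U.ι _ i)
    show R.map ((t.truncLTι a).app G) ≫ φ = 0
    refine DerTrunc.hom_eq_zero_of_isLE_of_isGE (P := R.obj ((t.truncLT a).obj G)) (R := F) a _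
      (IsZero.eq_of_src ?_ _ _)
    exact ((Scheme.Modules.restrictFunctor U.ι).map_isZero (DerivedCategory.isZero_of_isLE ((t.truncLT a).obj G)
      (a - 1) a (by omega))).of_iso (DPerf.hdResIso U.ι _ a)
  obtain ⟨ψ, hψ⟩ := hex
  have hψiso : IsIso ψ := by
    have key : ∀ i, IsIso ((DerivedCategory.homologyFunctor _ i).map ψ) := fun i => by
      by_cases hi : a ≤ i
      · have h1 : IsIso ((DerivedCategory.homologyFunctor _ i).map φ) := by
          haveI := DerTrunc.isIso_map_mor₁ _ (R.map_distinguished _ hT) i (hCz (i - 1) (by omega)) (hCz i (by omega))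
          show IsIso ((DerivedCategory.homologyFunctor _ i).map (R.map γ ≫ eF.hom))
          rw [Functor.map_comp]
          exact @IsIso.comp_isIso _ _ _ _ _ _ _ this inferInstance
        haveI h2 : IsIso ((DerivedCategory.homologyFunctor _ i).map (R.map ((t.truncGEπ a).app G))) :=
          DerTrunc.isIso_map_mor₂ _ hTl i
            (((Scheme.Modules.restrictFunctor U.ι).map_isZero (by
              haveI : DerivedCategory.IsLE ((t.truncLT a).obj G) (a - 1) :=
                (inferInstance : t.IsLE ((t.truncLT a).obj G) (a - 1))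
              exact DerivedCategory.isZero_of_isLE ((t.truncLT a).obj G) (a - 1) i (by omega))).of_iso
              (DPerf.hdResIso U.ι _ i))
            (((Scheme.Modules.restrictFunctor U.ι).map_isZero (by
              haveI : DerivedCategory.IsLE ((t.truncLT a).obj G) (a - 1) :=
                (inferInstance : t.IsLE ((t.truncLT a).obj G) (a - 1))
              exact DerivedCategory.isZero_of_isLE ((t.truncLT a).obj G) (a - 1) (i + 1) (by omega))).of_iso
              (DPerf.hdResIso U.ι _ (i + 1)))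
        rw [hψ, Functor.map_comp] at h1
        exact @IsIso.of_isIso_comp_left _ _ _ _ _ _ _ h2 h1
      · exact (fun h₁ h₂ => ⟨⟨0, IsZero.eq_of_src h₁ _ _, IsZero.eq_of_src h₂ _ _⟩⟩) (((Scheme.Modules.restrictFunctor U.ι).map_isZero
          (DerivedCategory.isZero_of_isGE G' a i (by omega))).of_iso (DPerf.hdResIso U.ι _ i))
          (DerivedCategory.isZero_of_isGE F a i (by omega))
    exact DPerf.isIso_of_dcond_univ fun i _ => ⟨have := key i; inferInstance, have := key (i + 1); inferInstance⟩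
  exact ⟨asIso ψ⟩

end Groth.Agent.DGen9
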