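import Groth.Agent.Lib.DGen9.Ring
import Groth.Agent.Lib.DPerf.Tilde
import Groth.Agent.Lib.ModM1.Coh
import Groth.Agent.Lib.DMV.Support
import Mathlib.RingTheory.Ideal.Operations

/-! Supports of `tilde` complexes. -/

set_option autoImplicit false
set_option linter.unusedSectionVars false
set_option linter.style.haveILetI false
set_option backward.isDefEq.respectTransparency false
set_option backward.isDefEq.respectTransparency.types false

universe u

open CategoryTheory CategoryTheory.Limits AlgebraicGeometry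

attribute [local instance] HasDerivedCategory.standard

namespace Groth.Agent.DGen9

section Classes

variable {R : Type u} [CommRing R]

/-- Classes in degree `i`. -/
noncomputable def eltEquiv (i : ℤ) (E : Dual.D R) :
    (pt i ⟶ E) ≃ₗ[R] ((DerivedCategory.homologyFunctor (ModuleCat.{u} R) i).obj E : Type u) :=
  LinearEquiv.ofBijective
    { toFun := fun x => (SiteRlim.θ (A := ModuleCat.{u} R) x : ModuleCat.of R R ⟶ _).hom (1 : R)
      map_add' := fun x y => by simp [SiteRlim.θ, Functor.map_add]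
      map_smul' := fun a x => by
        have h : a • x = (DerivedCategory.singleFunctor (ModuleCat.{u} R) i).map (a • 𝟙 (ModuleCat.of R R)) ≫ x := by
          rw [Functor.map_smul, CategoryTheory.Functor.map_id, Linear.smul_comp, Category.id_comp]
        rw [h, SiteRlim.θ_pre, Linear.smul_comp, Category.id_comp, RingHom.id_apply]
        rfl }
    (((ModuleCat.homLinearEquiv (S := R) (M := ModuleCat.of R R)
        (N := (DerivedCategory.homologyFunctor (ModuleCat.{u} R) i).obj E)).toEquiv.trans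
      (LinearMap.ringLmapEquivSelf R R _).toEquiv).bijective.comp
      (DQC.bijective_θ_projective (R := CommRingCat.of R) (ModuleCat.of R R) i E))

theorem tors_iff (a : R) (E : Dual.D R) (i : ℤ) :
    Tors a E i ↔ ∀ m : ((DerivedCategory.homologyFunctor (ModuleCat.{u} R) i).obj E : Type u),
      ∃ n : ℕ, a ^ n • m = 0 := by
  refine ⟨fun h m => ?_, fun h x => ?_⟩
  · obtain ⟨x, rfl⟩ := (eltEquiv i E).surjective m
    obtain ⟨n, hn⟩ := h x
    exact ⟨n, by rw [← map_smul, hn, map_zero]⟩
  · obtain ⟨n, hn⟩ := h (eltEquiv i E x)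
    exact ⟨n, (eltEquiv i E).injective (by rw [map_smul, hn, map_zero])⟩

end Classes

variable {R : CommRingCat.{u}}

theorem torsion_iff_stalks (N : ModuleCat.{u} R) (a : R) :
    (∀ m : (N : Type u), ∃ n : ℕ, a ^ n • m = 0) ↔
      ∀ x : Spec R, x ∈ M1.bo a → x ∉ CohB1.support ((tilde.functor R).obj N) := by
  have hloc : ∀ x : PrimeSpectrum R, Subsingleton ((tilde N).presheaf.stalk x) ↔
      ∀ m : (N : Type u), ∃ c ∈ x.asIdeal.primeCompl, c • m = 0 := fun x => by
    haveI : IsLocalizedModule x.asIdeal.primeCompl (tilde.toStalk N x).hom :=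
      inferInstanceAs (IsLocalizedModule x.asIdeal.primeCompl (StructureSheaf.toStalkₗ ..))
    refine (IsLocalizedModule.iso x.asIdeal.primeCompl (tilde.toStalk N x).hom).toEquiv.subsingleton_congr.symm.trans ?_
    exact LocalizedModule.subsingleton_iff
  refine ⟨fun h x hx hsup => hsup ((hloc x).2 fun m => ?_), fun h m => ?_⟩
  · obtain ⟨n, hn⟩ := h m
    exact ⟨a ^ n, fun hm => hx (x.isPrime.mem_of_pow_mem n hm), hn⟩
  · have ha : a ∈ Ideal.radical (LinearMap.ker (LinearMap.toSpanSingleton R N m) : Ideal R) := by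
      rw [Ideal.radical_eq_sInf, Submodule.mem_sInf]
      rintro p ⟨hle, hp⟩
      by_contra hap
      obtain ⟨c, hc, hcm⟩ := (hloc ⟨p, hp⟩).1 (not_not.1 (h ⟨p, hp⟩ hap)) m
      exact hc (hle (LinearMap.mem_ker.2 ((LinearMap.toSpanSingleton_apply R N m c).trans hcm)))
    obtain ⟨n, hn⟩ := ha
    exact ⟨n, (LinearMap.toSpanSingleton_apply R N m _).symm.trans (LinearMap.mem_ker.1 hn)⟩

theorem support_iso {X : Scheme.{u}} {M N : X.Modules} (e : M ≅ N) : CohB1.support M = CohB1.support N :=
  Set.ext fun x => not_congr ((M1.stalkAb x).mapIso e).addCommGroupIsoToAddEquiv.toEquiv.subsingleton_congr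

/-- The dictionary for supports. -/
theorem tors_iff_support (a : R) (M : DerivedCategory (ModuleCat.{u} R)) (i : ℤ) :
    Tors a M i ↔ ∀ x : Spec R, x ∈ M1.bo a → x ∉ CohB1.support (DCoh.HD ((DPerf.tildeDD R).obj M) i) := by
  rw [tors_iff, torsion_iff_stalks, support_iso (DPerf.hdTildeIso M i)]

theorem supp_iff_support (a : R) (M : DerivedCategory (ModuleCat.{u} R)) :
    Supp a M ↔ ∀ i, ∀ x : Spec R, x ∈ M1.bo a → x ∉ CohB1.support (DCoh.HD ((DPerf.tildeDD R).obj M) i) :=
  forall_congr' fun i => tors_iff_support a M i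

theorem isFT_fromSpec {X : Scheme.{u}} {F : X.Modules} {U : X.Opens} (hU : IsAffineOpen U)
    (h : CohB1.IsFT (F.restrict U.ι)) : CohB1.IsFT (F.restrict hU.fromSpec) :=
  M1.isFT_of_isIso ((Scheme.Modules.restrictFunctorComp hU.isoSpec.inv U.ι).symm.app F ≪≫
      (Scheme.Modules.restrictFunctorCongr hU.isoSpec_inv_ι).app F)
    (M1.isFT_restrict h hU.isoSpec.inv)

/-- Finitely many elements generate after inverting `g`. -/
theorem exists_span_of_isFT (N : ModuleCat.{u} R) (g : R)
    (h : CohB1.IsFT (((tilde.functor R).obj N).restrict (M1.bo g).ι)) :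
    ∃ s : Finset (N : Type u), ∀ m : (N : Type u), ∃ n : ℕ, g ^ n • m ∈ Submodule.span R (s : Set (N : Type u)) := by
  classical
  have hU : IsAffineOpen (M1.bo g) := IsAffineOpen.Spec_basicOpen g
  have hq : Coh.IsQCoh ((tilde.functor R).obj N) := inferInstanceAs ((tilde.functor R).obj N).IsQuasicoherent
  haveI : Module.Finite Γ(Spec R, M1.bo g) Γ(((tilde.functor R).obj N).restrict hU.fromSpec, ⊤) :=
    M1.finite_sections_spec _ (M1.isQCoh_fromSpec hq hU) (isFT_fromSpec hU h)
  haveI : Module.Finite Γ(Spec R, M1.bo g) Γ(tilde N, M1.bo g) :=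
    Module.Finite.equiv (M1.affineSecEquiv ((tilde.functor R).obj N) hU)
  let L : (N : Type u) →ₗ[R] Γ(tilde N, M1.bo g) := (tilde.toOpen N (M1.bo g)).hom
  haveI : IsLocalizedModule (Submonoid.powers g) L :=
    (inferInstance : IsLocalizedModule.Away g (tilde.toOpen N (PrimeSpectrum.basicOpen g)).hom)
  obtain ⟨t, ht⟩ := (inferInstance : Module.Finite Γ(Spec R, M1.bo g) Γ(tilde N, M1.bo g)).fg_top
  choose mc hmc using fun s : Γ(tilde N, M1.bo g) => IsLocalizedModule.surj (Submonoid.powers g) L s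
  refine ⟨t.image fun s => (mc s).1, fun m => ?_⟩
  let S := Submodule.span R ((t.image fun s => (mc s).1 : Finset (N : Type u)) : Set (N : Type u))
  have key : ∀ z ∈ Submodule.span Γ(Spec R, M1.bo g) (t : Set Γ(tilde N, M1.bo g)),
      ∃ (k : ℕ) (w : (N : Type u)), w ∈ S ∧ g ^ k • z = L w := by
    intro z hz
    induction hz using Submodule.span_induction with
    | mem z hz =>
      obtain ⟨k, hk⟩ := (mc z).2.2
      refine ⟨k, (mc z).1, Submodule.subset_span (Finset.mem_image_of_mem _ hz), ?_⟩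
      rw [← hmc z]
      exact congrArg (· • z) hk
    | zero => exact ⟨0, 0, zero_mem _, by simp⟩
    | add z z' _ _ h₁ h₂ =>
      obtain ⟨k, w, hw, e⟩ := h₁
      obtain ⟨k', w', hw', e'⟩ := h₂
      refine ⟨k + k', g ^ k' • w + g ^ k • w', add_mem (S.smul_mem _ hw) (S.smul_mem _ hw'), ?_⟩
      rw [smul_add, map_add, map_smul, map_smul, ← e, ← e', smul_smul, smul_smul, ← pow_add, ← pow_add, add_comm k' k]
    | smul c z _ h₁ =>
      obtain ⟨k, w, hw, e⟩ := h₁
      haveI : IsLocalization.Away g Γ(Spec R, M1.bo g) :=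
        (inferInstance : IsLocalization.Away g Γ(Spec R, PrimeSpectrum.basicOpen g))
      obtain ⟨⟨r, d⟩, hc⟩ := IsLocalization.surj (Submonoid.powers g) c
      obtain ⟨j, hj⟩ := d.2
      refine ⟨j + k, r • w, S.smul_mem _ hw, ?_⟩
      rw [map_smul, ← e, pow_add, mul_smul, smul_comm (g ^ k) c z, show g ^ j = (d : R) from hj,
        ← IsScalarTower.algebraMap_smul Γ(Spec R, M1.bo g) (d : R), smul_smul, mul_comm, hc,
        IsScalarTower.algebraMap_smul]
  obtain ⟨k, w, hw, e⟩ := key (L m) (ht ▸ Submodule.mem_top)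
  rw [← map_smul] at e
  obtain ⟨⟨_, j, rfl⟩, hj⟩ := (IsLocalizedModule.eq_iff_exists (Submonoid.powers g) L).1 e
  refine ⟨j + k, ?_⟩
  rw [pow_add, mul_smul]
  exact (show g ^ j • g ^ k • m = g ^ j • w from hj) ▸ S.smul_mem _ hw

end Groth.Agent.DGen9
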