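import Groth.Agent.Lib.DGen9.RelTilde
import Groth.Agent.Lib.DBaseChange.TensorValue
import Groth.Agent.Lib.DBaseChange.TorDescent
import Groth.Agent.Lib.RelPC8.BaseChange
import Groth.Agent.Lib.RelPCS8.FlatTerms
import Groth.Agent.Lib.DBC9.Affine
import Groth.Agent.Lib.QuasiFlat.FlatOver
import Groth.Agent.Lib.FlatH4.FlatComp
import Groth.Agent.Lib.FlatH4.PullFlat
import Groth.Agent.Lib.SchDom.FlatStage
import Groth.Agent.Lib.DMon9.LPExtra
import Mathlib.RingTheory.Flat.Localization

/-!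
Tor amplitude relative to the base is stable under base change.
-/

set_option autoImplicit false
set_option linter.style.haveILetI false
set_option backward.isDefEq.respectTransparency false
set_option backward.isDefEq.respectTransparency.types false

universe u

open CategoryTheory CategoryTheory.Limits AlgebraicGeometry TensorProduct

attribute [local instance] HasDerivedCategory.standard

namespace Groth.Agent.RelT

open DMod

section Alg

variable {R A R' A' : Type u} [CommRing R] [CommRing A] [CommRing R'] [CommRing A']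

/-- Restriction of scalars reflects quasi-isomorphisms. -/
theorem quasiIso_of_restrict (φ : R →+* A) {K L : DRing.Cx A} (g : K ⟶ L)
    (h : QuasiIso ((DRing.restrictCx φ).map g)) : QuasiIso g :=
  (HomologicalComplex.quasiIso_map_iff_of_preservesHomology g (ModuleCat.restrictScalars.{u} φ)).1 h

variable [Algebra R A] [Algebra R R'] [Algebra R A'] [Algebra A A'] [Algebra R' A'] [IsScalarTower R R' A']
  [IsScalarTower R A A'] [Algebra.IsPushout R R' A A']

/-- The comparison for a square is natural in the complex. -/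
theorem sqIso_natural {K L : DRing.Cx A} (g : K ⟶ L) :
    (RelPC8.eCx (algebraMap R R')).map ((DRing.restrictCx (algebraMap R A)).map g) ≫ (RelPC8.sqIso R R' A A' L).hom =
      (RelPC8.sqIso R R' A A' K).hom ≫ (DRing.restrictCx (algebraMap R' A')).map ((RelPC8.eCx (algebraMap A A')).map g) := by
  ext1 i
  exact (RelPC8.sqMap R R' A A').naturality (g.f i)

omit [Algebra R R'] [Algebra R A'] [Algebra A A'] [Algebra R' A'] [IsScalarTower R R' A'] [IsScalarTower R A A']
  [Algebra.IsPushout R R' A A'] in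
/-- A free resolution and a bounded quotient with terms flat over the base. -/
theorem exists_trunc [Module.Flat R A] (K : Dual.D A) (a b : ℤ)
    (h : DRing.HasTorAmplitudeIn R a b ((DRing.restrictD (algebraMap R A)).obj K)) :
    ∃ (P T : DRing.Cx A) (p : P ⟶ T), P.IsStrictlyLE b ∧ (∀ i, Module.Free A (P.X i)) ∧ QuasiIso p ∧
      DRing.VanishesOutside T a b ∧
      (∀ i, Module.Flat R (((DRing.restrictCx (algebraMap R A)).obj P).X i)) ∧
      (∀ i, Module.Flat R (((DRing.restrictCx (algebraMap R A)).obj T).X i)) ∧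
      Nonempty (DRing.toD P ≅ K) := by
  let Kc := DerivedCategory.Q.objPreimage K
  let eK : DRing.toD Kc ≅ K := DerivedCategory.Q.objObjPreimageIso K
  let r := ModuleCat.restrictScalars.{u} (algebraMap R A)
  have hD : ∀ P : DRing.Cx A, (DRing.toD P ≅ K) → ((DRing.restrictD (algebraMap R A)).obj K ≅
      DRing.toD ((DRing.restrictCx (algebraMap R A)).obj P)) := fun P e =>
    (DRing.restrictD (algebraMap R A)).mapIso e.symm ≪≫ r.mapDerivedCategoryFactors.app P
  obtain ⟨E₀, hv, hE₀, ⟨e₀⟩⟩ := h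
  have hle₀ : (DRing.toD ((DRing.restrictCx (algebraMap R A)).obj Kc)).IsLE b :=
    have := isLE_toD hv
    (tS R).isLE_of_iso (e₀ ≪≫ hD Kc eK) b
  have hle : K.IsLE b := by
    suffices h0 : Kc.IsLE b by
      haveI : (DRing.toD Kc).IsLE b := (DerivedCategory.isLE_Q_obj_iff (C := ModuleCat.{u} A) Kc b).2 h0
      exact (tS A).isLE_of_iso eK b
    have h1 : ((DRing.restrictCx (algebraMap R A)).obj Kc).IsLE b :=
      (DerivedCategory.isLE_Q_obj_iff (C := ModuleCat.{u} R) _ b).1 hle₀
    refine (CochainComplex.isLE_iff _ b).2 fun i hi => ?_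
    have h2 := (CochainComplex.isLE_iff _ b).1 h1 i hi
    rw [HomologicalComplex.exactAt_iff] at h2 ⊢
    exact (ShortComplex.exact_map_iff_of_faithful _ r).1 h2
  obtain ⟨P, hP, hPfree, ⟨eP⟩⟩ := exists_free_resolution K b
  have hflat : ∀ i, Module.Flat A (P.X i) := fun i => DBaseChange.flat_of_free hPfree i
  let Pr := (DRing.restrictCx (algebraMap R A)).obj P
  haveI : Pr.IsStrictlyLE b := (CochainComplex.isStrictlyLE_iff _ b).2 fun i hi =>
    r.map_isZero (P.isZero_of_isStrictlyLE b i hi)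
  have hPr : ∀ i, Module.Flat R (Pr.X i) := fun i => by
    haveI := hflat i
    letI : Module R (P.X i) := Module.compHom _ (algebraMap R A)
    haveI : IsScalarTower R A (P.X i) := ⟨fun r a z => by
      show (r • a) • z = algebraMap R A r • (a • z)
      rw [Algebra.smul_def, mul_smul]⟩
    exact Module.Flat.trans R A (P.X i)
  have hamp : DRing.HasTorAmplitudeIn R a b (DRing.toD Pr) := ⟨E₀, hv, hE₀, ⟨e₀ ≪≫ hD P eP⟩⟩
  have hb := DBaseChange.torBound_of_hasTorAmplitudeIn Pr b hPr a b hamp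
  haveI hge : (DRing.toD Pr).IsGE a :=
    have := (hb (ModuleCat.of R R)).1
    (tS R).isGE_of_iso (DerivedCategory.Q.mapIso (DBaseChange.tmSelfIso Pr)) a
  haveI : (DRing.toD P).IsGE a := by
    refine (DerivedCategory.isGE_Q_obj_iff (C := ModuleCat.{u} A) P a).2 ((CochainComplex.isGE_iff _ a).2 fun i hi => ?_)
    have h2 := (CochainComplex.isGE_iff _ a).1 ((DerivedCategory.isGE_Q_obj_iff (C := ModuleCat.{u} R) Pr a).1 hge) i hi
    rw [HomologicalComplex.exactAt_iff] at h2 ⊢
    exact (ShortComplex.exact_map_iff_of_faithful _ r).1 h2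
  let T₀ := truncFrom P a
  let p : P ⟶ T₀ := truncFromπ P a
  have hT₀v := vanishesOutside_truncFrom P a b
  let Tr := (DRing.restrictCx (algebraMap R A)).obj T₀
  have hTr : ∀ i, Module.Flat R (Tr.X i) := fun i => by
    rcases lt_trichotomy i a with hi | hi | hi
    · haveI := ModuleCat.subsingleton_of_isZero (r.map_isZero (hT₀v i (Or.inl hi)))
      exact (inferInstance : Module.Flat R (r.obj (T₀.X i)))
    · subst hi
      obtain ⟨c, rfl⟩ : ∃ c, c + 1 = i := ⟨i - 1, by omega⟩
      have hh : ∀ j, j = c → Module.Flat R (Pr.X (c + 1) ⧸ LinearMap.range (Pr.d j (c + 1)).hom) := by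
        intro j hj
        subst hj
        exact DBaseChange.flat_coker Pr j (hPr _) fun M =>
          (subsingleton_HD_toD_iff _ j).1 ((isGE_iff _ (j + 1)).1 (hb M).1 j (by omega))
      haveI := hh (c + 1 - 1) (by omega)
      let e := truncFromBotEquiv P (c + 1)
      let l : Pr.X (c + 1) →ₗ[R] Tr.X (c + 1) :=
        { toFun := fun x => e (Submodule.Quotient.mk (p := LinearMap.range (P.d (c + 1 - 1) (c + 1)).hom) x)
          map_add' := fun x y => by
            exact map_add (e.toLinearMap ∘ₗ (LinearMap.range (P.d (c + 1 - 1) (c + 1)).hom).mkQ) x y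
          map_smul' := fun m x => by
            exact (e.toLinearMap ∘ₗ (LinearMap.range (P.d (c + 1 - 1) (c + 1)).hom).mkQ).map_smul (algebraMap R A m) x }
      have hl : Function.Surjective l := e.surjective.comp (Submodule.Quotient.mk_surjective _)
      have hk : LinearMap.ker l = LinearMap.range (Pr.d (c + 1 - 1) (c + 1)).hom := by
        ext x
        rw [LinearMap.mem_ker]
        exact (e.map_eq_zero_iff).trans (Submodule.Quotient.mk_eq_zero _)
      exact Module.Flat.of_linearEquiv ((Submodule.quotEquivOfEq _ _ hk.symm).trans (l.quotKerEquivOfSurjective hl)).symm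
    · haveI := hPr i
      let e := truncFromXEquiv P hi
      exact Module.Flat.of_linearEquiv (M := Pr.X i)
        ({ toFun := e, invFun := e.symm, left_inv := e.symm_apply_apply, right_inv := e.apply_symm_apply,
           map_add' := map_add e, map_smul' := fun m x => e.map_smul (algebraMap R A m) x } :
          Pr.X i ≃ₗ[R] Tr.X i).symm
  haveI := ((vanishesOutside_iff T₀ a b).1 hT₀v).2
  haveI : Tr.IsStrictlyLE b := (CochainComplex.isStrictlyLE_iff _ b).2 fun i hi =>
    r.map_isZero (T₀.isZero_of_isStrictlyLE b i hi)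
  haveI := isIso_Q_map_truncFromπ P a
  exact ⟨P, T₀, p, hP, hPfree, (DerivedCategory.isIso_Q_map_iff_quasiIso (C := ModuleCat.{u} A) _).1 inferInstance,
    hT₀v, hPr, hTr, ⟨eP⟩⟩

/-- A bounded model with terms flat over the base, after base change. -/
theorem exists_model [Module.Flat R A] (K : Dual.D A) (a b : ℤ)
    (h : DRing.HasTorAmplitudeIn R a b ((DRing.restrictD (algebraMap R A)).obj K))
    [DRing.HasLBaseChange (algebraMap A A')] :
    ∃ T : DRing.Cx A', DRing.VanishesOutside T a b ∧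
      (∀ i, Module.Flat R' ((ModuleCat.restrictScalars.{u} (algebraMap R' A')).obj (T.X i))) ∧
      Nonempty (DRing.toD T ≅ (DRing.LBaseChange (algebraMap A A')).obj K) := by
  obtain ⟨P, T₀, p, hP, hPfree, hp, hT₀v, hPr, hTr, ⟨eP⟩⟩ := exists_trunc K a b h
  let r := ModuleCat.restrictScalars.{u} (algebraMap R A)
  have hflat : ∀ i, Module.Flat A (P.X i) := fun i => DBaseChange.flat_of_free hPfree i
  let Pr := (DRing.restrictCx (algebraMap R A)).obj P
  let Tr := (DRing.restrictCx (algebraMap R A)).obj T₀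
  haveI : Pr.IsStrictlyLE b := (CochainComplex.isStrictlyLE_iff _ b).2 fun i hi =>
    r.map_isZero (P.isZero_of_isStrictlyLE b i hi)
  haveI := ((vanishesOutside_iff T₀ a b).1 hT₀v).2
  haveI : Tr.IsStrictlyLE b := (CochainComplex.isStrictlyLE_iff _ b).2 fun i hi =>
    r.map_isZero (T₀.isZero_of_isStrictlyLE b i hi)
  haveI : QuasiIso ((DRing.restrictCx (algebraMap R A)).map p) :=
    inferInstanceAs (QuasiIso ((r.mapHomologicalComplex (ComplexShape.up ℤ)).map p))
  have h1 : QuasiIso ((RelPC8.eCx (algebraMap R R')).map ((DRing.restrictCx (algebraMap R A)).map p)) :=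
    KFlat.Module.quasiIso_extendScalars_map _ _
      (KFlat.isKFlat_of_boundedAbove_flat Pr b fun i => (KFlat.Module.isFlat_iff _).2 (hPr i))
      (KFlat.isKFlat_of_boundedAbove_flat Tr b fun i => (KFlat.Module.isFlat_iff _).2 (hTr i))
  have h2 : QuasiIso ((RelPC8.eCx (algebraMap A A')).map p) := by
    refine quasiIso_of_restrict (algebraMap R' A') _ ?_
    rw [← Iso.inv_hom_id_assoc (RelPC8.sqIso R R' A A' P)
      ((DRing.restrictCx (algebraMap R' A')).map ((RelPC8.eCx (algebraMap A A')).map p)), ← sqIso_natural]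
    infer_instance
  haveI : IsIso (DerivedCategory.Q.map ((RelPC8.eCx (algebraMap A A')).map p)) :=
    (DerivedCategory.isIso_Q_map_iff_quasiIso (C := ModuleCat.{u} A') _).2 h2
  refine ⟨(RelPC8.eCx (algebraMap A A')).obj T₀, DBaseChange.vanishesOutside_extCx _ hT₀v, fun i => ?_, ⟨?_⟩⟩
  · haveI := hTr i
    exact RelPCS8.StalkId.flat_of_iso (M := (RelPC8.eS (algebraMap R R')).obj (Tr.X i))
      ((HomologicalComplex.eval _ _ i).mapIso (RelPC8.sqIso R R' A A' T₀)) (DBaseChange.flat_ext_of_flat _ _)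
  · exact (asIso (DerivedCategory.Q.map ((RelPC8.eCx (algebraMap A A')).map p))).symm ≪≫
      (DBaseChange.valueIso _ P (DBaseChange.adapted_of_flat P b hflat)).symm ≪≫
      (DRing.LBaseChange _).mapIso eP

end Alg

section Flat

variable {X Y Z S : Scheme.{u}}

theorem isFlatOver_tilde {R A : CommRingCat.{u}} (φ : R ⟶ A) (N : ModuleCat.{u} A)
    (h : Module.Flat R ((ModuleCat.restrictScalars.{u} φ.hom).obj N)) :
    FlatMod.IsFlatOver (Spec.map φ) ((tilde.functor A).obj N) := by
  let r := ModuleCat.restrictScalars.{u} φ.hom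
  let C := (HomologicalComplex.single (ModuleCat.{u} A) (ComplexShape.up ℤ) 0).obj N
  have h0 : DRing.HasTorAmplitudeIn R 0 0 (DRing.toD ((DRing.restrictCx φ.hom).obj C)) := by
    refine ⟨(DRing.restrictCx φ.hom).obj C, fun i hi =>
      r.map_isZero (HomologicalComplex.isZero_single_obj_X _ 0 N i (by omega)), fun i => ?_, ⟨Iso.refl _⟩⟩
    by_cases hi : i = 0
    · subst hi
      exact RelPCS8.StalkId.flat_of_iso (r.mapIso (HomologicalComplex.singleObjXSelf (ComplexShape.up ℤ) 0 N).symm) h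
    · haveI := ModuleCat.subsingleton_of_isZero
        (r.map_isZero (HomologicalComplex.isZero_single_obj_X (ComplexShape.up ℤ) 0 N i hi))
      exact (inferInstance : Module.Flat R (r.obj (C.X i)))
  exact RelPCS8.isFlatOver_of_hasTorAmplitude (hasTorAmplitude_congr _
    (DerivedCategory.Q.mapIso ((HomologicalComplex.singleMapHomologicalComplex (tilde.functor A)
      (ComplexShape.up ℤ) 0).app N)) ((hasTorAmplitude_tilde_iff φ C 0 0).2 h0))

theorem isFlatOver_restrict (j : X ⟶ Y) [IsOpenImmersion j] (g : Y ⟶ S) {G : Y.Modules}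
    (h : FlatMod.IsFlatOver g G) : FlatMod.IsFlatOver (j ≫ g) ((Scheme.Modules.restrictFunctor j).obj G) :=
  fun x => SchDom.isFlatOverAt_of_iso _ ((Scheme.Modules.restrictFunctorIsoPullback j).app G).symm x
    ((QF.isFlatOverAt_pullback_iff j g G x).2 (h (j x)))

theorem isFlatOver_comp_base (f : X ⟶ Y) (g : Y ⟶ S) [IsOpenImmersion g] {F : X.Modules}
    (h : FlatMod.IsFlatOver f F) : FlatMod.IsFlatOver (f ≫ g) F := fun x =>
  FlatH4.isFlatOverAt_comp f g F x (Flat.stalkMap g (f x)) (h x)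

theorem isFlatOver_of_comp_base (f : X ⟶ Y) (g : Y ⟶ S) [IsOpenImmersion g] {F : X.Modules}
    (h : FlatMod.IsFlatOver (f ≫ g) F) : FlatMod.IsFlatOver f F := fun x => by
  letI := FlatMod.moduleStalkOver f F x
  letI := FlatMod.moduleStalkOver (f ≫ g) F x
  letI : Algebra (S.presheaf.stalk ((f ≫ g) x)) (Y.presheaf.stalk (f x)) := (g.stalkMap (f x)).hom.toAlgebra
  haveI : IsScalarTower (S.presheaf.stalk ((f ≫ g) x)) (Y.presheaf.stalk (f x)) (F.presheaf.stalk x) := by
    refine IsScalarTower.of_algebraMap_smul fun r a => ?_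
    show f.stalkMap x (g.stalkMap (f x) r) • a = (f ≫ g).stalkMap x r • a
    rw [Scheme.Hom.stalkMap_comp]
    rfl
  have hbij : Function.Bijective (algebraMap (S.presheaf.stalk ((f ≫ g) x)) (Y.presheaf.stalk (f x))) :=
    ConcreteCategory.bijective_of_isIso (g.stalkMap (f x))
  haveI : IsLocalization (⊥ : Submonoid (S.presheaf.stalk ((f ≫ g) x))) (Y.presheaf.stalk (f x)) :=
    IsLocalization.of_le_isUnit_of_bijective (by simp [Algebra.algebraMapSubmonoid]) hbij
  exact (Module.flat_iff_of_isLocalization (Y.presheaf.stalk (f x))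
    (⊥ : Submonoid (S.presheaf.stalk ((f ≫ g) x))) (F.presheaf.stalk x)).2 (h x)

theorem hasRelFlatAmplitudeIn_res (j : X ⟶ Y) [IsOpenImmersion j] (g : Y ⟶ S) {a b : ℤ} {K : DCoh.D Y}
    (h : DCoh.HasRelFlatAmplitudeIn g a b K) :
    DCoh.HasRelFlatAmplitudeIn (j ≫ g) a b ((DPerf.resD j).obj K) := by
  obtain ⟨E, hv, hE, ⟨e⟩⟩ := h
  exact ⟨(DPerf.resX j).obj E, fun i hi => (Scheme.Modules.restrictFunctor j).map_isZero (hv i hi),
    fun i => isFlatOver_restrict j g (hE i),
    ⟨((DPerf.resFac j).app E).symm ≪≫ (DPerf.resD j).mapIso e⟩⟩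

end Flat

section Main

variable {X S S' : Scheme.{u}}

/-- Finite tor dimension relative to the base is stable under base change. -/
theorem locHasFiniteRelTorDim_baseChange (f : X ⟶ S) [Flat f] (g : S' ⟶ S) (K : DCoh.D X)
    (hq : DCoh.IsQCohD K) (hK : DCoh.LocHasFiniteRelTorDim f K) (K' : DCoh.D (pullback f g))
    (eK : K' ≅ (DMon9.lP (pullback.fst f g)).obj K) :
    DCoh.LocHasFiniteRelTorDim (pullback.snd f g) K' := by
  intro x'
  let p := pullback.fst f g
  let q := pullback.snd f g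
  obtain ⟨V, a, b, hxV, hV⟩ := hK (p x')
  obtain ⟨W, hW, hxW, -⟩ := exists_isAffineOpen_mem_and_subset (X := S) (x := f (p x')) (U := ⊤) trivial
  obtain ⟨U, hU, hxU, hUV⟩ :=
    exists_isAffineOpen_mem_and_subset (X := X) (x := p x') (U := V ⊓ f ⁻¹ᵁ W) ⟨hxV, hxW⟩
  have hUW : U ≤ f ⁻¹ᵁ W := le_trans hUV inf_le_right
  obtain ⟨W', hW', hxW', hW'W⟩ :=
    exists_isAffineOpen_mem_and_subset (X := S') (x := q x') (U := g ⁻¹ᵁ W)
      (show g (q x') ∈ W by
        rw [← Scheme.Hom.comp_apply, ← pullback.condition, Scheme.Hom.comp_apply]; exact hxW)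
  let U' := p ⁻¹ᵁ U ⊓ q ⁻¹ᵁ W'
  have H : IsPullback p q f g := IsPullback.of_hasPullback f g
  have hU' : IsAffineOpen U' := FlatH4.isAffineOpen_of_isPullback H hW'W hUW rfl hW hW' hU
  have eX : U' ≤ p ⁻¹ᵁ U := inf_le_left
  have eY : U' ≤ q ⁻¹ᵁ W' := inf_le_right
  letI : Algebra Γ(S, W) Γ(S', W') := (g.appLE W W' hW'W).hom.toAlgebra
  letI : Algebra Γ(S, W) Γ(X, U) := (f.appLE W U hUW).hom.toAlgebra
  letI : Algebra Γ(S', W') Γ(pullback f g, U') := (q.appLE W' U' eY).hom.toAlgebra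
  letI : Algebra Γ(X, U) Γ(pullback f g, U') := (p.appLE U U' eX).hom.toAlgebra
  letI : Algebra Γ(S, W) Γ(pullback f g, U') :=
    ((algebraMap Γ(X, U) Γ(pullback f g, U')).comp (algebraMap Γ(S, W) Γ(X, U))).toAlgebra
  haveI : IsScalarTower Γ(S, W) Γ(X, U) Γ(pullback f g, U') := IsScalarTower.of_algebraMap_eq fun _ => rfl
  haveI : IsScalarTower Γ(S, W) Γ(S', W') Γ(pullback f g, U') := IsScalarTower.of_algebraMap_eq fun r => by
    show (f.appLE W U hUW ≫ p.appLE U U' eX) r = (g.appLE W W' hW'W ≫ q.appLE W' U' eY) r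
    rw [Scheme.Hom.appLE_comp_appLE, Scheme.Hom.appLE_comp_appLE]
    simp only [H.w]
  haveI := FlatH4.algebra_isPushout_sections H hW'W hUW (UY := U') rfl hW hW' hU rfl rfl rfl rfl
  haveI : Module.Flat Γ(S, W) Γ(X, U) := f.flat_appLE hW hU hUW
  -- the chart of the module
  let j := hU.fromSpec
  let jV : Spec Γ(X, U) ⟶ (V : Scheme.{u}) := hU.isoSpec.inv ≫ X.homOfLE (le_trans hUV inf_le_left)
  have hjV : jV ≫ V.ι = j := by simp [jV, j, IsAffineOpen.isoSpec_inv_ι]
  obtain ⟨M, ⟨eM⟩⟩ := DQC.exists_iso_of_isQCohD _ (DQC.isQCohD_of_iso ((DMon9.lPRes j).app K) (DMon9.isQCohD_lP j hq))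
  let F' := DerivedCategory.Q.objPreimage K
  let eF : DCoh.toD X F' ≅ K := DerivedCategory.Q.objObjPreimageIso K
  obtain ⟨E, hv, hE, ⟨eE⟩⟩ := hasRelFlatAmplitudeIn_res jV _ (hV F' ⟨eF⟩)
  have hj : jV ≫ V.ι ≫ f = Spec.map (f.appLE W U hUW) ≫ hW.fromSpec := by
    rw [← Category.assoc, hjV, IsAffineOpen.SpecMap_appLE_fromSpec]
  have hamp : DRing.HasTorAmplitudeIn Γ(S, W) a b ((DRing.restrictD (f.appLE W U hUW).hom).obj M) := by
    refine (hasTorAmplitude_tildeD_iff (f.appLE W U hUW) M E ?_ a b).1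
      (RelPCS8.hasTorAmplitude_of_flat_terms E a b hv fun i => ?_)
    · exact eE ≪≫ (DPerf.resD jV).mapIso (((DPerf.resFac V.ι).app F').symm ≪≫ (DPerf.resD V.ι).mapIso eF) ≪≫
        (DPerf.resDComp V.ι jV).app K ≪≫ (RelPCS8.resDCongr hjV).app K ≪≫ eM.symm
    · have h := hE i
      rw [hj] at h
      exact isFlatOver_of_comp_base _ hW.fromSpec h
  haveI := DQC.hasLBaseChange (p.appLE U U' eX).hom
  obtain ⟨T, hTv, hT, ⟨eT⟩⟩ := exists_model (R := Γ(S, W)) (A := Γ(X, U)) (R' := Γ(S', W'))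
    (A' := Γ(pullback f g, U')) M a b hamp
  refine ⟨U', a, b, ⟨hxU, hxW'⟩, fun G ⟨eG⟩ => ?_⟩
  let k := hU'.fromSpec
  let e := hU'.isoSpec
  have hk : e.hom ≫ k = U'.ι := by simp [e, k, ← IsAffineOpen.isoSpec_inv_ι]
  let φ' := q.appLE W' U' eY
  have hm : DCoh.HasRelFlatAmplitudeIn (Spec.map φ' ≫ hW'.fromSpec) a b ((DPerf.resD k).obj K') := by
    refine ⟨(DPerf.tildeX _).obj T, fun i hi => (tilde.functor _).map_isZero (hTv i hi), fun i =>
      isFlatOver_comp_base _ _ (isFlatOver_tilde φ' _ (hT i)), ⟨?_⟩⟩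
    exact ((tilde.functor _).mapDerivedCategoryFactors.app T).symm ≪≫
      (DPerf.tildeDD _).mapIso eT ≪≫
      ((DBC9.lPTildeIso (p.appLE U U' eX)).app M).symm ≪≫
      (DMon9.lP _).mapIso (eM ≪≫ ((DMon9.lPRes j).app K).symm) ≪≫
      (DMon9.lPComp (Spec.map (p.appLE U U' eX)) j
        (IsAffineOpen.SpecMap_appLE_fromSpec p hU hU' eX)).app K ≪≫
      ((DMon9.lPComp k p rfl).app K).symm ≪≫
      (DMon9.lP k).mapIso eK.symm ≪≫ (DMon9.lPRes k).app K'
  have hw : e.hom ≫ Spec.map φ' ≫ hW'.fromSpec = U'.ι ≫ q := by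
    rw [IsAffineOpen.SpecMap_appLE_fromSpec q hW' hU' eY, ← Category.assoc, hk]
  obtain ⟨E', hv', hE', ⟨eE'⟩⟩ := hasRelFlatAmplitudeIn_res e.hom _ hm
  refine ⟨E', hv', fun i => hw ▸ hE' i, ⟨eE' ≪≫ (DPerf.resDComp k e.hom).app K' ≪≫
    (RelPCS8.resDCongr hk).app K' ≪≫ (DPerf.resD U'.ι).mapIso eG.symm ≪≫ (DPerf.resFac U'.ι).app G⟩⟩

end Main

end Groth.Agent.RelT
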