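import Groth.Agent.Lib.DGen9.RelLocal
import Groth.Agent.Lib.RelPCS8.FlatFP
import Groth.Agent.Lib.RelPCS8.FlatTerms
import Groth.Agent.Lib.PCMor4.BaseChange
import Groth.Agent.Lib.RelPC8.Via
import Groth.Agent.Lib.ModM1.Fpqc
import Groth.Agent.Lib.PCoh.Criteria

/-!
Bounded complexes of flat finitely presented modules are relatively perfect.
-/

set_option autoImplicit false
set_option linter.style.haveILetI false
set_option backward.isDefEq.respectTransparency false
set_option backward.isDefEq.respectTransparency.types false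

universe u

open CategoryTheory CategoryTheory.Limits CategoryTheory.Pretriangulated AlgebraicGeometry

attribute [local instance] HasDerivedCategory.standard

namespace Groth.Agent.RelT

open DMod

variable {X S : Scheme.{u}}

theorem flat_of_isFlatOver_tilde {R A : CommRingCat.{u}} (φ : R ⟶ A) (N : ModuleCat.{u} A)
    (h : FlatMod.IsFlatOver (Spec.map φ) ((tilde.functor A).obj N)) :
    Module.Flat R ((ModuleCat.restrictScalars.{u} φ.hom).obj N) := by
  let r := ModuleCat.restrictScalars.{u} φ.hom
  let C := (HomologicalComplex.single (ModuleCat.{u} A) (ComplexShape.up ℤ) 0).obj N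
  let G := (DPerf.tildeX A).obj C
  have hv : DCoh.VanishesOutside G 0 0 := fun i hi =>
    (tilde.functor A).map_isZero (HomologicalComplex.isZero_single_obj_X (ComplexShape.up ℤ) 0 N i (by omega))
  have hfl : ∀ i, FlatMod.IsFlatOver (Spec.map φ) (G.X i) := fun i => by
    by_cases hi : i = 0
    · subst hi
      exact RelPCS8.isFlatOver_of_iso
        ((tilde.functor A).mapIso (HomologicalComplex.singleObjXSelf (ComplexShape.up ℤ) 0 N).symm) h
    · exact RelPCS8.isFlatOver_of_isZero (hv i (by omega))
  have h1 := (hasTorAmplitude_tilde_iff φ C 0 0).1 (RelPCS8.hasTorAmplitude_of_flat_terms G 0 0 hv hfl)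
  have h2 : DRing.HasTorAmplitudeIn R 0 0 (Dual.inD R (r.obj N)) :=
    DBaseChange.hasTorAmplitudeIn_of_iso (DerivedCategory.Q.mapIso
      ((HomologicalComplex.singleMapHomologicalComplex r (ComplexShape.up ℤ) 0).app N) ≪≫
      ((DerivedCategory.singleFunctorIsoCompQ (ModuleCat.{u} R) 0).app _).symm) h1
  exact (TorBal.flat_iff_hasTorDimLE_zero _).1 (TorBal.hasTorDimLE_of_amplitude (r.obj N) 0 (by simpa using h2))

/-- A finitely presented module flat over the base is pseudo-coherent. -/
theorem pc_of_fp_flat_module {R A : Type u} [CommRing R] [CommRing A] [Algebra R A] [Module.Flat R A]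
    [Algebra.FinitePresentation R A] (N : Type u) [AddCommGroup N] [Module A N] [Module R N] [IsScalarTower R A N]
    [Module.FinitePresentation A N] [Module.Flat R N] : ∀ k, PCMor4.PCn A k N := by
  obtain ⟨n, π, hπ⟩ := RelPC8.exists_presentation R A
  let P := MvPolynomial (Fin n) R
  letI : Algebra P A := π.toRingHom.toAlgebra
  haveI : IsScalarTower R P A := IsScalarTower.of_algebraMap_eq fun r => (π.commutes r).symm
  letI : Module P N := Module.compHom N (algebraMap P A)
  haveI : IsScalarTower P A N := IsScalarTower.of_algebraMap_smul fun _ _ => rfl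
  haveI : IsScalarTower R P N := IsScalarTower.of_algebraMap_smul fun r x => by
    show algebraMap P A (algebraMap R P r) • x = r • x
    rw [← IsScalarTower.algebraMap_apply, algebraMap_smul]
  haveI : Module.Finite P A := Module.Finite.of_surjective (Algebra.linearMap P A) hπ
  haveI : Algebra.FinitePresentation P A :=
    Algebra.FinitePresentation.of_restrict_scalars_finitePresentation R P A
  haveI : Module.FinitePresentation P A := Module.FinitePresentation.of_finite_of_finitePresentation (R := P) (S := A)
  haveI : Module.FinitePresentation P N := Module.FinitePresentation.trans P N A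
  have hpcr : PCMor4.PCR (algebraMap P A) := PCMor4.pcr_of_pch
    (PCMor4.pfh_of_flat (algebraMap R A) (RingHom.flat_algebraMap_iff.2 inferInstance)
      (RingHom.finitePresentation_algebraMap.2 inferInstance)).1
    (algebraMap P A) hπ (RingHom.ext fun r => π.commutes r)
  exact fun k => (PCMor4.pcn_iff_of_pcr (algebraMap P A) hpcr k N fun r x => algebraMap_smul A r x).2
    (RelPCS8.pcn_of_flat_fp (R := R) N k)

/-- A finitely presented sheaf flat over the base is pseudo-coherent. -/
theorem approx_of_fp_flat (f : X ⟶ S) [Flat f] [LocallyOfFinitePresentation f] (F : X.Modules)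
    (hF : CohB1.IsFP F) (hfl : FlatMod.IsFlatOver f F) (m : ℤ) :
    DPerf.Approx (Set.Ici m) ((DerivedCategory.singleFunctor X.Modules 0).obj F) :=
  RelPCS8.approx_of_cover fun x => by
    obtain ⟨W, hW, hxW, -⟩ := exists_isAffineOpen_mem_and_subset (X := S) (x := f x) (U := ⊤) trivial
    obtain ⟨U, hU, hxU, hUW⟩ := exists_isAffineOpen_mem_and_subset (X := X) (x := x) (U := f ⁻¹ᵁ W) hxW
    let R := Γ(S, W)
    let A := Γ(X, U)
    let φ : R ⟶ A := f.appLE W U hUW
    let j := hU.fromSpec
    have w : j ≫ f = Spec.map φ ≫ hW.fromSpec := (IsAffineOpen.SpecMap_appLE_fromSpec f hW hU hUW).symm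
    refine ⟨Spec A, j, inferInstance, by rw [IsAffineOpen.range_fromSpec]; exact hxU, ?_⟩
    let G := (Scheme.Modules.restrictFunctor j).obj F
    have hG : CohB1.IsFP G := M1.isFP_restrict hF j
    have hGq : Coh.IsQCoh G := M1.isFP_isQCoh hG
    haveI : G.IsQuasicoherent := hGq
    let N := (moduleSpecΓFunctor (R := A)).obj G
    let e : (tilde.functor A).obj N ≅ G := @asIso _ _ _ _ G.fromTildeΓ (Scheme.Modules.isIso_fromTildeΓ_of_isQuasicoherent (R := A) G)
    haveI : Module.FinitePresentation A N := M1.finitePresentation_of_isFP_tilde N (M1.isFP_of_isIso e.symm hG)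
    have hflG := isFlatOver_restrict j f hfl
    rw [w] at hflG
    have hN := flat_of_isFlatOver_tilde φ N
      (RelPCS8.isFlatOver_of_iso e.symm (isFlatOver_of_comp_base _ _ hflG))
    letI := φ.hom.toAlgebra
    haveI : Module.Flat R A := f.flat_appLE hW hU hUW
    haveI : Algebra.FinitePresentation R A := f.finitePresentation_appLE hW hU hUW
    letI : Module R N := Module.compHom N φ.hom
    haveI : IsScalarTower R A N := IsScalarTower.of_algebraMap_smul fun _ _ => rfl
    haveI : Module.Flat R N := hN
    have hpc : DRing.IsPseudoCoherent A m (Dual.inD A N) :=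
      (DMod.pc'_iff _).1 (PCMor4.pc'_iff_PCn.2 (pc_of_fp_flat_module (R := R) (A := A) N)) m
    exact (DPerf.approx_tilde_of_pc hpc).of_iso
      (((tilde.functor A).mapDerivedCategorySingleFunctor 0).app N ≪≫
        (DerivedCategory.singleFunctor (Spec A).Modules 0).mapIso e ≪≫
        (((Scheme.Modules.restrictFunctor j).mapDerivedCategorySingleFunctor 0).app F).symm)

/-- A bounded complex of finitely presented modules flat over the base is pseudo-coherent. -/
theorem approx_of_fp_flat_complex (f : X ⟶ S) [Flat f] [LocallyOfFinitePresentation f]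
    (G : CochainComplex X.Modules ℤ) (a b : ℤ) (hv : DCoh.VanishesOutside G a b)
    (h : ∀ i, CohB1.IsFP (G.X i) ∧ FlatMod.IsFlatOver f (G.X i)) (m : ℤ) :
    DPerf.Approx (Set.Ici m) (DCoh.toD X G) := by
  refine PCoh.termwise_induction (fun K => ∀ m : ℤ, DPerf.Approx (Set.Ici m) K) G a b (fun i hi => hv i (Or.inr hi))
    (fun T hT h₁ h₃ m => DPerf.approx_Ici₂ m T hT (h₁ m) (h₃ m)) (fun K hK hK' m => ?_) (fun i M _ _ ⟨e⟩ m => ?_) m
  · refine DPerf.approx_of_isZero_HD fun i _ => (KFlat.Sch.isZero_HD_toD_iff K i).2 ?_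
    rw [HomologicalComplex.exactAt_iff]
    refine ShortComplex.exact_of_isZero_X₂ _ ?_
    by_cases hi : a ≤ i
    · exact hK i hi
    · exact (hv i (Or.inl (by omega))).of_iso (hK' i (by omega)).some
  · have h0 : DPerf.Approx (Set.Ici (m - i)) ((DerivedCategory.singleFunctor X.Modules 0).obj M) :=
      (approx_of_fp_flat f (G.X i) (h i).1 (h i).2 (m - i)).of_iso
        ((DerivedCategory.singleFunctor X.Modules 0).mapIso e.symm)
    exact (h0.shift_Ici (-i) m (by omega)).of_iso
      (((DerivedCategory.singleFunctors X.Modules).shiftIso (-i) i 0 (by omega)).app M)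

/-- On an affine chart a relatively perfect object is a bounded complex of flat finitely presented modules. -/
theorem exists_fp_flat_model (f : X ⟶ S) {R A : CommRingCat.{u}} (i : Spec R ⟶ S) [IsOpenImmersion i]
    (j : Spec A ⟶ X) [IsOpenImmersion j] (φ : R ⟶ A) (hφ : φ.hom.Flat) (w : j ≫ f = Spec.map φ ≫ i)
    {K : DCoh.D X} (hK : RelPerf f K) (F' : CochainComplex X.Modules ℤ) (eF' : DCoh.toD X F' ≅ K) :
    ∃ (G : CochainComplex (j.opensRange : Scheme.{u}).Modules ℤ) (a b : ℤ), DCoh.VanishesOutside G a b ∧
      (∀ n : ℤ, CohB1.IsFP (G.X n) ∧ FlatMod.IsFlatOver (j.opensRange.ι ≫ f) (G.X n)) ∧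
      Nonempty (DerivedCategory.Q.obj ((DCoh.restrictCx j.opensRange).obj F') ≅ DerivedCategory.Q.obj G) := by
  obtain ⟨M, ⟨eM⟩⟩ := exists_chartModule j (isQCohD_of_pc hK.1)
  obtain ⟨hpc, a, b', hamp⟩ := isRelPerfect_chart f i j φ w hK M eM
  obtain ⟨F, b₀, hFb, hF, ⟨eF⟩⟩ := hpc
  let b := max b' b₀
  have hamp' : DRing.HasTorAmplitudeIn R a b ((DRing.restrictD φ.hom).obj M) :=
    DBaseChange.hasTorAmplitudeIn_mono le_rfl (le_max_left _ _) hamp
  letI := φ.hom.toAlgebra
  haveI : Module.Flat R A := hφ
  let r := ModuleCat.restrictScalars.{u} φ.hom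
  haveI : F.IsStrictlyLE b :=
    haveI := (DMod.vanishesAbove_iff F b₀).1 hFb
    F.isStrictlyLE_of_le b₀ b (le_max_right _ _)
  have hFfl : ∀ n, Module.Flat A (F.X n) := fun n => have := (hF n).2; inferInstance
  let Fr := (DRing.restrictCx φ.hom).obj F
  haveI : Fr.IsStrictlyLE b := (CochainComplex.isStrictlyLE_iff _ b).2 fun n hn =>
    r.map_isZero (F.isZero_of_isStrictlyLE b n hn)
  have hFr : ∀ n, Module.Flat R (Fr.X n) := fun n => by
    haveI := hFfl n
    letI : Module R (F.X n) := Module.compHom _ φ.hom
    haveI : IsScalarTower R A (F.X n) := IsScalarTower.of_algebraMap_smul fun _ _ => rfl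
    exact Module.Flat.trans R A (F.X n)
  have hampF : DRing.HasTorAmplitudeIn R a b (DRing.toD Fr) :=
    DBaseChange.hasTorAmplitudeIn_of_iso ((DRing.restrictD φ.hom).mapIso eF.symm ≪≫ r.mapDerivedCategoryFactors.app F) hamp'
  have hb := DBaseChange.torBound_of_hasTorAmplitudeIn Fr b hFr a b hampF
  have hge : (DRing.toD Fr).IsGE a :=
    have := (hb (ModuleCat.of R R)).1
    (tS R).isGE_of_iso (DerivedCategory.Q.mapIso (DBaseChange.tmSelfIso Fr)) a
  haveI : (DRing.toD F).IsGE a := by
    refine (DerivedCategory.isGE_Q_obj_iff (C := ModuleCat.{u} A) F a).2 ((CochainComplex.isGE_iff _ a).2 fun n hn => ?_)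
    have h2 := (CochainComplex.isGE_iff _ a).1 ((DerivedCategory.isGE_Q_obj_iff (C := ModuleCat.{u} R) Fr a).1 hge) n hn
    rw [HomologicalComplex.exactAt_iff] at h2 ⊢
    exact (ShortComplex.exact_map_iff_of_faithful _ r).1 h2
  let T := truncFrom F a
  obtain ⟨eT⟩ := exists_truncFrom_iso F a
  have hTv := vanishesOutside_truncFrom F a b
  have hTfp : ∀ n, Module.FinitePresentation A (T.X n) := fun n => by
    rcases lt_trichotomy n a with hn | hn | hn
    · haveI := ModuleCat.subsingleton_of_isZero (hTv n (Or.inl hn))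
      exact Module.finitePresentation_of_projective A (T.X n)
    · subst hn
      haveI := (hF n).1
      haveI := (hF (n - 1)).1
      haveI := (hF n).2
      haveI : Module.FinitePresentation A ((F.X n : Type u) ⧸ LinearMap.range (F.d (n - 1) n).hom) :=
        Module.finitePresentation_of_free_of_surjective (LinearMap.range (F.d (n - 1) n).hom).mkQ
          (Submodule.mkQ_surjective _) (by
            rw [Submodule.ker_mkQ]; exact Module.Finite.iff_fg.1 (inferInstanceAs (Module.Finite A (LinearMap.range (F.d (n - 1) n).hom))))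
      exact Module.finitePresentation_of_surjective (truncFromBotEquiv F n).toLinearMap (LinearEquiv.surjective _)
        (by rw [LinearEquiv.ker]; exact Submodule.fg_bot)
    · haveI := (hF n).1
      haveI := (hF n).2
      haveI := Module.finitePresentation_of_projective A (F.X n)
      exact Module.finitePresentation_of_surjective (truncFromXEquiv F hn).toLinearMap (LinearEquiv.surjective _)
        (by rw [LinearEquiv.ker]; exact Submodule.fg_bot)
  have hTfl : ∀ n, Module.Flat R (r.obj (T.X n)) := fun n => by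
    rcases lt_trichotomy n a with hn | hn | hn
    · haveI := ModuleCat.subsingleton_of_isZero (r.map_isZero (hTv n (Or.inl hn)))
      exact (inferInstance : Module.Flat R (r.obj (T.X n)))
    · subst hn
      obtain ⟨c, rfl⟩ : ∃ c, c + 1 = n := ⟨n - 1, by omega⟩
      have hh : ∀ j', j' = c → Module.Flat R (Fr.X (c + 1) ⧸ LinearMap.range (Fr.d j' (c + 1)).hom) := by
        intro j' hj
        subst hj
        exact DBaseChange.flat_coker Fr j' (hFr _) fun N =>
          (subsingleton_HD_toD_iff _ j').1 ((isGE_iff _ (j' + 1)).1 (hb N).1 j' (by omega))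
      haveI := hh (c + 1 - 1) (by omega)
      let e := truncFromBotEquiv F (c + 1)
      let l : Fr.X (c + 1) →ₗ[R] r.obj (T.X (c + 1)) :=
        { toFun := fun x => e (Submodule.Quotient.mk (p := LinearMap.range (F.d (c + 1 - 1) (c + 1)).hom) x)
          map_add' := fun x y => by
            exact map_add (e.toLinearMap ∘ₗ (LinearMap.range (F.d (c + 1 - 1) (c + 1)).hom).mkQ) x y
          map_smul' := fun m x => by
            exact (e.toLinearMap ∘ₗ (LinearMap.range (F.d (c + 1 - 1) (c + 1)).hom).mkQ).map_smul (φ.hom m) x }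
      have hl : Function.Surjective l := e.surjective.comp (Submodule.Quotient.mk_surjective _)
      have hk : LinearMap.ker l = LinearMap.range (Fr.d (c + 1 - 1) (c + 1)).hom := by
        ext x
        rw [LinearMap.mem_ker]
        exact (e.map_eq_zero_iff).trans (Submodule.Quotient.mk_eq_zero _)
      exact Module.Flat.of_linearEquiv ((Submodule.quotEquivOfEq _ _ hk.symm).trans (l.quotKerEquivOfSurjective hl)).symm
    · haveI := hFr n
      let e := truncFromXEquiv F hn
      exact Module.Flat.of_linearEquiv (M := Fr.X n)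
        ({ toFun := e, invFun := e.symm, left_inv := e.symm_apply_apply, right_inv := e.apply_symm_apply,
           map_add' := map_add e, map_smul' := fun m x => e.map_smul (φ.hom m) x } :
          Fr.X n ≃ₗ[R] r.obj (T.X n)).symm
  let e := IsOpenImmersion.isoOfRangeEq j.opensRange.ι j (Scheme.Opens.range_ι _)
  have he : e.hom ≫ j = j.opensRange.ι := IsOpenImmersion.isoOfRangeEq_hom_fac _ _ _
  have hw : e.hom ≫ Spec.map φ ≫ i = j.opensRange.ι ≫ f := by rw [← w, ← Category.assoc, he]
  refine ⟨(DPerf.resX e.hom).obj ((DPerf.tildeX A).obj T), a, b, fun n hn =>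
    (Scheme.Modules.restrictFunctor e.hom).map_isZero ((tilde.functor A).map_isZero (hTv n hn)), fun n => ⟨?_, ?_⟩, ⟨?_⟩⟩
  · haveI := hTfp n
    exact M1.isFP_restrict (M1.isFP_tilde (T.X n)) e.hom
  · rw [← hw]
    exact isFlatOver_restrict e.hom _ (isFlatOver_comp_base _ _ (isFlatOver_tilde φ _ (hTfl n)))
  · exact (DPerf.resFac j.opensRange.ι).symm.app F' ≪≫ (DPerf.resD _).mapIso eF' ≪≫
      ((RelPCS8.resDCongr he).app K).symm ≪≫ ((DPerf.resDComp j e.hom).app K).symm ≪≫
      (DPerf.resD e.hom).mapIso (eM.symm ≪≫ (DPerf.tildeDD A).mapIso (eF.symm ≪≫ eT.symm) ≪≫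
        (tilde.functor A).mapDerivedCategoryFactors.app T) ≪≫
      (DPerf.resFac e.hom).app _

end Groth.Agent.RelT
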