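import Groth.Agent.Lib.CBC10.ModelExists
import Groth.Agent.S2075

/-!
# Noetherian models of flat proper finitely presented schemes over an affine base
-/

set_option autoImplicit false
set_option linter.style.haveILetI false
set_option linter.unusedSectionVars false
set_option maxHeartbeats 1000000

universe u

open CategoryTheory CategoryTheory.Limits AlgebraicGeometry Opposite

noncomputable section

namespace Groth.Agent.FlatModel9

open Groth.Agent CBC10

/-- A flat proper finitely presented scheme over `A` comes from one over a noetherian ring. -/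
theorem exists_model {A : CommRingCat.{u}} {X : Scheme.{u}} (u : X ⟶ Spec A) [IsProper u] [Flat u]
    [LocallyOfFinitePresentation u] :
    ∃ (R : CommRingCat.{u}) (_ : IsNoetherianRing R) (π : Spec A ⟶ Spec R) (X' : Scheme.{u})
      (u' : X' ⟶ Spec R) (q : X ⟶ X'), IsPullback q u u' π ∧ IsProper u' ∧ Flat u' := by
  let F := Coh.structureModule X
  haveI : Coh.IsQCoh F := M1.isQCoh_structureModule X
  have hfp : CohB1.IsFP F := M1.isFP_of_isFinLocFree (M2.isFinLocFree_of_isInvertible (PicLoc.isInvertible_structureModule X))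
  obtain ⟨R, hR, π, X', u', q, F', i1, i2, sq, hF', ⟨e⟩⟩ := ConsH13.exists_noetherian_model_mod A u F hfp
  haveI : IsLocallyNoetherian X' := LocallyOfFiniteType.isLocallyNoetherian u'
  obtain ⟨N, hN⟩ := exists_nmodel_proper (u := u) (F := F) ⟨R, hR, π, X', u', q, F', i1, i2, inferInstance, sq, hF', e⟩
  haveI := hN
  letI := (Spec.preimage N.π).hom.toAlgebra
  let D := ConsH13.Over.approxDiagram N.R A
  let c := ConsH13.Over.approxCone N.R A
  have hq : ∀ j, c.π.app j ≫ (approxTo N.R A).app j = N.π := fun j =>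
    (approxCone_to N.R A j).trans (Spec.map_preimage N.π)
  obtain ⟨j₀⟩ : Nonempty (ConsH13.Over.FGSub N.R A)ᵒᵖ := ⟨op (Classical.arbitrary _)⟩
  let N₀ := N.stage (R' := (ConsH13.Over.subFunctor N.R A).obj j₀.unop) ((approxTo N.R A).app j₀) (c.π.app j₀) (hq j₀)
  haveI : IsProper N₀.u' := MorphismProperty.pullback_snd N.u' ((approxTo N.R A).app j₀) hN
  haveI : IsLocallyNoetherian N₀.X' := LocallyOfFiniteType.isLocallyNoetherian N₀.u'
  let u₀ : N₀.X' ⟶ D.obj j₀ := N₀.u'
  haveI : IsProper u₀ := ‹IsProper N₀.u'›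
  haveI : CompactSpace N₀.X' := QuasiCompact.compactSpace_of_compactSpace N₀.u'
  haveI : QuasiSeparatedSpace N₀.X' := quasiSeparatedSpace_of_quasiSeparated N₀.u'
  haveI : LocallyOfFinitePresentation u₀ := (inferInstance : LocallyOfFinitePresentation N₀.u')
  haveI : CompactSpace (D.obj j₀) := inferInstanceAs (CompactSpace (Spec N₀.R))
  haveI : QuasiSeparatedSpace (D.obj j₀) := inferInstanceAs (QuasiSeparatedSpace (Spec N₀.R))
  haveI : @Flat X c.pt u := ‹Flat u›
  haveI : IsIso (𝟙 c.pt) := IsIso.id _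
  haveI : IsIso (𝟙 (D.obj j₀)) := IsIso.id _
  have hid : IsPullback (c.π.app j₀) (𝟙 c.pt) (𝟙 (D.obj j₀)) (c.π.app j₀) :=
    IsPullback.of_vert_isIso ⟨(Category.comp_id _).trans (Category.id_comp _).symm⟩
  obtain ⟨i, φ, Xi, Yi, fi, gi, pY, pX, hY, hX, hflat⟩ := Groth.Agent.S2075.result
    D c (ConsH13.Over.isLimitApproxCone N.R A) j₀
    u₀ (𝟙 (D.obj j₀)) u (𝟙 c.pt) (c.π.app j₀) N₀.q hid N₀.sq
  haveI : IsIso gi := MorphismProperty.of_isPullback (P := MorphismProperty.isomorphisms Scheme.{u}) hY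
    (inferInstanceAs (IsIso (𝟙 (D.obj j₀))))
  haveI : IsNoetherianRing ((ConsH13.Over.subFunctor N.R A).obj i.unop) := inferInstance
  let N₁ := N₀.stage (R' := (ConsH13.Over.subFunctor N.R A).obj i.unop) (D.map φ) (c.π.app i) (c.w φ)
  refine ⟨N₁.R, N₁.noeth, N₁.π, N₁.X', N₁.u', N₁.q, N₁.sq,
    MorphismProperty.pullback_snd N₀.u' (D.map φ) ‹IsProper N₀.u'›, ?_⟩
  have hYw : pY = gi ≫ D.map φ := (Category.comp_id pY).symm.trans hY.w
  have hXi : IsPullback pX (fi ≫ gi) N₀.u' (D.map φ) :=
    hX.of_iso (Iso.refl _) (Iso.refl _) (asIso gi) (Iso.refl _)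
      ((Category.comp_id _).trans (Category.id_comp _).symm) (Category.id_comp _).symm
      ((Category.comp_id _).trans (Category.id_comp _).symm) ((Category.comp_id _).trans hYw)
  change Flat (pullback.snd N₀.u' (D.map φ))
  haveI : Flat (fi ≫ gi) := by
    haveI : Flat fi := hflat
    infer_instance
  rw [← hXi.isoPullback_inv_snd]
  infer_instance

end Groth.Agent.FlatModel9
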