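import Groth.Agent.Lib.DGen9.PerfPush
import Groth.Agent.Lib.DGen9.FlatModel
import Groth.Agent.Lib.DGen9.Gen
import Groth.Agent.Lib.KFlat.LpullPC

/-!
# Perfect direct images for flat proper morphisms of finite presentation
-/

set_option autoImplicit false
set_option linter.style.haveILetI false
set_option linter.unusedSectionVars false
set_option backward.isDefEq.respectTransparency false
set_option backward.isDefEq.respectTransparency.types false
set_option maxHeartbeats 800000

universe u

open CategoryTheory CategoryTheory.Limits AlgebraicGeometry Pretriangulated ZeroObject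

attribute [local instance] HasDerivedCategory.standard

namespace Groth.Agent.PerfPush9

open DMon9

attribute [local instance] DBC9.hasRpush

theorem isPerfect_lP {X Y : Scheme.{u}} (f : X ⟶ Y) {E : DCoh.D Y} (h : DCoh.IsPerfect E) :
    DCoh.IsPerfect ((lP f).obj E) := by
  haveI : DCoh.HasLpull f := KFlat.Sch.hasLpull f
  obtain ⟨e⟩ := nonempty_lpull_natIso_lP f
  exact DGen9.isPerfect_of_iso (e.app E) (KFlat.Sch.isPerfect_lpull f h)

theorem suppOn_univ {X : Scheme.{u}} (E : DCoh.D X) : DGen9.SuppOn Set.univ E :=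
  DGen9.suppOn_of_stalks fun x hx _ => absurd (Set.mem_univ x) hx

/-- Pullbacks of perfect objects along an affine morphism generate all perfect objects. -/
theorem mem_of_pullback {X X' : Scheme.{u}} (q : X ⟶ X') [IsAffineHom q] [CompactSpace X] [QuasiSeparatedSpace X]
    [CompactSpace X'] [QuasiSeparatedSpace X'] {P : DCoh.D X → Prop} (hP : DGen9.ThickClass P)
    (h : ∀ E' : DCoh.D X', DCoh.IsPerfect E' → P ((lP q).obj E')) {E : DCoh.D X} (hE : DCoh.IsPerfect E) :
    P E := by
  obtain ⟨G, hG, hGq, -, hgen⟩ := DGen9.exists_generator_qcqs X' Set.univ isClosed_univ (by simp)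
  obtain ⟨_, _⟩ := DPush.exists_commShift_isTriangulated q
  letI := (adjLP q).leftAdjointCommShift ℤ
  haveI := (adjLP q).commShift_of_rightAdjoint ℤ
  refine DGen9.mem_of_isPerfect hP (isPerfect_lP q hG) (fun Q hQ h0 => ?_) (h G hG) hE
  have hz : IsZero ((DCoh.Rpush q).obj Q) := by
    refine (hgen _ (DPush.isQCohD_rpush q Q hQ) (suppOn_univ _)).2 fun n φ => ?_
    apply ((adjLP q).homEquiv _ _).symm.injective
    refine (cancel_epi (((lP q).commShiftIso n).inv.app G)).1 ?_
    exact (h0 n _).trans (h0 n _).symm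
  have hQ0 : DCoh.IsQCohD (0 : DCoh.D X) := fun i =>
    DPush.isQCoh_of_isZero (Functor.map_isZero _ (isZero_zero _))
  have : IsIso (0 : Q ⟶ (0 : DCoh.D X)) := DPush.isIso_of_isIso_rpush q hQ hQ0 0
    (isIso_of_source_target_iso_zero _ (hz.isoZero) (((DCoh.Rpush q).map_isZero (isZero_zero _)).isoZero))
  exact (isZero_zero _).of_iso (asIso (0 : Q ⟶ (0 : DCoh.D X)))

/-- Base change along a flat family. -/
theorem nonempty_bc_flat {X S X' S' : Scheme.{u}} (f : X ⟶ S) [QuasiCompact f] [QuasiSeparated f] [Flat f]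
    (g : S' ⟶ S) (f' : X' ⟶ S') (g' : X' ⟶ X) (H : IsPullback g' f' f g) {E : DCoh.D X} (hE : DCoh.IsQCohD E) :
    Nonempty ((lP g).obj ((DCoh.Rpush f).obj E) ≅ (DCoh.Rpush f').obj ((lP g').obj E)) := by
  haveI := DBC9.good_main f g f' g' H
    (fun U hU U' _ _ V hV hVU => DBC9.torIndep_of_flat_right _ _ (f.flat_appLE hU hV hVU))
    (adjLP f) (adjLP f') (DBC9.σcan H.w.symm) E hE
  exact ⟨asIso ((DBC9.bc (adjLP f) (adjLP f') (DBC9.σcan H.w.symm).hom).app E)⟩

/-- The affine case. -/
theorem isPerfect_rpush_flat_affine {A : CommRingCat.{u}} {X : Scheme.{u}} (u : X ⟶ Spec A) [IsProper u] [Flat u]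
    [LocallyOfFinitePresentation u] (E : DCoh.D X) (hE : DCoh.IsPerfect E) :
    DCoh.IsPerfect ((DCoh.Rpush u).obj E) := by
  obtain ⟨R, hR, π, X', u', q, sq, hp, hfl⟩ := FlatModel9.exists_model u
  haveI : IsAffineHom q := MorphismProperty.of_isPullback sq.flip (inferInstance : IsAffineHom π)
  haveI : CompactSpace X := QuasiCompact.compactSpace_of_compactSpace u
  haveI : QuasiSeparatedSpace X := quasiSeparatedSpace_of_quasiSeparated u
  haveI : CompactSpace X' := QuasiCompact.compactSpace_of_compactSpace u'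
  haveI : QuasiSeparatedSpace X' := quasiSeparatedSpace_of_quasiSeparated u'
  refine mem_of_pullback q (thickClass u) (fun E' hE' => ?_) hE
  obtain ⟨e⟩ := nonempty_bc_flat u' π u q sq (E := E') (DGen9.isQCohD_of_isPerfect hE')
  exact DGen9.isPerfect_of_iso e (isPerfect_lP π (isPerfect_rpush_flat_noeth u' E' hE'))

/-- Flat proper morphisms of finite presentation preserve perfect objects. -/
theorem isPerfect_rpush_flat {X S : Scheme.{u}} (f : X ⟶ S) [IsProper f] [Flat f] [LocallyOfFinitePresentation f]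
    (E : DCoh.D X) (hE : DCoh.IsPerfect E) : DCoh.IsPerfect ((DCoh.Rpush f).obj E) :=
  isPerfect_rpush_of_affine f E fun _ _ => isPerfect_rpush_flat_affine _ _ (DGen9.isPerfect_resD _ hE)

end Groth.Agent.PerfPush9
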