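import Groth.Agent.Lib.DGen9.PCPush
import Groth.Agent.Lib.RelPCS8.RestrictStalk
import Groth.Agent.Lib.InjMod.QCohInj

/-!
# Perfect direct images over a noetherian base
-/

set_option autoImplicit false
set_option linter.style.haveILetI false
set_option linter.unusedSectionVars false
set_option backward.isDefEq.respectTransparency false
set_option backward.isDefEq.respectTransparency.types false
set_option maxHeartbeats 800000

universe u

open CategoryTheory CategoryTheory.Limits AlgebraicGeometry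

attribute [local instance] HasDerivedCategory.standard

namespace Groth.Agent.PerfPush9

open DMon9

attribute [local instance] DBC9.hasRpush

variable {X S : Scheme.{u}}

/-- Finite tor amplitude of the modules on all affine charts. -/
def AllCharts (f : X ⟶ S) (E : DCoh.D X) : Prop :=
  ∀ (R A : CommRingCat.{u}) (i : Spec R ⟶ S) [IsOpenImmersion i] (j : Spec A ⟶ X) [IsOpenImmersion j]
    (φ : R ⟶ A) (M : Dual.D A), j ≫ f = Spec.map φ ≫ i → ((DPerf.tildeDD A).obj M ≅ (DPerf.resD j).obj E) →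
      DRing.HasFiniteTorDimCx R ((DRing.restrictD φ.hom).obj M)

theorem allCharts_of_loc (f : X ⟶ S) (E : DCoh.D X) (h : DCoh.LocHasFiniteRelTorDim f E) : AllCharts f E :=
  fun _ _ i _ j _ φ M w e => RelT.exists_torAmp_of_loc f i j φ w h M e

/-- The direct image only depends on a quasi-compact open containing the supports. -/
theorem exists_compact_open [CompactSpace S] (f : X ⟶ S) [LocallyOfFiniteType f] (E : DCoh.D X) (a b : ℤ)
    [E.IsGE a] [E.IsLE b] (hs : ∀ i : ℤ, ClSub.IsProperOver f (CohB1.support (DCoh.HD E i))) :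
    ∃ U : X.Opens, IsCompact (U : Set X) ∧
      Nonempty ((DCoh.Rpush f).obj E ≅ (DCoh.Rpush (U.ι ≫ f)).obj ((DPerf.resD U.ι).obj E)) := by
  let T : Set X := ⋃ i : ↥(Finset.Icc a b), CohB1.support (DCoh.HD E i.1)
  have hT : ClSub.IsProperOver f T := ClSub24.isProperOver_iUnion f _ fun i => hs i.1
  have hET : ∀ i, CohB1.support (DCoh.HD E i) ⊆ T := fun i x hx => by
    by_cases hi : i ∈ Finset.Icc a b
    · exact Set.mem_iUnion.2 ⟨⟨i, hi⟩, hx⟩
    · have h0 : IsZero (DCoh.HD E i) := by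
        rw [Finset.mem_Icc, not_and_or] at hi
        rcases hi with hi | hi
        · exact DerivedCategory.isZero_of_isGE E a i (by omega)
        · exact DerivedCategory.isZero_of_isLE E b i (by omega)
      rw [DPush9.support_of_isZero h0] at hx
      exact hx.elim
  have hTc : IsCompact T := by
    obtain ⟨W, i, _, hr, _⟩ := (ClSub24.isProperOver_iff_exists f T).1 hT
    haveI : CompactSpace W := QuasiCompact.compactSpace_of_compactSpace (i ≫ f)
    rw [← hr]
    exact isCompact_range i.continuous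
  obtain ⟨U, hUc, hTU⟩ : ∃ U : X.Opens, IsCompact (U : Set X) ∧ T ⊆ (U : Set X) := by
    obtain ⟨K, hKo, hKc, hK⟩ : ∃ K : Set X, IsOpen K ∧ IsCompact K ∧ T ⊆ K := by
      have hcov : ∀ x : X, ∃ V : X.Opens, IsAffineOpen V ∧ x ∈ V := fun x => by
        obtain ⟨V, hV, hx, -⟩ := TopologicalSpace.Opens.isBasis_iff_nbhd.1 X.isBasis_affineOpens
          (TopologicalSpace.Opens.mem_top x)
        exact ⟨V, hV, hx⟩
      choose V hV hxV using hcov
      obtain ⟨t, ht⟩ := hTc.elim_finite_subcover (fun x => (V x : Set X)) (fun x => (V x).2)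
        fun x _ => Set.mem_iUnion.2 ⟨x, hxV x⟩
      exact ⟨_, isOpen_biUnion fun x _ => (V x).2, t.isCompact_biUnion fun x _ => (hV x).isCompact, ht⟩
    exact ⟨⟨K, hKo⟩, hKc, hK⟩
  obtain ⟨e⟩ := DMV.nonempty_iso_rpush_restrict U T hT.1 hTU E hET
  exact ⟨U, hUc, ⟨(DCoh.Rpush f).mapIso e ≪≫ (DPush.compIso U.ι f).app _⟩⟩

/-- Coherent objects with proper supports and finite tor dimension over a noetherian base. -/
theorem isPerfect_rpush_noeth_scheme [IsNoetherian S] (f : X ⟶ S) [LocallyOfFiniteType f] (E : DCoh.D X) (a b : ℤ)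
    [E.IsGE a] [E.IsLE b] (hE : DCoh.IsCohD E)
    (hs : ∀ i : ℤ, ClSub.IsProperOver f (CohB1.support (DCoh.HD E i))) (htor : AllCharts f E) :
    DCoh.IsPerfect ((DCoh.Rpush f).obj E) := by
  have hc := DPush9.isCohD_rpush f E a inferInstance hE hs
  obtain ⟨b', hb'⟩ := DPush9.exists_isLE_rpush f E a b inferInstance inferInstance hE hs
  haveI := hb'
  have hpc : ∀ m, DCoh.IsPseudoCoherentD m ((DCoh.Rpush f).obj E) := fun m =>
    DPerf.isPseudoCoherentD_of_coherent (fun i _ => hc i) b'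
  obtain ⟨U, hUc, ⟨eU⟩⟩ := exists_compact_open f E a b hs
  haveI : CompactSpace U.toScheme := isCompact_iff_compactSpace.1 hUc
  haveI : IsLocallyNoetherian X := LocallyOfFiniteType.isLocallyNoetherian f
  haveI : IsLocallyNoetherian U.toScheme := isLocallyNoetherian_of_isOpenImmersion U.ι
  haveI : IsNoetherian U.toScheme := {}
  refine DGen9.isPerfect_of_iso eU.symm (isPerfect_rpush_of_affine (U.ι ≫ f) _ fun V hV => ?_)
  let u := (U.ι ≫ f) ∣_ V ≫ hV.isoSpec.hom
  haveI : CompactSpace ((U.ι ≫ f) ⁻¹ᵁ V : Scheme.{u}) := QuasiCompact.compactSpace_of_compactSpace u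
  haveI : QuasiSeparatedSpace ((U.ι ≫ f) ⁻¹ᵁ V : Scheme.{u}) := quasiSeparatedSpace_of_quasiSeparated u
  have H : IsPullback u ((U.ι ≫ f) ⁻¹ᵁ V).ι hV.fromSpec (U.ι ≫ f) :=
    (isPullback_morphismRestrict (U.ι ≫ f) V).of_iso (Iso.refl _) hV.isoSpec (Iso.refl _) (Iso.refl _)
      (by simp [u]) (by simp) (by rw [← IsAffineOpen.isoSpec_hom_fromSpec hV]; simp) (by simp)
  obtain ⟨c⟩ := DBC9.nonempty_res_rpush (U.ι ≫ f) u hV.fromSpec ((U.ι ≫ f) ⁻¹ᵁ V).ι H
  refine isPerfect_of_finAmp (fun m => ?_) (TorPush9.finAmp_rpush u _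
    (DQC.isQCohD_resD _ (DQC.isQCohD_resD _ fun i => (hE i).1)) ?_)
  · exact DPerf.isPseudoCoherentD_of_approx ((DPerf.approx_of_isPseudoCoherentD
      (pc_res hV.fromSpec (hpc m))).of_iso ((DPerf.resD hV.fromSpec).mapIso eU ≪≫ c.app _))
  · intro A j _ φ M w e
    refine htor _ A hV.fromSpec (j ≫ ((U.ι ≫ f) ⁻¹ᵁ V).ι ≫ U.ι) φ M ?_
      (e ≪≫ (DPerf.resDComp ((U.ι ≫ f) ⁻¹ᵁ V).ι j).app _ ≪≫ (DPerf.resDComp U.ι (j ≫ ((U.ι ≫ f) ⁻¹ᵁ V).ι)).app E ≪≫
        (RelPCS8.resDCongr (Category.assoc _ _ _)).app E)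
    rw [← w, Category.assoc, Category.assoc, Category.assoc, Category.assoc, IsAffineOpen.isoSpec_hom_fromSpec,
      morphismRestrict_ι]

/-- Pushforward along an isomorphism is restriction along its inverse. -/
noncomputable def pushIsoRes {X Y : Scheme.{u}} (e : X ⟶ Y) [IsIso e] :
    Scheme.Modules.pushforward e ≅ Scheme.Modules.restrictFunctor (inv e) :=
  (Scheme.Modules.restrictAdjunction e).rightAdjointUniq (InjMod.restrictEquiv e).toAdjunction

/-- Stalkwise finite tor amplitude gives finite amplitude on charts. -/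
theorem allCharts_of_hasTorAmplitude (f : X ⟶ S) (F : CochainComplex X.Modules ℤ) {a b : ℤ}
    (h : DerSch.HasTorAmplitude f a b F) : AllCharts f (DCoh.toD X F) := by
  intro R A i _ j _ φ M w eM
  let U := j.opensRange
  let e : (U : Scheme.{u}) ≅ Spec A := IsOpenImmersion.isoOfRangeEq U.ι j (Scheme.Opens.range_ι _)
  have he : e.hom ≫ j = U.ι := IsOpenImmersion.isoOfRangeEq_hom_fac _ _ _
  have h1 : DerSch.HasTorAmplitude (U.ι ≫ f) a b ((DCoh.restrictCx U).obj F) := fun z =>
    (RelPCS8.RestrictStalk.torAmplitudeAt_restrict_iff f U z a b F).2 (h _)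
  rw [← he, Category.assoc, w] at h1
  haveI : IsClosedImmersion e.hom := inferInstance
  have h2 := RelPCS8.SmoothAmp.hasTorAmplitude_push_of_comp e.hom (Spec.map φ ≫ i) h1
  haveI : PreservesFiniteLimits (tilde.functor A) := M1.tilde_preservesFiniteLimits
  let G : CochainComplex (Spec A).Modules ℤ :=
    ((Scheme.Modules.pushforward e.hom).mapHomologicalComplex (ComplexShape.up ℤ)).obj ((DCoh.restrictCx U).obj F)
  have eG : DCoh.toD (Spec A) G ≅ (DCoh.tildeD A).obj M :=
    DerivedCategory.Q.mapIso ((NatIso.mapHomologicalComplex (pushIsoRes e.hom) (ComplexShape.up ℤ)).app _) ≪≫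
      ((DPerf.resFac (inv e.hom)).app _).symm ≪≫ (DPerf.resD (inv e.hom)).mapIso ((DPerf.resFac U.ι).app F).symm ≪≫
      (DPerf.resDComp U.ι (inv e.hom)).app _ ≪≫
      (RelPCS8.resDCongr (show inv e.hom ≫ U.ι = j by rw [IsIso.inv_comp_eq, he])).app _ ≪≫ eM.symm
  refine ⟨a, b, (RelT.hasTorAmplitude_tildeD_iff φ M G eG a b).1 fun y => ?_⟩
  have h3 : DerSch.HasTorAmplitudeAt (Spec.map φ ≫ i) a b G y := h2 y
  let r := (i.stalkMap ((Spec.map φ).base y))
  haveI : IsIso r := inferInstance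
  letI := r.hom.toAlgebra
  have h4 : DRing.HasTorAmplitudeIn _ a b (DRing.toD ((DRing.restrictCx r.hom).obj
      ((DerSch.stalkCxOver (Spec.map φ) y).obj G))) :=
    RelPCS8.StalkTor.hasTorAmplitudeIn_congr
      (DerivedCategory.Q.mapIso ((RelPCS8.StalkTor.stalkCxCompIso (Spec.map φ) i y).app G)) h3
  haveI : IsLocalization (⊥ : Submonoid (S.presheaf.stalk (i.base ((Spec.map φ).base y))))
      (S.presheaf.stalk (i.base ((Spec.map φ).base y))) :=
    IsLocalization.self (by intro x hx; rw [Submonoid.mem_bot] at hx; rw [hx]; exact isUnit_one)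
  haveI : IsLocalization (⊥ : Submonoid (S.presheaf.stalk (i.base ((Spec.map φ).base y))))
      ((Spec R).presheaf.stalk ((Spec.map φ).base y)) :=
    IsLocalization.isLocalization_of_algEquiv (⊥ : Submonoid (S.presheaf.stalk (i.base ((Spec.map φ).base y))))
      (S := S.presheaf.stalk (i.base ((Spec.map φ).base y)))
      (AlgEquiv.ofBijective (Algebra.ofId _ _) (ConcreteCategory.bijective_of_isIso r))
  exact RelT.torAmp_of_restrict r.hom ⊥ ‹_› _ h4

end Groth.Agent.PerfPush9
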