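import Groth.Agent.Lib.DGen9.RelLocal
import Groth.Agent.Lib.DBC9.Main

/-!
# Derived direct images and tor amplitude over an affine base
-/

set_option autoImplicit false
set_option linter.style.haveILetI false
set_option linter.unusedSectionVars false
set_option backward.isDefEq.respectTransparency false
set_option backward.isDefEq.respectTransparency.types false
set_option maxHeartbeats 800000

universe u

open CategoryTheory CategoryTheory.Limits AlgebraicGeometry Pretriangulated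

attribute [local instance] HasDerivedCategory.standard

namespace Groth.Agent.TorPush9

open DMon9

attribute [local instance] DBC9.hasRpush

variable {R : CommRingCat.{u}}

/-- A uniform tor amplitude at all points of an affine scheme. -/
def FinAmp (G : DCoh.D (Spec R)) : Prop :=
  ∃ a b : ℤ, ∀ y : Spec R, DRing.HasTorAmplitudeIn ((Spec R).presheaf.stalk ((Spec.map (𝟙 R)) y)) a b
    ((RelT.stD (𝟙 R) y).obj ((DPerf.resD (𝟙 (Spec R))).obj G))

theorem finAmp_of_iso {G H : DCoh.D (Spec R)} (e : G ≅ H) (h : FinAmp G) : FinAmp H := by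
  obtain ⟨a, b, hab⟩ := h
  exact ⟨a, b, fun y => DBaseChange.hasTorAmplitudeIn_of_iso ((RelT.stD (𝟙 R) y).mapIso ((DPerf.resD _).mapIso e)) (hab y)⟩

theorem finAmp_zero {G : DCoh.D (Spec R)} (h : IsZero G) : FinAmp G :=
  ⟨0, 0, fun y => DBaseChange.hasTorAmplitudeIn_of_isZero
    ((RelT.stD (𝟙 R) y).map_isZero ((DPerf.resD _).map_isZero h)) _ _⟩

theorem finAmp_shift {G : DCoh.D (Spec R)} (h : FinAmp G) (n : ℤ) : FinAmp (G⟦n⟧) := by
  obtain ⟨a, b, hab⟩ := h
  exact ⟨a - n, b - n, fun y => DBaseChange.hasTorAmplitudeIn_of_iso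
      ((((DPerf.resD (𝟙 (Spec R))) ⋙ RelT.stD (𝟙 R) y).commShiftIso n).app G).symm
      (DBaseChange.hasTorAmplitudeIn_shift n (a - n) (b - n) (by omega) (by omega) (hab y))⟩

theorem finAmp_triangle₂ (T : Triangle (DCoh.D (Spec R))) (hT : T ∈ distTriang _) (h₁ : FinAmp T.obj₁)
    (h₃ : FinAmp T.obj₃) : FinAmp T.obj₂ := by
  obtain ⟨a, b, hab⟩ := h₁
  obtain ⟨a', b', hab'⟩ := h₃
  exact ⟨min a a', max b b', fun y => DBaseChange.torAmp_triangle₂ _ _ _
    ((RelT.stD (𝟙 R) y).map_distinguished _ ((DPerf.resD (𝟙 (Spec R))).map_distinguished _ hT))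
    (DBaseChange.hasTorAmplitudeIn_mono (min_le_left _ _) (le_max_left _ _) (hab y))
    (DBaseChange.hasTorAmplitudeIn_mono (min_le_right _ _) (le_max_right _ _) (hab' y))⟩

/-- Restriction of scalars along the identity. -/
noncomputable def restrictIdIso (M : Dual.D R) : (DRing.restrictD (𝟙 R : R ⟶ R).hom).obj M ≅ M :=
  ((ModuleCat.restrictScalars.{u} (𝟙 R : R ⟶ R).hom).mapDerivedCategory).mapIso
      (DerivedCategory.Q.objObjPreimageIso M).symm ≪≫
    (ModuleCat.restrictScalars.{u} (𝟙 R : R ⟶ R).hom).mapDerivedCategoryFactors.app _ ≪≫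
    DerivedCategory.Q.mapIso ((NatIso.mapHomologicalComplex (ModuleCat.restrictScalarsId R)
      (ComplexShape.up ℤ)).app _ ≪≫ (Functor.mapHomologicalComplexIdIso _ _).app _) ≪≫
    DerivedCategory.Q.objObjPreimageIso M

theorem finAmp_tilde_iff (M : Dual.D R) :
    FinAmp ((DPerf.tildeDD R).obj M) ↔ DRing.HasFiniteTorDimCx R M := by
  haveI : IsOpenImmersion (𝟙 (Spec R)) := inferInstance
  let e := DBC9.lPId (Spec R)
  let eM : (DPerf.tildeDD R).obj M ≅ (DPerf.resD (𝟙 (Spec R))).obj ((DPerf.tildeDD R).obj M) :=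
    (e.app _).symm ≪≫ (lPRes (𝟙 (Spec R))).app _
  have key : ∀ a b, DRing.HasTorAmplitudeIn R a b ((DRing.restrictD (𝟙 R : R ⟶ R).hom).obj M) ↔
      DRing.HasTorAmplitudeIn R a b M := fun a b =>
    ⟨DBaseChange.hasTorAmplitudeIn_of_iso (restrictIdIso M),
      DBaseChange.hasTorAmplitudeIn_of_iso (restrictIdIso M).symm⟩
  constructor
  · rintro ⟨a, b, hab⟩
    exact ⟨a, b, (key a b).1 ((RelT.torAmp_iff_stalks (𝟙 R) (𝟙 _) _ M eM a b).2 hab)⟩
  · rintro ⟨a, b, hab⟩
    exact ⟨a, b, (RelT.torAmp_iff_stalks (𝟙 R) (𝟙 _) _ M eM a b).1 ((key a b).2 hab)⟩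

variable {X : Scheme.{u}} (f : X ⟶ Spec R) (E : DCoh.D X)

/-- Finite amplitude of the direct image of the restriction to an open. -/
def OverOpen (S : X.Opens) : Prop :=
  ∀ (T : Scheme.{u}) (k : T ⟶ X) (_ : IsOpenImmersion k), k.opensRange = S →
    FinAmp ((DCoh.Rpush (k ≫ f)).obj ((DPerf.resD k).obj E))

/-- Every affine chart has finite amplitude over the base. -/
def ChartAmp : Prop :=
  ∀ (A : CommRingCat.{u}) (j : Spec A ⟶ X) [IsOpenImmersion j] (φ : R ⟶ A) (M : Dual.D A),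
    j ≫ f = Spec.map φ → ((DPerf.tildeDD A).obj M ≅ (DPerf.resD j).obj E) →
      DRing.HasFiniteTorDimCx R ((DRing.restrictD φ.hom).obj M)

/-- Objects of finite relative tor dimension have finite amplitude on charts. -/
theorem chartAmp_of_loc (h : DCoh.LocHasFiniteRelTorDim f E) : ChartAmp f E := fun A j _ φ M w e =>
  RelT.exists_torAmp_of_loc f (𝟙 _) j φ (by rw [Category.comp_id]; exact w) h M e

variable (hq : DCoh.IsQCohD E) (hE : ChartAmp f E)

include hq hE in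
theorem overOpen_affine {V : X.Opens} (hV : IsAffineOpen V) : OverOpen f E V := by
  intro T k _ hr
  let e : Spec Γ(X, V) ≅ T := IsOpenImmersion.isoOfRangeEq hV.fromSpec k (by
    rw [← Scheme.Hom.coe_opensRange, ← Scheme.Hom.coe_opensRange, hr, IsAffineOpen.opensRange_fromSpec])
  have hef : e.hom ≫ k = hV.fromSpec := IsOpenImmersion.isoOfRangeEq_hom_fac _ _ _
  obtain ⟨φ, hφ⟩ : ∃ φ : R ⟶ Γ(X, V), Spec.map φ = hV.fromSpec ≫ f :=
    ⟨Spec.preimage (hV.fromSpec ≫ f), Spec.map_preimage _⟩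
  obtain ⟨M, ⟨eM⟩⟩ := RelT.exists_chartModule hV.fromSpec hq
  haveI : PreservesFiniteLimits (tilde.functor R) := M1.tilde_preservesFiniteLimits
  haveI : PreservesFiniteLimits (tilde.functor Γ(X, V)) := M1.tilde_preservesFiniteLimits
  obtain ⟨cr⟩ := DPush9.nonempty_tildeD_rpush_iso φ
  obtain ⟨c⟩ := DBC9.nonempty_res_rpush (k ≫ f) (Spec.map φ) (𝟙 (Spec R)) e.hom
    (IsPullback.of_horiz_isIso ⟨by rw [Category.comp_id, hφ, ← hef, Category.assoc]⟩).flip
  let eT : (DPerf.resD e.hom).obj ((DPerf.resD k).obj E) ≅ (DPerf.tildeDD Γ(X, V)).obj M :=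
    (DPerf.resDComp k e.hom).app E ≪≫ (RelPCS8.resDCongr hef).app E ≪≫ eM.symm
  refine finAmp_of_iso ?_ ((finAmp_tilde_iff _).2 (hE _ hV.fromSpec φ M hφ.symm eM))
  exact (cr.app M).symm ≪≫ (DCoh.Rpush (Spec.map φ)).mapIso eT.symm ≪≫ (c.app _).symm ≪≫
    ((lPRes (𝟙 (Spec R))).app _).symm ≪≫ (DBC9.lPId (Spec R)).app _

theorem overOpen_union {S V : X.Opens} (h₁ : OverOpen f E S) (h₂ : OverOpen f E V)
    (h₃ : OverOpen f E (S ⊓ V)) : OverOpen f E (S ⊔ V) := by
  intro T k _ hr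
  have hpq : k ⁻¹ᵁ S ⊔ k ⁻¹ᵁ V = ⊤ := by
    rw [← Scheme.Hom.preimage_sup, ← hr]
    exact k.preimage_opensRange
  let E' := (DPerf.resD k).obj E
  obtain ⟨_, _⟩ := DPush.exists_commShift_isTriangulated (k ≫ f)
  have piece : ∀ (r : T.Opens) (U : X.Opens), r = k ⁻¹ᵁ U → U ≤ S ⊔ V → OverOpen f E U →
      FinAmp ((DCoh.Rpush (k ≫ f)).obj ((DCoh.Rpush r.ι).obj ((DPerf.resD r.ι).obj E'))) := by
    intro r U hrU hU h
    have := h (r : Scheme.{u}) (r.ι ≫ k) inferInstance (by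
      rw [Scheme.Hom.opensRange_comp, Scheme.Opens.opensRange_ι, hrU,
        Scheme.Hom.image_preimage_eq_opensRange_inf, hr, inf_eq_right.2 hU])
    exact finAmp_of_iso ((DCoh.Rpush ((r.ι ≫ k) ≫ f)).mapIso ((DPerf.resDComp k r.ι).app E).symm ≪≫
      eqToIso (by rw [Category.assoc]; rfl) ≪≫ ((DPush.compIso r.ι (k ≫ f)).app _).symm) this
  obtain ⟨a, b, c, hT⟩ := DMV.exists_open_triangle (k ⁻¹ᵁ S) (k ⁻¹ᵁ V) hpq E'
  have hT' := (DCoh.Rpush (k ≫ f)).map_distinguished _ (inv_rot_of_distTriang _ hT)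
  refine finAmp_triangle₂ _ hT' ?_ ?_
  · exact finAmp_of_iso (((DCoh.Rpush (k ≫ f)).commShiftIso (-1 : ℤ)).app _).symm
      (finAmp_shift (piece _ (S ⊓ V) rfl (inf_le_left.trans le_sup_left) h₃) (-1))
  · exact finAmp_triangle₂ _ ((DCoh.Rpush (k ≫ f)).map_distinguished _ (binaryBiproductTriangle_distinguished _ _))
      (piece _ S rfl le_sup_left h₁) (piece _ V rfl le_sup_right h₂)

include hq hE in
theorem overOpen_compact [QuasiSeparatedSpace X] (S : X.Opens) (hS : IsCompact (S : Set X)) :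
    OverOpen f E S := by
  have bot : OverOpen f E ⊥ := overOpen_affine f E hq hE (isAffineOpen_bot X)
  have sep : ∀ V₀ : X.Opens, IsAffineOpen V₀ → ∀ S : X.Opens, IsCompact (S : Set X) →
      S ≤ V₀ → ∀ D : X.Opens, IsAffineOpen D → D ≤ V₀ → OverOpen f E (S ⊓ D) := by
    intro V₀ hV₀ S hS
    refine compact_open_induction_on (P := fun S => S ≤ V₀ → ∀ D : X.Opens, IsAffineOpen D → D ≤ V₀ →
      OverOpen f E (S ⊓ D)) S hS (fun _ D _ _ => by rw [bot_inf_eq]; exact bot) ?_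
    intro S hS W hP hle₀ D hD hD₀
    have hW₀ : (W : X.Opens) ≤ V₀ := le_sup_right.trans hle₀
    have hWD : IsAffineOpen ((W : X.Opens) ⊓ D) := DBC9.isAffineOpen_inf W.2 hD hV₀ hW₀ hD₀
    rw [inf_sup_right]
    refine overOpen_union f E (hP (le_sup_left.trans hle₀) D hD hD₀) (overOpen_affine f E hq hE hWD) ?_
    rw [show S ⊓ D ⊓ ((W : X.Opens) ⊓ D) = S ⊓ ((W : X.Opens) ⊓ D) by ac_rfl]
    exact hP (le_sup_left.trans hle₀) _ hWD (inf_le_left.trans hW₀)
  refine compact_open_induction_on (P := fun S => OverOpen f E S) S hS bot ?_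
  intro S hS W hP
  refine overOpen_union f E hP (overOpen_affine f E hq hE W.2) ?_
  have hSW : IsCompact ((S ⊓ (W : X.Opens) : X.Opens) : Set X) :=
    (quasiSeparatedSpace_iff X).1 inferInstance S (W : X.Opens) S.2 hS (W : X.Opens).2 W.2.isCompact
  rw [show S ⊓ (W : X.Opens) = S ⊓ (W : X.Opens) ⊓ (W : X.Opens) by rw [inf_assoc, inf_idem]]
  exact sep _ W.2 _ hSW inf_le_right _ W.2 le_rfl

include hq hE in
/-- The direct image has finite tor amplitude. -/
theorem finAmp_rpush [CompactSpace X] [QuasiSeparatedSpace X] : FinAmp ((DCoh.Rpush f).obj E) := by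
  have := overOpen_compact f E hq hE ⊤ (by simpa using isCompact_univ) X (𝟙 X) inferInstance
    (Scheme.Hom.opensRange_of_isIso _)
  exact finAmp_of_iso ((DCoh.Rpush (𝟙 X ≫ f)).mapIso (((lPRes (𝟙 X)).app E).symm ≪≫ (DBC9.lPId X).app E) ≪≫
    eqToIso (by rw [Category.id_comp]; rfl)) this

end Groth.Agent.TorPush9
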