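import Groth.Agent.Lib.DGen9.Ring
import Mathlib.Order.Filter.AtTopBot.Basic

/-! Eventual vanishing of classes detected by supported perfect objects. -/

set_option autoImplicit false
set_option linter.unusedSectionVars false
set_option linter.style.haveILetI false
set_option backward.isDefEq.respectTransparency false
set_option backward.isDefEq.respectTransparency.types false

universe u

open CategoryTheory CategoryTheory.Limits CategoryTheory.Pretriangulated CategoryTheory.Triangulated Filter

attribute [local instance] HasDerivedCategory.standard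

namespace Groth.Agent.DGen9

open DMod DBaseChange DCompact9

variable {R : Type u} [CommRing R]

/-- Eventual vanishing on the test object gives eventual vanishing of classes. -/
theorem exists_generator_eventually (l : List R) :
    ∃ K : Dual.D R, DRing.IsPerfect R K ∧ (∀ a ∈ l, Supp a K) ∧
      ∀ (L : Filter ℤ) (E : Dual.D R), (∀ a ∈ l, Supp a E) → (∀ᶠ n : ℤ in L, ∀ φ : K⟦-n⟧ ⟶ E, φ = 0) →
        ∀ᶠ n : ℤ in L, ∀ x : pt n ⟶ E, x = 0 := by
  induction l with
  | nil =>
    refine ⟨Dual.inD R R, isPerfect_inD, by simp, fun L E _ h => h.mono fun n hn x => ?_⟩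
    exact (cancel_epi (singleShiftIso n (ModuleCat.of R R)).hom).1 ((hn (_ ≫ x)).trans comp_zero.symm)
  | cons a l ih =>
    obtain ⟨K, hK, hs, hgen⟩ := ih
    obtain ⟨K', g, h, hT⟩ := distinguished_cocone_triangle (a • 𝟙 K)
    refine ⟨K', isPerfect_triangle₂ _ (rot_of_distTriang _ hT) hK (isPerfect_shift _ hK), ?_, fun L E hE h0 => ?_⟩
    · intro b hb
      rcases List.mem_cons.1 hb with rfl | hb
      · exact supp_cone 1 (by rw [pow_one]; exact hT)
      · exact supp_triangle₃ _ hT (hs b hb) (hs b hb)
    · refine hgen L E (fun b hb => hE b (List.mem_cons_of_mem _ hb)) (h0.mono fun n hn φ => ?_)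
      have hinj : ∀ ψ : K⟦-n⟧ ⟶ E, a • ψ = 0 → ψ = 0 := fun ψ hψ => by
        obtain ⟨χ, hχ⟩ := (shiftFunctor (Dual.D R) (-n)).map_surjective (ψ ≫ (shiftNegShift E (-n)).inv)
        have hχa : a • χ = 0 := (shiftFunctor (Dual.D R) (-n)).map_injective (by
          rw [Functor.map_smul, hχ, ← Linear.smul_comp, hψ, zero_comp, Functor.map_zero])
        have hex : ∃ ξ : K' ⟶ E⟦-(-n)⟧, χ = g ≫ ξ := Triangle.yoneda_exact₂ _ hT χ
          (show (a • 𝟙 K) ≫ χ = 0 by rw [Linear.smul_comp, Category.id_comp, hχa])
        obtain ⟨ξ, hξ⟩ := hex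
        have hξ0 : ξ⟦-n⟧' = 0 := (cancel_mono (shiftNegShift E (-n)).hom).1 ((hn _).trans zero_comp.symm)
        apply (cancel_mono (shiftNegShift E (-n)).inv).1
        rw [← hχ, zero_comp, hξ, Functor.map_comp, hξ0, comp_zero]
      obtain ⟨m, hm⟩ := kill (hE a List.mem_cons_self) (isPerfect_shift (-n) hK) φ
      clear hn h0
      induction m with
      | zero => simpa using hm
      | succ m ihm => exact ihm (hinj _ (by rw [smul_smul, ← pow_succ']; exact hm))

end Groth.Agent.DGen9
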