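import Groth.Agent.Lib.DGen9.Classical
import Groth.Agent.Lib.DGen9.Eventual

/-! Boundedness detected by a generator. -/

set_option autoImplicit false
set_option linter.unusedSectionVars false
set_option linter.style.haveILetI false
set_option backward.isDefEq.respectTransparency false
set_option backward.isDefEq.respectTransparency.types false
set_option maxHeartbeats 800000

universe u

open CategoryTheory CategoryTheory.Limits AlgebraicGeometry Pretriangulated Filter

attribute [local instance] HasDerivedCategory.standard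

namespace Groth.Agent.DGen9

attribute [local instance] DBC9.hasRpush

/-- Eventually without cohomology. -/
def EvAc {X : Scheme.{u}} (L : Filter ℤ) (E : DCoh.D X) : Prop := ∀ᶠ i : ℤ in L, IsZero (DCoh.HD E i)

/-- Eventually receiving only zero maps. -/
def EvOrth {X : Scheme.{u}} (L : Filter ℤ) (K E : DCoh.D X) : Prop := ∀ᶠ n : ℤ in L, ∀ φ : K⟦-n⟧ ⟶ E, φ = 0

/-- A direction compatible with windows and derived direct images. -/
structure NiceDir (L : Filter ℤ) : Prop where
  window : ∀ p : ℤ → Prop, (∀ᶠ i in L, p i) → ∀ a b : ℤ, ∀ᶠ i in L, ∀ j, a + i ≤ j → j ≤ b + i → p j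
  push : ∀ {U S : Scheme.{u}} (f : U ⟶ S) [QuasiCompact f] [QuasiSeparated f] [CompactSpace S] (F : DCoh.D U),
    DCoh.IsQCohD F → EvAc L F → EvAc L ((DCoh.Rpush f).obj F)

theorem niceDir_atBot : NiceDir.{u} atBot := by
  refine ⟨fun p hp a b => ?_, fun f _ _ _ F _ hF => ?_⟩
  · obtain ⟨N, hN⟩ := eventually_atBot.1 hp
    exact eventually_atBot.2 ⟨N - b, fun i hi j _ hj => hN j (by omega)⟩
  · obtain ⟨N, hN⟩ := eventually_atBot.1 hF
    haveI := DPush.isGE_rpush f F (N + 1) ((DerivedCategory.isGE_iff _ _).2 fun i hi => hN i (by omega))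
    exact eventually_atBot.2 ⟨N, fun i hi => DerivedCategory.isZero_of_isGE _ (N + 1) i (by omega)⟩

theorem niceDir_atTop : NiceDir.{u} atTop := by
  refine ⟨fun p hp a b => ?_, fun f _ _ _ F hq hF => ?_⟩
  · obtain ⟨N, hN⟩ := eventually_atTop.1 hp
    exact eventually_atTop.2 ⟨N - a, fun i hi j hj _ => hN j (by omega)⟩
  · obtain ⟨N, hN⟩ := eventually_atTop.1 hF
    obtain ⟨d, hd⟩ := DPush.exists_bound f
    exact eventually_atTop.2 ⟨N - 1 + d, fun i hi =>
      hd F hq (N - 1) ((DerivedCategory.isLE_iff _ _).2 fun q hq' => hN q (by omega)) i hi⟩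

variable {L : Filter ℤ} (hL : NiceDir.{u} L) {X : Scheme.{u}}

include hL in
theorem evOrth_of_evAc [CompactSpace X] [QuasiSeparatedSpace X] {K E : DCoh.D X} (hK : DCoh.IsPerfect K)
    (hE : DCoh.IsQCohD E) (h : EvAc L E) : EvOrth L K E := by
  obtain ⟨a, b, hab⟩ := DMV.exists_shift_bound K hK
  exact (hL.window _ h a b).mono fun n hn => (hab E hE n hn).2

theorem evAc_of_iso {E E' : DCoh.D X} (e : E ≅ E') (h : EvAc L E) : EvAc L E' :=
  h.mono fun i hi => hi.of_iso ((DerivedCategory.homologyFunctor X.Modules i).mapIso e.symm)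

theorem evOrth_iso {K E E' : DCoh.D X} (e : E ≅ E') (h : EvOrth L K E) : EvOrth L K E' :=
  h.mono fun n hn φ => by rw [← cancel_mono e.inv, zero_comp]; exact hn _

/-- The supported affine case. -/
theorem evAc_affine [IsAffine X] {T : Set X} (hT : IsClosed T) (hTc : IsCompact Tᶜ) {E : DCoh.D X}
    (hE : DCoh.IsQCohD E) (hET : SuppOn T E)
    (h : ∀ K : DCoh.D X, DCoh.IsPerfect K → SuppOn T K → EvOrth L K E) : EvAc L E := by
  let e := X.isoSpec
  obtain ⟨l, hl⟩ := exists_covers e hT hTc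
  obtain ⟨K, hK, hKs, hgen⟩ := exists_generator_eventually (R := Γ(X, ⊤)) l
  obtain ⟨M, ⟨iM⟩⟩ := exists_tX_iso e hE
  have hM := (suppOn_tX_iff e hl M).1 (suppOn_of_iso iM.symm hET)
  refine evAc_of_iso iM ((hgen L M hM ((h _ ((isPerfect_tX_iff e K).2 hK) ((suppOn_tX_iff e hl K).2 hKs)).mono
    fun n hn φ => (bijective_tX e _ _).1 ?_)).mono fun n hn => ?_)
  · change (tX e).map φ = (tX e).map 0
    rw [Functor.map_zero, ← cancel_epi (((tX e).commShiftIso (-n)).inv.app K), ← cancel_mono iM.hom,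
      comp_zero, zero_comp]
    exact hn _
  · haveI : Subsingleton ((DerivedCategory.homologyFunctor (ModuleCat.{u} Γ(X, ⊤)) n).obj M : Type u) :=
      haveI : Subsingleton (pt n ⟶ M) := ⟨fun x y => (hn x).trans (hn y).symm⟩
      (eltEquiv n M).symm.toEquiv.subsingleton
    exact ((Scheme.Modules.restrictFunctor e.hom).map_isZero ((tilde.functor Γ(X, ⊤)).map_isZero
      (ModuleCat.isZero_of_subsingleton _))).of_iso (DPerf.hdResIso e.hom _ n ≪≫
        (Scheme.Modules.restrictFunctor e.hom).mapIso (DPerf.hdTildeIso M n))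

/-- The detection property. -/
def HasBd (L : Filter ℤ) (X : Scheme.{u}) : Prop :=
  ∀ E : DCoh.D X, DCoh.IsQCohD E → (∀ K : DCoh.D X, DCoh.IsPerfect K → EvOrth L K E) → EvAc L E

theorem hasBd_affine (X : Scheme.{u}) [IsAffine X] : HasBd L X := fun E hE h =>
  evAc_affine isClosed_univ (by rw [Set.compl_univ]; exact isCompact_empty) hE (suppOn_univ E) fun K hK _ => h K hK

theorem hasBd_of_iso {Y Y' : Scheme.{u}} (e : Y ≅ Y') (h : HasBd L Y) : HasBd L Y' := fun E hE hO => by
  have hz : EvAc L ((DPerf.resD e.hom).obj E) := h _ (DQC.isQCohD_resD e.hom hE) fun K hK =>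
    (hO _ (isPerfect_resD e.inv hK)).mono fun n hn φ => by
      haveI : (DPerf.resD e.inv).Faithful := inferInstanceAs ((resEquiv e).inverse.Faithful)
      apply (DPerf.resD e.inv).map_injective
      rw [Functor.map_zero, ← cancel_epi (((DPerf.resD e.inv).commShiftIso (-n)).inv.app K),
        ← cancel_mono ((resEquiv e).unitIso.symm.app E).hom, comp_zero, zero_comp]
      exact hn _
  exact evAc_of_iso ((resEquiv e).unitIso.app E).symm (hz.mono fun i hi =>
    ((Scheme.Modules.restrictFunctor e.inv).map_isZero hi).of_iso (DPerf.hdResIso e.inv _ i))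

include hL in
set_option maxHeartbeats 3200000 in
theorem hasBd_union [CompactSpace X] [QuasiSeparatedSpace X] {U V : X.Opens} (hU : IsCompact (U : Set X))
    (hV : IsAffineOpen V) (hUV : U ⊔ V = ⊤) (hb : HasBd L (U : Scheme.{u})) : HasBd L X := fun E hE hO => by
  haveI : IsAffine (V : Scheme.{u}) := hV
  haveI := quasiCompact_ι hU
  haveI := quasiCompact_ι hV.isCompact
  have hcov : ∀ x : X, x ∈ U ∨ x ∈ V := fun x => by
    have hx : x ∈ U ⊔ V := hUV ▸ trivial
    exact hx
  let T' : Set X := (U : Set X)ᶜ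
  have hT' : IsClosed T' := U.2.isClosed_compl
  have hT'c : IsCompact T'ᶜ := by rwa [compl_compl]
  have hT'V : T' ⊆ (V : Set X) := fun x hx => (hcov x).resolve_left hx
  let adjU := adjR U.ι
  let R := DPerf.resD U.ι
  obtain ⟨A, a, b, hA⟩ := distinguished_cocone_triangle₁ (adjU.unit.app E)
  haveI := isIso_resD_unit U.ι E
  have hAq : DCoh.IsQCohD A := isQCohD_obj₁ _ hA hE (isQCohD_rpushι hU (DQC.isQCohD_resD U.ι hE))
  have hA0 : IsZero (R.obj A) := (Triangle.isZero₁_iff_isIso₂ _ (R.map_distinguished _ hA)).2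
    (inferInstanceAs (IsIso (R.map (adjU.unit.app E))))
  have hAT : SuppOn T' A := by
    refine suppOn_mono (le_of_eq ?_) (suppOn_of_isZero_resD U.ι hA0)
    erw [Scheme.Opens.range_ι]
  obtain ⟨eA⟩ := DMV.nonempty_iso_rpush_restrict V T' hT' hT'V A hAT
  have hAV : EvAc L ((DPerf.resD V.ι).obj A) := by
    refine evAc_affine (hT'.preimage V.ι.continuous) ?_ (DQC.isQCohD_resD V.ι hAq) (suppOn_resD V.ι hAT)
      fun K hK hKT => ?_
    · rw [← Set.preimage_compl]
      exact Scheme.Hom.isCompact_preimage V.ι (U := ⟨T'ᶜ, hT'.isOpen_compl⟩) hT'c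
    · have hK' : DCoh.IsPerfect ((DCoh.Rpush V.ι).obj K) := DMV.isPerfect_rpush_of_support V K hK _ hT' hT'V
        fun i => Set.image_subset_iff.2 (hKT i)
      refine (hO _ hK').mono fun n hn φ => ?_
      have hz : IsZero (R.obj (((DCoh.Rpush V.ι).obj K)⟦-n⟧)) :=
        isZero_resD_of_suppOn U.ι (suppOn_shift (suppOn_rpush V.ι hT' hKT) (-n)) fun x h => h x.2
      obtain ⟨_, _⟩ := DPush.exists_commShift_isTriangulated V.ι
      haveI := isIso_counit V.ι
      haveI : (DCoh.Rpush V.ι).Faithful := (adjR V.ι).fullyFaithfulROfIsIsoCounit.faithful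
      apply (DCoh.Rpush V.ι).map_injective
      rw [Functor.map_zero, ← cancel_epi (((DCoh.Rpush V.ι).commShiftIso (-n)).inv.app K), ← cancel_mono eA.inv,
        comp_zero, zero_comp]
      exact (DGam9.bijective_comp U.ι hz hA (Iso.refl _)).1 ((hn _).trans zero_comp.symm)
  have hA' : EvAc L A := evAc_of_iso eA.symm (hL.push V.ι _ (DQC.isQCohD_resD V.ι hAq) hAV)
  have hEU : EvAc L (R.obj E) := by
    haveI : CompactSpace U := isCompact_iff_compactSpace.1 hU
    refine hb _ (DQC.isQCohD_resD U.ι hE) fun P hP => ?_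
    obtain ⟨Rg, hRg, -, ⟨eU⟩⟩ := exists_glue hU hV hUV (T := Set.univ) isClosed_univ
      (by rw [Set.compl_univ]; exact isCompact_empty) hP (fun i x _ => trivial)
    have hA1 : EvAc L (A⟦(1 : ℤ)⟧) := (hL.window _ hA' 1 1).mono fun i hi =>
      DMV.isZero_HD_shift A 1 i (hi (1 + i) le_rfl le_rfl)
    refine ((hO Rg hRg).and (evOrth_of_evAc hL hRg (DMV.isQCohD_shift A hAq 1) hA1)).mono fun n ⟨hn, hn'⟩ φ => ?_
    have hex : ∀ ψ : Rg⟦-n⟧ ⟶ (DCoh.Rpush U.ι).obj (R.obj E), ψ = 0 := fun ψ => by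
      obtain ⟨χ, hχ⟩ := Triangle.coyoneda_exact₃ _ hA ψ (hn' _)
      rw [hχ, hn χ, zero_comp]
    have hr : ∀ ψ : (R.obj Rg)⟦-n⟧ ⟶ R.obj E, ψ = 0 := fun ψ => by
      rw [← cancel_epi ((R.commShiftIso (-n)).hom.app Rg), comp_zero]
      exact (adjU.homEquiv _ _).injective ((hex _).trans (hex _).symm)
    rw [← Category.id_comp φ, ← CategoryTheory.Functor.map_id,
      show 𝟙 P = (biprod.inl ≫ eU.inv) ≫ eU.hom ≫ biprod.fst by simp, Functor.map_comp, Category.assoc,
      hr ((eU.hom ≫ biprod.fst)⟦-n⟧' ≫ φ), comp_zero]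
  exact (hA'.and (hL.push U.ι _ (DQC.isQCohD_resD U.ι hE) hEU)).mono fun i ⟨h₁, h₂⟩ =>
    (DerivedCategory.HomologySequence.exact₂ _ hA i).isZero_of_both_zeros (h₁.eq_of_src _ _) (h₂.eq_of_tgt _ _)

include hL in
theorem hasBd (X : Scheme.{u}) [CompactSpace X] [QuasiSeparatedSpace X] : HasBd L X := by
  have key : HasBd L ((⊤ : X.Opens) : Scheme.{u}) := by
    refine compact_open_induction_on (P := fun S : X.Opens => HasBd L (S : Scheme.{u})) (⊤ : X.Opens)
      (by simpa using isCompact_univ) ?_ fun S hS V hg => ?_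
    · haveI : IsAffine ((⊥ : X.Opens) : Scheme.{u}) := isAffineOpen_bot X
      exact hasBd_affine _
    · haveI := QuasiSeparatedSpace.of_isOpenEmbedding (S ⊔ V.1).ι.isOpenEmbedding
      have hc : IsCompact ((S ⊔ V.1 : X.Opens) : Set X) := by simpa using hS.union V.2.isCompact
      haveI := quasiCompact_ι (W := S ⊔ V.1) hc
      haveI : CompactSpace (S ⊔ V.1 : X.Opens) := isCompact_iff_compactSpace.1 hc
      refine hasBd_union hL (U := (S ⊔ V.1).ι ⁻¹ᵁ S) (V := (S ⊔ V.1).ι ⁻¹ᵁ V.1)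
        (Scheme.Hom.isCompact_preimage _ (U := S) hS) (isAffineOpen_sub V.2 le_sup_right) ?_
        (hasBd_of_iso (subOpenIso le_sup_left).symm hg)
      rw [← Scheme.Hom.preimage_sup, Scheme.Opens.ι_preimage_self]
  exact hasBd_of_iso X.topIso key

include hL in
/-- A generator detects eventual acyclicity. -/
theorem evAc_iff_evOrth [CompactSpace X] [QuasiSeparatedSpace X] {G : DCoh.D X} (hG : DCoh.IsPerfect G)
    (hgen : ∀ E : DCoh.D X, DCoh.IsQCohD E → (∀ (n : ℤ) (φ : G⟦n⟧ ⟶ E), φ = 0) → IsZero E)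
    {E : DCoh.D X} (hE : DCoh.IsQCohD E) : EvAc L E ↔ EvOrth L G E := by
  refine ⟨evOrth_of_evAc hL hG hE, fun h => hasBd hL X E hE fun K hK => ?_⟩
  refine mem_of_isPerfect (A := fun K => EvOrth L K E) ⟨fun e h' => ?_, ?_, fun T hT h₁ h₃ => ?_, fun K' c h' => ?_,
    fun i r hir h' => ?_⟩ hG hgen h hK
  · exact h'.mono fun n hn φ => by rw [← cancel_epi (e.hom⟦-n⟧'), comp_zero]; exact hn _
  · exact Eventually.of_forall fun n φ =>
      ((shiftFunctor (DCoh.D X) (-n)).map_isZero (isZero_zero _)).eq_of_src _ _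
  · refine (h₁.and h₃).mono fun n ⟨hn₁, hn₃⟩ φ => ?_
    have hT' := Triangle.shift_distinguished T hT (-n)
    have hz : ((Triangle.shiftFunctor (DCoh.D X) (-n)).obj T).mor₁ ≫ φ = 0 := hn₁ _
    obtain ⟨g, hg⟩ := Triangle.yoneda_exact₂ _ hT' φ hz
    have hg0 : g = 0 := hn₃ g
    rw [hg, hg0, comp_zero]
  · refine (hL.window _ h' (-c) (-c)).mono fun n hn φ => ?_
    rw [← cancel_epi ((shiftFunctorAdd' (DCoh.D X) c (-n) (-(-c + n)) (by omega)).hom.app K'), comp_zero]
    exact hn (-c + n) le_rfl le_rfl _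
  · exact h'.mono fun n hn φ => by
      rw [← Category.id_comp φ, ← CategoryTheory.Functor.map_id, ← hir, Functor.map_comp, Category.assoc,
        hn (r⟦-n⟧' ≫ φ), comp_zero]

end Groth.Agent.DGen9
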