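import Groth.Agent.Lib.DGen9.Affine
import Groth.Agent.Lib.DPush.QCoh
import Groth.Agent.Lib.DPush.Affine
import Groth.Agent.Lib.DPerf.Top
import Groth.Agent.Lib.DPerf.Free
import Groth.Agent.Lib.DMV.Support

/-! Triangles and restrictions of perfect objects. -/

set_option autoImplicit false
set_option linter.unusedSectionVars false
set_option linter.style.haveILetI false
set_option backward.isDefEq.respectTransparency false
set_option backward.isDefEq.respectTransparency.types false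

universe u

open CategoryTheory CategoryTheory.Limits AlgebraicGeometry Pretriangulated

attribute [local instance] HasDerivedCategory.standard

namespace Groth.Agent.DGen9

attribute [local instance] DBC9.hasRpush

open DMon9

variable {X : Scheme.{u}}

theorem isPerfect_obj₁ (T : Triangle (DCoh.D X)) (hT : T ∈ distTriang _)
    (h₂ : DCoh.IsPerfect T.obj₂) (h₃ : DCoh.IsPerfect T.obj₃) : DCoh.IsPerfect T.obj₁ :=
  DPerf.isPerfect_iff_approx.2 (DPerf.approx_univ₁ T hT (DPerf.isPerfect_iff_approx.1 h₂) (DPerf.isPerfect_iff_approx.1 h₃))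

theorem isPerfect_obj₂ (T : Triangle (DCoh.D X)) (hT : T ∈ distTriang _)
    (h₁ : DCoh.IsPerfect T.obj₁) (h₃ : DCoh.IsPerfect T.obj₃) : DCoh.IsPerfect T.obj₂ :=
  DPerf.isPerfect_iff_approx.2 (DPerf.approx_univ₂ T hT (DPerf.isPerfect_iff_approx.1 h₁) (DPerf.isPerfect_iff_approx.1 h₃))

theorem isPerfect_obj₃ (T : Triangle (DCoh.D X)) (hT : T ∈ distTriang _)
    (h₁ : DCoh.IsPerfect T.obj₁) (h₂ : DCoh.IsPerfect T.obj₂) : DCoh.IsPerfect T.obj₃ :=
  DPerf.isPerfect_iff_approx.2 (DPerf.approx_univ₃ T hT (DPerf.isPerfect_iff_approx.1 h₁) (DPerf.isPerfect_iff_approx.1 h₂))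

theorem isPerfect_shiftD {K : DCoh.D X} (h : DCoh.IsPerfect K) (n : ℤ) : DCoh.IsPerfect (K⟦n⟧) :=
  DPerf.isPerfect_iff_approx.2 ((DPerf.isPerfect_iff_approx.1 h).shift_univ n)

theorem isPseudoCoherentD_of_isPerfect {K : DCoh.D X} (h : DCoh.IsPerfect K) (m : ℤ) :
    DCoh.IsPseudoCoherentD m K :=
  DPerf.isPseudoCoherentD_of_approx ((DPerf.isPerfect_iff_approx.1 h).mono_set (Set.subset_univ _))

theorem isQCohD_of_isPerfect {K : DCoh.D X} (h : DCoh.IsPerfect K) : DCoh.IsQCohD K := fun i =>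
  DPerf.isQCoh_HD (isPseudoCoherentD_of_isPerfect h (i - 1)) (show i - 1 < i by omega)

theorem isQCohD_obj₁ (T : Triangle (DCoh.D X)) (hT : T ∈ distTriang _)
    (h₂ : DCoh.IsQCohD T.obj₂) (h₃ : DCoh.IsQCohD T.obj₃) : DCoh.IsQCohD T.obj₁ :=
  WayOut.cohIn_obj₂ (fun M : X.Modules => Coh.IsQCoh M) T.invRotate (inv_rot_of_distTriang _ hT)
    (WayOut.cohIn_shift (fun M : X.Modules => Coh.IsQCoh M) (X := T.obj₃) (-1) h₃) h₂

theorem isQCohD_obj₂ (T : Triangle (DCoh.D X)) (hT : T ∈ distTriang _)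
    (h₁ : DCoh.IsQCohD T.obj₁) (h₃ : DCoh.IsQCohD T.obj₃) : DCoh.IsQCohD T.obj₂ :=
  WayOut.cohIn_obj₂ (fun M : X.Modules => Coh.IsQCoh M) T hT h₁ h₃

theorem suppOn_triangle₁ {T : Set X} (Tr : Triangle (DCoh.D X)) (hTr : Tr ∈ distTriang _)
    (h₂ : SuppOn T Tr.obj₂) (h₃ : SuppOn T Tr.obj₃) : SuppOn T Tr.obj₁ :=
  suppOn_triangle₂ Tr.invRotate (inv_rot_of_distTriang _ hTr) (suppOn_shift h₃ (-1)) h₂

theorem suppOn_mono {T T' : Set X} (h : T ⊆ T') {K : DCoh.D X} (hK : SuppOn T K) : SuppOn T' K :=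
  fun i => (hK i).trans h

theorem suppOn_inter {T T' : Set X} {K : DCoh.D X} (h : SuppOn T K) (h' : SuppOn T' K) : SuppOn (T ∩ T') K :=
  fun i => Set.subset_inter (h i) (h' i)

theorem suppOn_of_isZero {T : Set X} {K : DCoh.D X} (h : IsZero K) : SuppOn T K :=
  suppOn_of_stalks fun x _ i => (M1.stalkAb x).map_isZero ((DerivedCategory.homologyFunctor X.Modules i).map_isZero h)

variable {U : Scheme.{u}} (j : U ⟶ X) [IsOpenImmersion j]

theorem isZero_resD_of_suppOn {T : Set X} {K : DCoh.D X} (h : SuppOn T K) (hd : ∀ u, j u ∉ T) :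
    IsZero ((DPerf.resD j).obj K) :=
  DMV.isZero_of_hd fun i => (DPerf.isZero_of_stalks fun z => AddCommGrpCat.subsingleton_of_isZero
    ((RHom.stalkZero_restrict_iff j z _).2 (stalkZero_of_suppOn h (hd z) i))).of_iso (DPerf.hdResIso j K i)

theorem suppOn_of_isZero_resD {K : DCoh.D X} (h : IsZero ((DPerf.resD j).obj K)) :
    SuppOn (Set.range j)ᶜ K :=
  suppOn_of_stalks fun x hx i => by
    obtain ⟨u, rfl⟩ : x ∈ Set.range j := not_not.1 hx
    exact (RHom.stalkZero_restrict_iff j u _).1 (RHom.stalkZero_iso (DPerf.hdResIso j K i)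
      ((M1.stalkAb u).map_isZero ((DerivedCategory.homologyFunctor U.Modules i).map_isZero h)))

/-- The adjunction for an open immersion. -/
noncomputable def adjR : DPerf.resD j ⊣ DCoh.Rpush j := (adjLP j).ofNatIsoLeft (lPRes j)

theorem isIso_counit : IsIso (adjR j).counit := by
  haveI := DBC9.isIso_counit_openImmersion j
  haveI : (DCoh.Rpush j).Full := (adjLP j).fullyFaithfulROfIsIsoCounit.full
  haveI : (DCoh.Rpush j).Faithful := (adjLP j).fullyFaithfulROfIsIsoCounit.faithful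
  exact (adjR j).counit_isIso_of_R_fully_faithful

/-- Restricting a pushed object. -/
noncomputable def resPushIso (F : DCoh.D U) : (DPerf.resD j).obj ((DCoh.Rpush j).obj F) ≅ F :=
  haveI := isIso_counit j
  asIso ((adjR j).counit.app F)

theorem isIso_resD_unit (K : DCoh.D X) : IsIso ((DPerf.resD j).map ((adjR j).unit.app K)) := by
  haveI := isIso_counit j
  haveI : IsIso ((DPerf.resD j).map ((adjR j).unit.app K) ≫ (adjR j).counit.app ((DPerf.resD j).obj K)) := by
    exact (adjR j).left_triangle_components K ▸ inferInstanceAs (IsIso (𝟙 ((DPerf.resD j).obj K)))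
  exact IsIso.of_isIso_comp_right _ ((adjR j).counit.app ((DPerf.resD j).obj K))

theorem isZero_resD_cone {A B C : DCoh.D X} {f : A ⟶ B} {g : B ⟶ C} {h : C ⟶ A⟦(1 : ℤ)⟧}
    (hT : Triangle.mk f g h ∈ distTriang _) [IsIso ((DPerf.resD j).map f)] :
    IsZero ((DPerf.resD j).obj C) :=
  (Triangle.isZero₃_iff_isIso₁ _ ((DPerf.resD j).map_distinguished _ hT)).2
    (inferInstanceAs (IsIso ((DPerf.resD j).map f)))

theorem quasiCompact_ι [QuasiSeparatedSpace X] {W : X.Opens} (hW : IsCompact (W : Set X)) : QuasiCompact W.ι := by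
  refine ⟨fun V hV hVc => ?_⟩
  refine W.ι.isOpenEmbedding.isInducing.isCompact_iff.2 ?_
  rw [Set.image_preimage_eq_inter_range]
  erw [Scheme.Opens.range_ι]
  exact QuasiSeparatedSpace.inter_isCompact _ _ hV hVc W.2 hW

theorem isQCohD_rpushι [QuasiSeparatedSpace X] {W : X.Opens} (hW : IsCompact (W : Set X))
    {F : DCoh.D (W : Scheme.{u})} (hF : DCoh.IsQCohD F) : DCoh.IsQCohD ((DCoh.Rpush W.ι).obj F) :=
  haveI := quasiCompact_ι hW
  DPush.isQCohD_rpush _ F hF

end Groth.Agent.DGen9
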