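import Groth.Agent.Lib.DGen9.LiftQC
import Groth.Agent.Lib.RHom.QCoh
import Groth.Agent.Lib.RHom.PCoh
import Groth.Agent.Lib.RHom.Devissage
import Groth.Agent.Lib.CountD9.Hocolim
import Groth.Agent.Lib.ResDesc11.Basic

/-! Maps from perfect objects into supported objects factor through supported perfect objects. -/

set_option autoImplicit false
set_option linter.unusedSectionVars false
set_option linter.style.haveILetI false
set_option backward.isDefEq.respectTransparency false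
set_option backward.isDefEq.respectTransparency.types false
set_option maxHeartbeats 800000

universe u

open CategoryTheory CategoryTheory.Limits AlgebraicGeometry Pretriangulated

attribute [local instance] HasDerivedCategory.standard

namespace Groth.Agent.DGen9

attribute [local instance] DBC9.hasRpush
open scoped Groth.Agent.RHom

/-- Combining a factorisation of a map with one of its composite into a cone. -/
theorem exists_combine {C : Type*} [Category* C] [HasZeroObject C] [Preadditive C] [HasShift C ℤ]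
    [∀ n : ℤ, (shiftFunctor C n).Additive] [Pretriangulated C] {A R E E' K : C}
    {β : R ⟶ E} {e : E ⟶ E'} {h : E' ⟶ R⟦(1 : ℤ)⟧} (hT : Triangle.mk β e h ∈ distTriang C)
    (α : A ⟶ E) (ι : A ⟶ K) (γ : K ⟶ E') (hγ : ι ≫ γ = α ≫ e) :
    ∃ (Q : C) (u : R ⟶ Q) (v : Q ⟶ K) (l : A ⟶ Q) (q : Q ⟶ E),
      Triangle.mk u v (γ ≫ h) ∈ distTriang C ∧ l ≫ q = α := by
  obtain ⟨Q, u, v, hQ⟩ := distinguished_cocone_triangle₂ (γ ≫ h)
  have hq : ∃ q : Q ⟶ E, u ≫ q = 𝟙 R ≫ β ∧ v ≫ γ = q ≫ e :=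
    complete_distinguished_triangle_morphism₂ _ _ hQ hT (𝟙 R) γ (by
      exact (congrArg ((γ ≫ h) ≫ ·) ((shiftFunctor C (1 : ℤ)).map_id R)).trans (Category.comp_id _))
  obtain ⟨q, hq₁, hq₂⟩ := hq
  have hl : ∃ l : A ⟶ Q, ι = l ≫ v := Triangle.coyoneda_exact₃ _ hQ ι (by
    show ι ≫ γ ≫ h = 0
    rw [← Category.assoc, hγ, Category.assoc, show e ≫ h = 0 from comp_distTriang_mor_zero₂₃ _ hT, comp_zero])
  obtain ⟨l, hl⟩ := hl
  have hf : ∃ f : A ⟶ R, α - l ≫ q = f ≫ β := Triangle.coyoneda_exact₂ _ hT (α - l ≫ q) (by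
    show (α - l ≫ q) ≫ e = 0
    rw [Preadditive.sub_comp, Category.assoc, ← hq₂, ← Category.assoc l v γ, ← hl, hγ, sub_self])
  obtain ⟨f, hf⟩ := hf
  refine ⟨Q, u, v, l + f ≫ u, q, hQ, ?_⟩
  rw [Preadditive.add_comp, Category.assoc, hq₁, Category.id_comp, ← hf, add_sub_cancel]

/-- Every map from a perfect object to a supported one factors through a supported perfect object. -/
def Fac (X : Scheme.{u}) : Prop :=
  ∀ T : Set X, IsClosed T → IsCompact Tᶜ → ∀ A E : DCoh.D X, DCoh.IsPerfect A → DCoh.IsQCohD E → SuppOn T E →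
    ∀ α : A ⟶ E, ∃ (C : DCoh.D X) (ι : A ⟶ C) (γ : C ⟶ E), DCoh.IsPerfect C ∧ SuppOn T C ∧ ι ≫ γ = α

variable {X : Scheme.{u}}

theorem fac_affine (X : Scheme.{u}) [IsAffine X] : Fac X := fun T hT hTc A E hA hE hET α => by
  obtain ⟨C, ι, γ, hC, hCT, -, hγ⟩ := exists_factor_affine₂ hT hTc isClosed_univ (by simp)
    (isQCohD_of_isPerfect hA) hA (suppOn_univ A) hE hET α
  exact ⟨C, ι, γ, hC, hCT, hγ⟩

theorem fac_of_iso {Y Y' : Scheme.{u}} (e : Y ≅ Y') (h : Fac Y) : Fac Y' := fun T hT hTc A E hA hE hET α => by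
  have hpre : e.inv ⁻¹' (e.hom ⁻¹' T) = T := by
    ext y; simp
  obtain ⟨C, ι, γ, hC, hCT, hγ⟩ := h (e.hom ⁻¹' T) (hT.preimage e.hom.continuous)
    (e.hom.homeomorph.isCompact_preimage.2 hTc) _ _ (isPerfect_resD e.hom hA) (DQC.isQCohD_resD e.hom hE)
    (suppOn_resD e.hom hET) ((DPerf.resD e.hom).map α)
  let η := (resEquiv e).unitIso
  refine ⟨(DPerf.resD e.inv).obj C, η.hom.app A ≫ (DPerf.resD e.inv).map ι,
    (DPerf.resD e.inv).map γ ≫ η.inv.app E, isPerfect_resD e.inv hC, ?_, ?_⟩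
  · have := suppOn_resD e.inv hCT
    rwa [hpre] at this
  · rw [Category.assoc, ← Functor.map_comp_assoc, hγ]
    exact (congrArg (η.hom.app A ≫ ·) (η.inv.naturality α)).trans (η.hom_inv_id_app_assoc A α)

set_option maxHeartbeats 3200000 in
theorem fac_union [QuasiSeparatedSpace X] {U V : X.Opens} (hU : IsCompact (U : Set X)) [CompactSpace X]
    (hV : IsAffineOpen V) (hUV : U ⊔ V = ⊤) (hFac : Fac (U : Scheme.{u})) : Fac X := fun T hT hTc A E hA hE hET α => by
  haveI : IsAffine (V : Scheme.{u}) := hV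
  haveI := quasiCompact_ι hV.isCompact
  haveI := quasiCompact_ι hU
  haveI : CompactSpace (U : Scheme.{u}) := isCompact_iff_compactSpace.1 hU
  have hpre : ∀ {W : X.Opens} [QuasiCompact W.ι] {Z : Set X}, IsClosed Z → IsCompact Zᶜ →
      IsCompact (W.ι ⁻¹' Z)ᶜ := fun {W} _ {Z} hZ hZc => by
    rw [← Set.preimage_compl]
    exact Scheme.Hom.isCompact_preimage W.ι (U := ⟨Zᶜ, hZ.isOpen_compl⟩) hZc
  obtain ⟨CU, ιU, γU, hCU, hCUT, hγU⟩ := hFac _ (hT.preimage U.ι.continuous) (hpre hT hTc) _ _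
    (isPerfect_resD U.ι hA) (DQC.isQCohD_resD U.ι hE) (suppOn_resD U.ι hET) ((DPerf.resD U.ι).map α)
  obtain ⟨R, β, i, p, hR, hRT, -, hβ⟩ := lifts_opens U hU T hT hTc E hE CU hCU hCUT γU
  obtain ⟨E', e, h, hT₁⟩ := distinguished_cocone_triangle β
  have hE'q : DCoh.IsQCohD E' := DPush.isQCohD_obj₃ _ hT₁ (isQCohD_of_isPerfect hR) hE
  have hE'T : SuppOn T E' := suppOn_triangle₃ _ hT₁ hRT hET
  have h0 : (DPerf.resD U.ι).map (α ≫ e) = 0 := by
    rw [Functor.map_comp, ← hγU, ← hβ, Category.assoc, Category.assoc, ← Functor.map_comp,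
      show β ≫ e = 0 from comp_distTriang_mor_zero₁₂ _ hT₁, Functor.map_zero, comp_zero, comp_zero]
  let adj := adjR U.ι
  let adjV := adjR V.ι
  let T₀ : Set X := (U : Set X)ᶜ
  have hT₀ : IsClosed T₀ := U.2.isClosed_compl
  have hT₀V : T₀ ⊆ (V : Set X) := fun x hx => by
    have h : x ∈ U ⊔ V := hUV ▸ trivial
    exact Or.resolve_left h hx
  obtain ⟨S, s, ε, hS⟩ := distinguished_cocone_triangle₁ (adj.unit.app E')
  have hu : (α ≫ e) ≫ adj.unit.app E' = 0 := by
    have h1 := adj.unit.naturality (α ≫ e)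
    refine h1.trans ?_
    show adj.unit.app A ≫ (DCoh.Rpush U.ι).map ((DPerf.resD U.ι).map (α ≫ e)) = 0
    haveI := (adjR U.ι).right_adjoint_additive
    rw [h0, Functor.map_zero, comp_zero]
  have hex : ∃ a : A ⟶ S, α ≫ e = a ≫ s := Triangle.coyoneda_exact₂ _ hS _ hu
  obtain ⟨a, ha⟩ := hex
  have hSq : DCoh.IsQCohD S :=
    isQCohD_obj₁ _ hS hE'q (isQCohD_rpushι hU (DQC.isQCohD_resD U.ι hE'q))
  have hS₀ : SuppOn T₀ S := by
    haveI := isIso_resD_unit U.ι E'
    have hA0 : IsZero ((DPerf.resD U.ι).obj S) :=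
      (Triangle.isZero₁_iff_isIso₂ _ ((DPerf.resD U.ι).map_distinguished _ hS)).2
        (inferInstanceAs (IsIso ((DPerf.resD U.ι).map (adj.unit.app E'))))
    refine suppOn_mono (le_of_eq ?_) (suppOn_of_isZero_resD U.ι hA0)
    erw [Scheme.Opens.range_ι]
  have hST : SuppOn (T ∩ T₀) S :=
    suppOn_inter (suppOn_triangle₁ _ hS hE'T (suppOn_rpush U.ι hT (suppOn_resD U.ι hE'T))) hS₀
  obtain ⟨eS⟩ := DMV.nonempty_iso_rpush_restrict V T₀ hT₀ hT₀V S hS₀
  have hI : IsClosed (T ∩ T₀) := hT.inter hT₀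
  have hIc : IsCompact (T ∩ T₀)ᶜ := by
    rw [Set.compl_inter, compl_compl]
    exact hTc.union hU
  obtain ⟨C, ι, γ, hC, hCs, hιγ⟩ := fac_affine (V : Scheme.{u}) _ (hI.preimage V.ι.continuous) (hpre hI hIc) _ _
    (isPerfect_resD V.ι hA) (DQC.isQCohD_resD V.ι hSq) (suppOn_resD V.ι hST)
    ((adjV.homEquiv _ _).symm (a ≫ eS.hom))
  let C' := (DCoh.Rpush V.ι).obj C
  have hC' : SuppOn T C' := suppOn_mono Set.inter_subset_left (suppOn_rpush V.ι hI hCs)
  have hC'p : DCoh.IsPerfect C' := DMV.isPerfect_rpush_of_support V C hC _ hT₀ hT₀V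
    fun k => Set.image_subset_iff.2 fun x hx => (hCs k hx).2
  let γ' : C' ⟶ E' := (DCoh.Rpush V.ι).map γ ≫ eS.inv ≫ s
  have hγ' : adjV.homEquiv _ _ ι ≫ γ' = α ≫ e := by
    rw [← Category.assoc, ← adjV.homEquiv_naturality_right, hιγ, Equiv.apply_symm_apply, Category.assoc,
      Iso.hom_inv_id_assoc, ha]
  obtain ⟨Q, u, v, l, q, hQ, hlq⟩ := exists_combine hT₁ α (adjV.homEquiv _ _ ι) γ' hγ'
  exact ⟨Q, l, q, isPerfect_obj₂ _ hQ hR hC'p, suppOn_triangle₂ _ hQ hRT hC', hlq⟩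

theorem fac (X : Scheme.{u}) [CompactSpace X] [QuasiSeparatedSpace X] : Fac X := by
  have key : Fac ((⊤ : X.Opens) : Scheme.{u}) := by
    refine compact_open_induction_on (P := fun S : X.Opens => Fac (S : Scheme.{u})) (⊤ : X.Opens)
      (by simpa using isCompact_univ) ?_ fun S hS V hg => ?_
    · haveI : IsAffine ((⊥ : X.Opens) : Scheme.{u}) := isAffineOpen_bot X
      exact fac_affine _
    · have hc : IsCompact ((S ⊔ V.1 : X.Opens) : Set X) := by simpa using hS.union V.2.isCompact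
      haveI := QuasiSeparatedSpace.of_isOpenEmbedding (S ⊔ V.1).ι.isOpenEmbedding
      haveI := quasiCompact_ι (W := S ⊔ V.1) hc
      haveI : CompactSpace ((S ⊔ V.1 : X.Opens) : Scheme.{u}) := isCompact_iff_compactSpace.1 hc
      refine fac_union (U := (S ⊔ V.1).ι ⁻¹ᵁ S) (V := (S ⊔ V.1).ι ⁻¹ᵁ V.1)
        (Scheme.Hom.isCompact_preimage _ (U := S) hS) (isAffineOpen_sub V.2 le_sup_right) ?_
        (fac_of_iso (subOpenIso le_sup_left).symm hg)
      rw [← Scheme.Hom.preimage_sup, Scheme.Opens.ι_preimage_self]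
  exact fac_of_iso X.topIso key

theorem isPerfect_inD_structure (X : Scheme.{u}) : DCoh.IsPerfect (DCoh.inD X (Coh.structureModule X)) :=
  DPerf.isPerfect_iff_approx.2 (DPerf.approx_inD_of_isFinLocFree (ResDesc11.isFinLocFree_structureModule X))

/-- A supported object kills the structure sheaf up to a perfect object. -/
theorem exists_kill [CompactSpace X] [QuasiSeparatedSpace X] (U : X.Opens) (hU : IsCompact (U : Set X))
    (P : CochainComplex X.Modules ℤ) [DCoh.HasLTensorCx P] [DCoh.HasRSheafHom P]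
    (E : DCoh.D X) (hEq : DCoh.IsQCohD E) (hEsupp : SuppOn (U : Set X)ᶜ E)
    (h : DCoh.IsPerfect (DCoh.toD X P) ∨ ((∀ m : ℤ, DCoh.IsPseudoCoherentD m (DCoh.toD X P)) ∧ ∃ a : ℤ, E.IsGE a))
    (γ : (DCoh.LTensorCx P).obj (DCoh.inD X (Coh.structureModule X)) ⟶ E) :
    ∃ (I : DCoh.D X) (i : I ⟶ DCoh.inD X (Coh.structureModule X)), DCoh.IsPerfect I ∧
      (DCoh.LTensorCx P).map i ≫ γ = 0 ∧ IsIso ((DPerf.resD U.ι).map i) := by
  let H := (DCoh.RSheafHom P).obj E
  have hHq : DCoh.IsQCohD H := by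
    rcases h with hP | ⟨hP, a, ha⟩
    · exact RHom.isQCohD_rhom_perfect P hP E hEq
    · exact fun j => RHom.isQCoh_HD_rhom P E a (hP (a - j - 1)) hEq j (by omega)
  have hHs : SuppOn (U : Set X)ᶜ H := by
    have h0 : IsZero ((DCoh.restrictD U.ι).obj E) := isZero_resD_of_suppOn U.ι hEsupp fun u hu => hu u.2
    haveI : DCoh.HasLTensorCx ((DCoh.restrictCx U).obj P) := KFlat.Sch.hasLTensorCx _
    haveI : DCoh.HasRSheafHom ((DCoh.restrictCx U).obj P) := RHom.hasRSheafHom _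
    haveI : (DCoh.RSheafHom ((DCoh.restrictCx U).obj P)).IsRightAdjoint :=
      (DCoh.RSheafHomAdj ((DCoh.restrictCx U).obj P)).isRightAdjoint
    have h1 : IsZero ((DCoh.RSheafHom ((DCoh.restrictCx U).obj P)).obj ((DCoh.restrictD U.ι).obj E)) :=
      (DCoh.RSheafHom ((DCoh.restrictCx U).obj P)).map_isZero h0
    have h2 : IsZero ((DPerf.resD U.ι).obj H) := h1.of_iso ((RHom.restrictRHomIso U P).app E)
    refine suppOn_mono (le_of_eq ?_) (suppOn_of_isZero_resD U.ι h2)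
    erw [Scheme.Opens.range_ι]
  let adj := DCoh.RSheafHomAdj P
  obtain ⟨C, ι, κ, hC, hCs, hικ⟩ := fac X (U : Set X)ᶜ U.2.isClosed_compl (by rwa [compl_compl]) _ H
    (isPerfect_inD_structure X) hHq hHs (adj.homEquiv _ _ γ)
  obtain ⟨I, i, ε, hI⟩ := distinguished_cocone_triangle₁ ι
  refine ⟨I, i, isPerfect_obj₁ _ hI (isPerfect_inD_structure X) hC, ?_, ?_⟩
  · apply (adj.homEquiv _ _).injective
    rw [adj.homEquiv_naturality_left, ← hικ, ← Category.assoc,
      show i ≫ ι = 0 from comp_distTriang_mor_zero₁₂ _ hI, zero_comp, adj.homEquiv_unit, Functor.map_zero, comp_zero]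
  · exact (Triangle.isZero₃_iff_isIso₁ _ ((DPerf.resD U.ι).map_distinguished _ hI)).1
      (isZero_resD_of_suppOn U.ι hCs fun u hu => hu u.2)

end Groth.Agent.DGen9
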