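import Groth.Agent.Lib.DCompact9.Seq
import Groth.Agent.Lib.RHom.Compact
import Mathlib.CategoryTheory.Functor.OfSequence
import Mathlib.CategoryTheory.EssentiallySmall

/-! Colocalisation onto a class generated by a compact object. -/

set_option autoImplicit false
set_option linter.unusedSectionVars false
set_option linter.style.haveILetI false
set_option backward.isDefEq.respectTransparency false
set_option backward.isDefEq.respectTransparency.types false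

universe w v u

open CategoryTheory CategoryTheory.Limits Pretriangulated Groth.Agent.DPush

namespace Groth.Agent.DGen9

variable {D : Type u} [Category.{v} D] [Preadditive D] [HasZeroObject D] [HasShift D ℤ]
  [∀ n : ℤ, (shiftFunctor D n).Additive] [Pretriangulated D] [LocallySmall.{w} D]
  [∀ κ : Type w, HasColimitsOfShape (Discrete κ) D] [HasColimitsOfShape (Discrete ℕ) D]

/-- Closed under isomorphisms, small coproducts and cones. -/
structure CoclosedClass (S : D → Prop) : Prop where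
  iso : ∀ {A B : D}, (A ≅ B) → S A → S B
  sigma : ∀ (κ : Type w) (Y : κ → D), (∀ k, S (Y k)) → S (∐ Y)
  cone : ∀ T : Triangle D, T ∈ distTriang D → S T.obj₁ → S T.obj₂ → S T.obj₃

/-- The tower construction. -/
theorem exists_tower_obj (P : D) {S : D → Prop} (hS : CoclosedClass.{w} S) (hP : ∀ n : ℤ, S (P⟦n⟧))
    (hfin : ∀ (n : ℤ) (X : ℕ → D), (∀ k, S (X k)) → ∀ f : P⟦n⟧ ⟶ ∐ X, FinFac X f) (M : D) :
    ∃ (N : D) (ε : N ⟶ M), S N ∧ ∀ n : ℤ, Function.Bijective fun f : P⟦n⟧ ⟶ N => f ≫ ε := by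
  classical
  let St := Σ' (X : D) (_ : X ⟶ M), S X
  have hstep : ∀ s : St, ∃ (s' : St) (t : s.1 ⟶ s'.1), t ≫ s'.2.1 = s.2.1 ∧
      ∀ (n : ℤ) (c : P⟦n⟧ ⟶ s.1), c ≫ s.2.1 = 0 → c ≫ t = 0 := by
    rintro ⟨X, x, hX⟩
    let K := Σ n : ℤ, Shrink.{w} {c : P⟦n⟧ ⟶ X // c ≫ x = 0}
    let g : (∐ fun k : K => P⟦k.1⟧) ⟶ X := Sigma.desc fun k => ((equivShrink _).symm k.2).1
    obtain ⟨Y, t, r, hT⟩ := distinguished_cocone_triangle g
    have hg : g ≫ x = 0 := Sigma.hom_ext _ _ fun k => by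
      rw [Sigma.ι_desc_assoc, ((equivShrink _).symm k.2).2, comp_zero]
    have hex : ∃ y : Y ⟶ M, x = t ≫ y := Triangle.yoneda_exact₂ _ hT x hg
    obtain ⟨y, hy⟩ := hex
    refine ⟨⟨Y, y, hS.cone _ hT (hS.sigma K _ fun k => hP _) hX⟩, t, hy.symm, fun n c hc => ?_⟩
    have hcg : Sigma.ι (fun k : K => P⟦k.1⟧) ⟨n, equivShrink _ ⟨c, hc⟩⟩ ≫ g = c := by
      rw [Sigma.ι_desc]
      simp
    rw [← hcg, Category.assoc, show g ≫ t = 0 from comp_distTriang_mor_zero₁₂ _ hT, comp_zero]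
  choose step t ht hkill using hstep
  let J := Σ n : ℤ, Shrink.{w} (P⟦n⟧ ⟶ M)
  let s₀ : St := ⟨∐ fun j : J => P⟦j.1⟧, Sigma.desc fun j => (equivShrink _).symm j.2, hS.sigma J _ fun j => hP _⟩
  let seq : ℕ → St := fun n => Nat.rec s₀ (fun _ s => step s) n
  let F : ℕ ⥤ D := Functor.ofSequence (X := fun n => (seq n).1) fun n => t (seq n)
  have hFmap : ∀ n, F.map (homOfLE (Nat.le_succ n)) = t (seq n) := fun n => Functor.ofSequence_map_homOfLE_succ _ n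
  obtain ⟨N, q, r, hN⟩ := distinguished_cocone_triangle
    (𝟙 (∐ F.obj) - DerLim.shiftMap F.obj fun n => F.map (homOfLE (Nat.le_succ n)))
  let j : ∀ n, F.obj n ⟶ N := fun n => Sigma.ι F.obj n ≫ q
  have hq : q = Sigma.desc j := Sigma.hom_ext _ _ fun n => by simp [j]
  have hL : DerLim.IsHocolim F.obj (fun n => F.map (homOfLE (Nat.le_succ n))) N j := ⟨r, hq ▸ hN⟩
  have hj : ∀ n, t (seq n) ≫ j (n + 1) = j n := fun n => by
    have h1 := congrArg (fun z => Sigma.ι F.obj n ≫ z) (comp_distTriang_mor_zero₁₂ _ hN)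
    simp [DerLim.shiftMap, Preadditive.sub_comp, Preadditive.comp_sub, sub_eq_zero] at h1
    rw [← hFmap n]
    exact h1.symm.trans (congrArg (_ ≫ ·) (Category.id_comp _))
  have hx : (𝟙 (∐ F.obj) - DerLim.shiftMap F.obj fun n => F.map (homOfLE (Nat.le_succ n))) ≫
      Sigma.desc (fun n => ((seq n).2.1 : F.obj n ⟶ M)) = 0 := Sigma.hom_ext _ _ fun n => by
    simp only [DerLim.shiftMap, Preadditive.sub_comp, Category.id_comp, Preadditive.comp_sub, Sigma.ι_desc,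
      Sigma.ι_desc_assoc, Category.assoc, comp_zero, sub_eq_zero]
    rw [hFmap n]
    exact (ht (seq n)).symm
  have hex : ∃ ε : N ⟶ M, Sigma.desc (fun n => ((seq n).2.1 : F.obj n ⟶ M)) = q ≫ ε :=
    Triangle.yoneda_exact₂ _ hN _ hx
  obtain ⟨ε, hε⟩ := hex
  have hjε : ∀ n, j n ≫ ε = (seq n).2.1 := fun n => by
    rw [Category.assoc, ← hε, Sigma.ι_desc]
  have hSsum : S (∐ F.obj) :=
    hS.iso (Sigma.whiskerEquiv (f := fun k : ULift.{w} ℕ => F.obj k.down) (g := F.obj) Equiv.ulift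
      fun _ => Iso.refl _) (hS.sigma _ _ fun k => (seq k.down).2.2)
  refine ⟨N, ε, hS.cone _ hN hSsum hSsum, fun n => ⟨fun a b hab => ?_, fun f => ?_⟩⟩
  · have hfin' : ∀ f : (P⟦n⟧)⟦(-1 : ℤ)⟧ ⟶ ∐ F.obj, FinFac F.obj f := fun f => by
      let e := (shiftFunctorAdd D n (-1 : ℤ)).app P
      obtain ⟨s, hs⟩ := hfin _ F.obj (fun k => (seq k).2.2) (e.hom ≫ f)
      exact ⟨s, by rwa [Category.assoc, cancel_epi] at hs⟩
    have H := DCompact9.hom_hocolim F hL (P⟦n⟧) (hfin n F.obj fun k => (seq k).2.2) hfin'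
    obtain ⟨k, y, hy⟩ := H.1 (a - b)
    have hy0 : y ≫ (seq k).2.1 = 0 := by
      rw [← hjε k, ← Category.assoc, hy, Preadditive.sub_comp]
      exact sub_eq_zero.2 hab
    refine sub_eq_zero.1 (hy.symm.trans ?_)
    rw [← hj k, ← Category.assoc]
    exact (congrArg (· ≫ j (k + 1)) (hkill (seq k) n y hy0)).trans zero_comp
  · refine ⟨Sigma.ι (fun j : J => P⟦j.1⟧) ⟨n, equivShrink _ f⟩ ≫ j 0, ?_⟩
    change (_ ≫ j 0) ≫ ε = f
    rw [Category.assoc, hjε 0]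
    simp [seq, s₀]

/-- Bijectivity on all shifts kills maps into the cone. -/
theorem eq_zero_of_bijective {P N M C : D} {ε : N ⟶ M} {q : M ⟶ C} {r : C ⟶ N⟦(1 : ℤ)⟧}
    (hT : Triangle.mk ε q r ∈ distTriang D) (h : ∀ n : ℤ, Function.Bijective fun f : P⟦n⟧ ⟶ N => f ≫ ε)
    (n : ℤ) (φ : P⟦n⟧ ⟶ C) : φ = 0 := by
  let i : (P⟦n - 1⟧)⟦(1 : ℤ)⟧ ≅ P⟦n⟧ := ((shiftFunctorAdd' D (n - 1) 1 n (by omega)).app P).symm
  obtain ⟨a, ha⟩ := (shiftFunctor D (1 : ℤ)).map_surjective (i.hom ≫ φ ≫ r)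
  have ha0 : a = 0 := (h (n - 1)).1 (show a ≫ ε = 0 ≫ ε from (shiftFunctor D (1 : ℤ)).map_injective (by
    rw [zero_comp, Functor.map_comp, ha, Functor.map_zero, Category.assoc, Category.assoc,
      show r ≫ ε⟦(1 : ℤ)⟧' = 0 from comp_distTriang_mor_zero₃₁ _ hT, comp_zero, comp_zero]))
  rw [ha0, Functor.map_zero, eq_comm, Preadditive.IsIso.comp_left_eq_zero] at ha
  have hex : ∃ b : P⟦n⟧ ⟶ M, φ = b ≫ q := Triangle.coyoneda_exact₃ _ hT φ ha
  obtain ⟨b, rfl⟩ := hex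
  obtain ⟨c, rfl⟩ := (h n).2 b
  change (c ≫ ε) ≫ q = 0
  rw [Category.assoc, show ε ≫ q = 0 from comp_distTriang_mor_zero₁₂ _ hT, comp_zero]

/-- Colocalisation onto a class generated by a compact object. -/
theorem exists_coloc (P : D) {S : D → Prop} (hS : CoclosedClass.{w} S) (hP : ∀ n : ℤ, S (P⟦n⟧))
    (hfin : ∀ (n : ℤ) (X : ℕ → D), (∀ k, S (X k)) → ∀ f : P⟦n⟧ ⟶ ∐ X, FinFac X f)
    (hgen : ∀ Q, S Q → (∀ (n : ℤ) (φ : P⟦n⟧ ⟶ Q), φ = 0) → IsZero Q) (M : D) :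
    ∃ (N : D) (ε : N ⟶ M), S N ∧ ∀ Q, S Q → Function.Bijective fun f : Q ⟶ N => f ≫ ε := by
  obtain ⟨N, ε, hN, hε⟩ := exists_tower_obj P hS hP hfin M
  obtain ⟨C, q, r, hT⟩ := distinguished_cocone_triangle ε
  let S' : D → Prop := fun Q => S Q ∧ ∀ (n : ℤ) (φ : Q⟦n⟧ ⟶ C), φ = 0
  have hiso : ∀ {A B : D}, (A ≅ B) → S' A → S' B := fun e h => ⟨hS.iso e h.1, fun n φ => by
    rw [← cancel_epi ((shiftFunctor D n).map e.hom), comp_zero]; exact h.2 n _⟩
  have hS' : CoclosedClass.{w} S' := by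
    refine ⟨hiso, fun κ Y hY => ⟨hS.sigma κ Y fun k => (hY k).1, fun n φ => ?_⟩,
      fun T hT' h₁ h₂ => ⟨hS.cone T hT' h₁.1 h₂.1, fun n φ => ?_⟩⟩
    · let adj := (shiftEquiv D n).toAdjunction
      refine (adj.homEquiv _ _).injective (Sigma.hom_ext _ _ fun k => ?_)
      rw [← adj.homEquiv_naturality_left, ← adj.homEquiv_naturality_left]
      exact congrArg (adj.homEquiv _ _) (((hY k).2 n _).trans ((hY k).2 n _).symm)
    · have hT'' := Triangle.shift_distinguished T hT' n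
      have hz : ((CategoryTheory.Pretriangulated.Triangle.shiftFunctor D n).obj T).mor₂ ≫ φ = 0 := h₂.2 n _
      have hex : ∃ g : (T.obj₁⟦n⟧)⟦(1 : ℤ)⟧ ⟶ C,
          φ = ((CategoryTheory.Pretriangulated.Triangle.shiftFunctor D n).obj T).mor₃ ≫ g :=
        Triangle.yoneda_exact₃ _ hT'' φ hz
      obtain ⟨g, rfl⟩ := hex
      have hg : g = 0 := by
        rw [← cancel_epi ((shiftFunctorAdd D n (1 : ℤ)).hom.app T.obj₁), comp_zero]
        exact h₁.2 (n + 1) _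
      rw [hg, comp_zero]
  have hP' : ∀ n : ℤ, S' (P⟦n⟧) := fun n => ⟨hP n, fun m φ => by
    rw [← cancel_epi ((shiftFunctorAdd D n m).hom.app P), comp_zero]
    exact eq_zero_of_bijective hT hε (n + m) _⟩
  have hall : ∀ Q, S Q → S' Q := fun Q hQ => by
    obtain ⟨Q', e, hQ', he⟩ := exists_tower_obj P hS' hP' (fun n X hX => hfin n X fun k => (hX k).1) Q
    obtain ⟨Z, a, b, hTe⟩ := distinguished_cocone_triangle e
    have hZ : IsZero Z := hgen Z (hS.cone _ hTe hQ'.1 hQ) (eq_zero_of_bijective hTe he)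
    haveI : IsIso e := (Triangle.isZero₃_iff_isIso₁ _ hTe).1 hZ
    exact hiso (asIso e) hQ'
  refine ⟨N, ε, hN, fun Q hQ => ⟨fun f g hfg => ?_, fun f => ?_⟩⟩
  · have hex : ∃ z : Q ⟶ C⟦(-1 : ℤ)⟧, f - g = z ≫ (Triangle.mk ε q r).invRotate.mor₁ :=
      Triangle.coyoneda_exact₂ _ (inv_rot_of_distTriang _ hT) (f - g)
        (show (f - g) ≫ ε = 0 by rw [Preadditive.sub_comp]; exact sub_eq_zero.2 hfg)
    obtain ⟨z, hz⟩ := hex
    have hz0 : z = 0 := (shiftFunctor D (1 : ℤ)).map_injective (by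
      rw [Functor.map_zero, ← cancel_mono ((shiftFunctorCompIsoId D (-1 : ℤ) 1 (by omega)).hom.app C), zero_comp]
      exact (hall Q hQ).2 1 _)
    rw [hz0, zero_comp, sub_eq_zero] at hz
    exact hz
  · have h0 : f ≫ q = 0 := by
      rw [← cancel_epi ((shiftFunctorZero D ℤ).hom.app Q), comp_zero]
      exact (hall Q hQ).2 0 _
    obtain ⟨z, hz⟩ := Triangle.coyoneda_exact₂ _ hT f h0
    exact ⟨z, hz.symm⟩

end Groth.Agent.DGen9
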