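import Groth.Agent.Lib.DGen9.GlobalTor
import Groth.Agent.Lib.RelPC8.BaseChange
import Groth.Agent.Lib.DBaseChange.ResLocal
import Groth.Agent.Lib.DBaseChange.TorDescent
import Groth.Agent.Lib.DGen9.RelAmpBC
import Mathlib.RingTheory.TensorProduct.MvPolynomial
import Mathlib.RingTheory.LocalRing.ResidueField.Ideal

/-!
Exactness on point fibres from exactness on fibres of the structure map.
-/

set_option autoImplicit false
set_option linter.style.haveILetI false
set_option backward.isDefEq.respectTransparency false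
set_option backward.isDefEq.respectTransparency.types false

universe u

open CategoryTheory CategoryTheory.Limits TensorProduct

attribute [local instance] HasDerivedCategory.standard

namespace Groth.Agent.RelT

open DMod RelPC8

/-- Base change along a pushout preserves quasi-isomorphisms of complexes flat over the base. -/
theorem quasiIso_bc {R A R' A' : Type u} [CommRing R] [CommRing A] [CommRing R'] [CommRing A']
    [Algebra R A] [Algebra R R'] [Algebra R A'] [Algebra A A'] [Algebra R' A'] [IsScalarTower R R' A']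
    [IsScalarTower R A A'] [Algebra.IsPushout R R' A A'] {K L : DRing.Cx A} (g : K ⟶ L) [QuasiIso g] (b : ℤ)
    [K.IsStrictlyLE b] [L.IsStrictlyLE b]
    (hK : ∀ i, Module.Flat R (((DRing.restrictCx (algebraMap R A)).obj K).X i))
    (hL : ∀ i, Module.Flat R (((DRing.restrictCx (algebraMap R A)).obj L).X i)) :
    QuasiIso ((eCx (algebraMap A A')).map g) := by
  let r := ModuleCat.restrictScalars.{u} (algebraMap R A)
  let Kr := (DRing.restrictCx (algebraMap R A)).obj K
  let Lr := (DRing.restrictCx (algebraMap R A)).obj L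
  haveI : Kr.IsStrictlyLE b := (CochainComplex.isStrictlyLE_iff _ b).2 fun i hi =>
    r.map_isZero (K.isZero_of_isStrictlyLE b i hi)
  haveI : Lr.IsStrictlyLE b := (CochainComplex.isStrictlyLE_iff _ b).2 fun i hi =>
    r.map_isZero (L.isZero_of_isStrictlyLE b i hi)
  haveI : QuasiIso ((DRing.restrictCx (algebraMap R A)).map g) :=
    inferInstanceAs (QuasiIso ((r.mapHomologicalComplex (ComplexShape.up ℤ)).map g))
  have h1 : QuasiIso ((eCx (algebraMap R R')).map ((DRing.restrictCx (algebraMap R A)).map g)) :=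
    KFlat.Module.quasiIso_extendScalars_map _ _
      (KFlat.isKFlat_of_boundedAbove_flat Kr b fun i => (KFlat.Module.isFlat_iff _).2 (hK i))
      (KFlat.isKFlat_of_boundedAbove_flat Lr b fun i => (KFlat.Module.isFlat_iff _).2 (hL i))
  refine quasiIso_of_restrict (algebraMap R' A') _ ?_
  rw [← Iso.inv_hom_id_assoc (sqIso R R' A A' K)
    ((DRing.restrictCx (algebraMap R' A')).map ((eCx (algebraMap A A')).map g)), ← sqIso_natural]
  infer_instance

theorem isZero_ext_of_kill {P L : Type u} [CommRing P] [CommRing L] (φ : P →+* L) (H : ModuleCat.{u} P)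
    (h : ∀ z : H, ∃ x, IsUnit (φ x) ∧ x • z = 0) : IsZero ((eS φ).obj H) := by
  letI := φ.toAlgebra
  apply @ModuleCat.isZero_of_subsingleton _ _ _ ?_
  show Subsingleton (L ⊗[P] H)
  refine subsingleton_of_forall_eq 0 fun z => ?_
  induction z using TensorProduct.induction_on with
  | zero => rfl
  | add x y hx hy => rw [hx, hy, add_zero]
  | tmul s z =>
    obtain ⟨x, hx, hxz⟩ := h z
    obtain ⟨v, hv⟩ := hx.exists_left_inv
    have hs : s = x • (s * v) := by
      rw [Algebra.smul_def, RingHom.algebraMap_toAlgebra, mul_comm s v, ← mul_assoc, mul_comm _ v, hv, one_mul]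
    rw [hs, TensorProduct.smul_tmul, hxz, TensorProduct.tmul_zero]

theorem flat_ext_terms {P L : Type u} [CommRing P] [CommRing L] (φ : P →+* L) (Q : DRing.Cx P)
    (h : ∀ i, Module.Flat P (Q.X i)) (i : ℤ) : Module.Flat L (((eCx φ).obj Q).X i) :=
  have := h i
  DBaseChange.flat_ext_of_flat φ (Q.X i)

theorem exact_lTensor_of_exactAt {P K : Type u} [CommRing P] [CommRing K] [I : Algebra P K] (φ : P →+* K)
    (h : I = φ.toAlgebra) (Q : DRing.Cx P) (l : ℤ) (h3 : ((eCx φ).obj Q).ExactAt l) :
    Function.Exact ((Q.d (l - 1) l).hom.lTensor K) ((Q.d l (l + 1)).hom.lTensor K) := by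
  subst h
  rw [HomologicalComplex.exactAt_iff' _ (l - 1) l (l + 1) (by simp) (by simp),
    ShortComplex.ShortExact.moduleCat_exact_iff_function_exact] at h3
  exact h3

variable {R A κ : Type u} [CommRing R] [CommRing A] [Field κ] [Algebra R κ] [Algebra R A] [Module.Flat R A] {n : ℕ}

/-- A power of a non-vanishing element killing the fibre cohomology gives exactness at the point. -/
theorem exact_fibre_point [Algebra (MvPolynomial (Fin n) R) A] [IsScalarTower R (MvPolynomial (Fin n) R) A]
    {C : Type u} [CommRing C] [Algebra A C] [Algebra (MvPolynomial (Fin n) κ) C]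
    [Algebra (MvPolynomial (Fin n) R) C] [IsScalarTower (MvPolynomial (Fin n) R) A C]
    (hpush : letI := (MvPolynomial.map (σ := Fin n) (algebraMap R κ)).toAlgebra;
      ∃ (_ : IsScalarTower (MvPolynomial (Fin n) R) (MvPolynomial (Fin n) κ) C),
        Algebra.IsPushout (MvPolynomial (Fin n) R) (MvPolynomial (Fin n) κ) A C)
    (F : DRing.Cx A) (Q : DRing.Cx (MvPolynomial (Fin n) R)) (b : ℤ) [F.IsStrictlyLE b] [Q.IsStrictlyLE b]
    (hF : ∀ i, Module.Flat A (F.X i)) (hQ : ∀ i, Module.Flat (MvPolynomial (Fin n) R) (Q.X i))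
    (g : Q ⟶ (DRing.restrictCx (algebraMap (MvPolynomial (Fin n) R) A)).obj F) [QuasiIso g]
    (q : Ideal (MvPolynomial (Fin n) R)) [q.IsPrime] (χ : MvPolynomial (Fin n) κ →+* q.ResidueField)
    (hχ : χ.comp (MvPolynomial.map (algebraMap R κ)) = algebraMap _ q.ResidueField)
    (h0 : MvPolynomial (Fin n) R) (hh0 : h0 ∉ q) (a : ℤ)
    (hkill : ∀ i, i < a → ∀ z : ((eCx (algebraMap A C)).obj F).homology i,
      ∃ m : ℕ, (algebraMap (MvPolynomial (Fin n) R) C h0) ^ m • z = 0) :
    ∀ l, l < a - n → Function.Exact ((Q.d (l - 1) l).hom.lTensor q.ResidueField)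
      ((Q.d l (l + 1)).hom.lTensor q.ResidueField) := by
  intro l hl
  let P := MvPolynomial (Fin n) R
  let Pκ := MvPolynomial (Fin n) κ
  letI algPP : Algebra P Pκ := (MvPolynomial.map (σ := Fin n) (algebraMap R κ)).toAlgebra
  obtain ⟨_, _⟩ := hpush
  haveI : IsScalarTower R P Pκ := IsScalarTower.of_algebraMap_eq fun r => by
    show MvPolynomial.C (algebraMap R κ r) = MvPolynomial.map (algebraMap R κ) (MvPolynomial.C r)
    rw [MvPolynomial.map_C]
  haveI : Algebra.IsPushout R κ P Pκ := inferInstanceAs (Algebra.IsPushout R κ (MvPolynomial (Fin n) R) (MvPolynomial (Fin n) κ))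
  let u : Pκ := algebraMap P Pκ h0
  have hu : χ u ≠ 0 := by
    rw [show χ u = algebraMap P q.ResidueField h0 from RingHom.congr_fun hχ h0, Ne,
      Ideal.algebraMap_residueField_eq_zero]
    exact hh0
  let L := Localization.Away u
  let χL : L →+* q.ResidueField := IsLocalization.Away.lift u (isUnit_iff_ne_zero.2 hu)
  let W₀ := (DRing.restrictCx (algebraMap P A)).obj F
  haveI : W₀.IsStrictlyLE b := (CochainComplex.isStrictlyLE_iff _ b).2 fun i hi =>
    (ModuleCat.restrictScalars.{u} (algebraMap P A)).map_isZero (F.isZero_of_isStrictlyLE b i hi)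
  haveI hg : QuasiIso ((eCx (algebraMap P Pκ)).map g) := by
    refine quasiIso_bc (R := R) (R' := κ) g b (fun i => ?_) fun i => ?_
    · haveI := hQ i
      letI : Module R (Q.X i) := Module.compHom _ (algebraMap R P)
      haveI : IsScalarTower R P (Q.X i) := ⟨fun r x z => by
        show (r • x) • z = algebraMap R P r • (x • z)
        rw [Algebra.smul_def, mul_smul]⟩
      exact Module.Flat.trans R P (Q.X i)
    · haveI := hF i
      letI : Module R (F.X i) := Module.compHom _ ((algebraMap P A).comp (algebraMap R P))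
      haveI : IsScalarTower R A (F.X i) := ⟨fun r x z => by
        show (r • x) • z = (algebraMap P A (algebraMap R P r)) • (x • z)
        rw [Algebra.smul_def, mul_smul, IsScalarTower.algebraMap_apply R P A]⟩
      exact Module.Flat.trans R A (F.X i)
  let Y₀ := (eCx (algebraMap P Pκ)).obj Q
  haveI : Module.Flat Pκ L := IsLocalization.flat L (Submonoid.powers u)
  have hY : ∀ i, i < a → ((eCx (algebraMap Pκ L)).obj Y₀).ExactAt i := fun i hi => by
    rw [HomologicalComplex.exactAt_iff_isZero_homology]
    have hG := preservesHomology_eS (P := Pκ) (P' := L)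
    let eW : Y₀.homology i ≅ (ModuleCat.restrictScalars.{u} (algebraMap Pκ C)).obj
        (((eCx (algebraMap A C)).obj F).homology i) :=
      isoOfQuasiIsoAt ((eCx (algebraMap P Pκ)).map g) i ≪≫
        (HomologicalComplex.homologyFunctor _ _ i).mapIso (sqIso P Pκ A C F) ≪≫
        ((((eCx (algebraMap A C)).obj F).sc i).mapHomologyIso (ModuleCat.restrictScalars.{u} (algebraMap Pκ C)))
    refine IsZero.of_iso ?_ (((Y₀.sc i).mapHomologyIso (eS (algebraMap Pκ L))) ≪≫ (eS (algebraMap Pκ L)).mapIso eW)
    refine isZero_ext_of_kill _ _ fun z => ?_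
    obtain ⟨m, hm⟩ := hkill i hi z
    refine ⟨u ^ m, IsLocalization.map_units L (⟨u ^ m, ⟨m, rfl⟩⟩ : Submonoid.powers u), ?_⟩
    refine Eq.trans ?_ hm
    show algebraMap Pκ C (u ^ m) • z = _
    rw [map_pow, ← IsScalarTower.algebraMap_apply]
  let YL := (eCx (algebraMap Pκ L)).obj Y₀
  haveI : YL.IsStrictlyLE b := (CochainComplex.isStrictlyLE_iff _ b).2 fun i hi =>
    (eS (algebraMap Pκ L)).map_isZero ((eS (algebraMap P Pκ)).map_isZero (Q.isZero_of_isStrictlyLE b i hi))
  have hd : ∀ (M : Type u) [AddCommGroup M] [Module L M], DRing.HasTorDimLE L n M := fun M _ _ => by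
    letI : Module Pκ M := Module.compHom M (algebraMap Pκ L)
    haveI : IsScalarTower Pκ L M := IsScalarTower.of_algebraMap_smul fun _ _ => rfl
    letI : Module κ M := Module.compHom M (algebraMap κ Pκ)
    haveI : IsScalarTower κ Pκ M := IsScalarTower.of_algebraMap_smul fun _ _ => rfl
    refine torDim_of_isLocalization (R := Pκ) (Submonoid.powers u) n M ?_
    simpa using CI2.torDim_mvPolynomial n 0 M (torDim_field κ M)
  have h1 := exactAt_tm_of_torDim n hd YL b (flat_ext_terms _ Y₀ (flat_ext_terms _ Q hQ)) a hY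
    (DBaseChange.algMod χL) hl
  have hfac : (χL.comp (algebraMap Pκ L)).comp (algebraMap P Pκ) = algebraMap P q.ResidueField := by
    rw [IsLocalization.Away.lift_comp]; exact hχ
  have h2 : ((eCx χL).obj YL).ExactAt l := by
    rw [HomologicalComplex.exactAt_iff] at h1 ⊢
    refine (ShortComplex.exact_map_iff_of_faithful _ (ModuleCat.restrictScalars.{u} χL)).1 ?_
    exact (ShortComplex.exact_iff_of_iso ((YL.sc l).mapNatIso
      (DBaseChange.resExtIso (RingHom.id L) χL χL (RingHom.comp_id χL).symm))).2
      (h1.map (ModuleCat.restrictScalars.{u} (RingHom.id L)))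
  have h3 : ((eCx (algebraMap P q.ResidueField)).obj Q).ExactAt l := by
    rw [← hfac]
    refine (HomologicalComplex.exactAt_iff_isZero_homology _ _).2 (IsZero.of_iso
      ((HomologicalComplex.exactAt_iff_isZero_homology _ _).1 h2) ((HomologicalComplex.homologyFunctor _ _ l).mapIso
        ((NatIso.mapHomologicalComplex
          (ModuleCat.extendScalarsComp.{u} (algebraMap P Pκ) (χL.comp (algebraMap Pκ L)) ≪≫
            Functor.isoWhiskerLeft (eS (algebraMap P Pκ)) (ModuleCat.extendScalarsComp.{u} (algebraMap Pκ L) χL))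
          (ComplexShape.up ℤ)).app Q)))
  refine @exact_lTensor_of_exactAt P q.ResidueField _ _ _ (algebraMap P q.ResidueField) ?_ Q l h3
  exact Algebra.algebra_ext _ _ fun _ => rfl

end Groth.Agent.RelT
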