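import Groth.Agent.Lib.DGen9.NearPerfect
import Groth.Agent.Lib.DGen9.FibreExact
import Groth.Agent.Lib.DBaseChange.ResPC
import Groth.Agent.Lib.PCMor4.BaseChange
import Groth.Agent.Lib.RelPC8.Via

/-!
Finite tor dimension over the base from bounded fibres.
-/

set_option autoImplicit false
set_option linter.style.haveILetI false
set_option backward.isDefEq.respectTransparency false
set_option backward.isDefEq.respectTransparency.types false

universe u

open CategoryTheory CategoryTheory.Limits TensorProduct MonoidalCategory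

attribute [local instance] HasDerivedCategory.standard

namespace Groth.Agent.RelT

open DMod

/-- Tensoring with a flat module preserves quasi-isomorphisms. -/
theorem quasiIso_tm_flat {P : Type u} [CommRing P] (N : ModuleCat.{u} P) [Module.Flat P N] {K L : DRing.Cx P}
    (g : K ⟶ L) [QuasiIso g] : QuasiIso ((DBaseChange.tm N).map g) := by
  haveI : (tensorRight N).PreservesMonomorphisms := ⟨fun {X Y} f _ =>
    (ModuleCat.mono_iff_injective _).2 (Module.Flat.rTensor_preserves_injective_linearMap (M := N) f.hom
      ((ModuleCat.mono_iff_injective f).1 inferInstance))⟩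
  haveI := Functor.preservesHomology_of_preservesMonos_and_cokernels (tensorRight N)
  exact inferInstanceAs (QuasiIso (((tensorRight N).mapHomologicalComplex (ComplexShape.up ℤ)).map g))

/-- A module killed by a unit disappears. -/
theorem isZero_tm_res {P A : Type u} [CommRing P] [CommRing A] (π : P →+* A) (h : P) (hh : π h = 0)
    (X : ModuleCat.{u} A) :
    IsZero ((tensorRight (DBaseChange.algMod (algebraMap P (Localization.Away h)))).obj
      ((ModuleCat.restrictScalars.{u} π).obj X)) := by
  apply @ModuleCat.isZero_of_subsingleton _ _ _ ?_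
  refine subsingleton_of_forall_eq 0 fun (z : ((ModuleCat.restrictScalars.{u} π).obj X) ⊗[P]
    (DBaseChange.algMod (algebraMap P (Localization.Away h)))) => ?_
  induction z using TensorProduct.induction_on with
  | zero => rfl
  | add x y hx hy => rw [hx, hy]; exact add_zero _
  | tmul x s =>
    obtain ⟨v, hv⟩ := (IsLocalization.Away.algebraMap_isUnit (S := Localization.Away h) h).exists_right_inv
    have hs : s = h • (show DBaseChange.algMod (algebraMap P (Localization.Away h)) from
        (v * (show Localization.Away h from s) : Localization.Away h)) := by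
      show (show Localization.Away h from s) = algebraMap P (Localization.Away h) h * (v * _)
      rw [← mul_assoc, hv, one_mul]
    rw [hs, ← TensorProduct.smul_tmul]
    have : h • x = 0 := by
      show π h • (show X from x) = 0
      rw [hh, zero_smul]
    rw [this, TensorProduct.zero_tmul]

variable {R A : Type u} [CommRing R] [CommRing A] [Algebra R A] [Module.Flat R A] [Algebra.FinitePresentation R A]

/-- Bounded below with bounded below fibres gives finite tor dimension over the base. -/
theorem exists_amp_of_fibres (F : DRing.Cx A) (b : ℤ) [F.IsStrictlyLE b]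
    (hF : ∀ i, Module.Finite A (F.X i) ∧ Module.Free A (F.X i)) (a : ℤ) (hex : ∀ i, i < a → F.ExactAt i)
    (hfib : ∀ (q : Ideal A) [q.IsPrime], ∃ (a' : ℤ) (g₀ : A), g₀ ∉ q ∧ ∀ i, i < a' →
      ∀ z : ((RelPC8.eCx (algebraMap A (A ⊗[R] (q.comap (algebraMap R A)).ResidueField))).obj F).homology i,
        ∃ m : ℕ, (algebraMap A (A ⊗[R] (q.comap (algebraMap R A)).ResidueField) g₀) ^ m • z = 0) :
    ∃ a₀ b₀ : ℤ, DRing.HasTorAmplitudeIn R a₀ b₀ (DRing.toD ((DRing.restrictCx (algebraMap R A)).obj F)) := by
  obtain ⟨n, π, hπ⟩ := RelPC8.exists_presentation R A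
  let P := MvPolynomial (Fin n) R
  letI : Algebra P A := π.toRingHom.toAlgebra
  haveI : IsScalarTower R P A := IsScalarTower.of_algebraMap_eq fun r => (π.commutes r).symm
  have hπ' : Function.Surjective (algebraMap P A) := hπ
  have hflat : (algebraMap R A).Flat := RingHom.flat_algebraMap_iff.2 inferInstance
  have hpcr : PCMor4.PCR (algebraMap P A) := PCMor4.pcr_of_pch
    (PCMor4.pfh_of_flat (algebraMap R A) hflat (RingHom.finitePresentation_algebraMap.2 inferInstance)).1
    (algebraMap P A) hπ (RingHom.ext fun r => π.commutes r)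
  have hmod : DRing.IsPseudoCoherentModule' P A := by
    refine PCMor4.pc'_iff_PCn.2 fun k => ?_
    have h := hpcr k
    have e : (algebraMap P A).toAlgebra = (inferInstance : Algebra P A) := Algebra.algebra_ext _ _ fun _ => rfl
    rw [e] at h
    exact h
  have hFpc : DRing.IsPseudoCoherent' A (DRing.toD F) :=
    ⟨F, b, (DMod.vanishesAbove_iff F b).2 inferInstance, hF, ⟨Iso.refl _⟩⟩
  obtain ⟨Q, bQ, hQb, hQ, ⟨eQ⟩⟩ := (DBaseChange.pc'_res_iff hmod _).1 hFpc
  haveI := (DMod.vanishesAbove_iff Q bQ).1 hQb
  let r := ModuleCat.restrictScalars.{u} (algebraMap P A)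
  let W := (DRing.restrictCx (algebraMap P A)).obj F
  have hQp : ∀ i, Module.Projective P (Q.X i) := fun i => have := (hQ i).2; inferInstance
  haveI := DMod.isKProjective bQ hQp
  obtain ⟨g, hg⟩ := DMod.exists_map_eq (eQ.hom ≫ (r.mapDerivedCategoryFactors.app F).hom)
  haveI : IsIso (DerivedCategory.Q.map g) := by rw [hg]; infer_instance
  haveI : QuasiIso g := (DerivedCategory.isIso_Q_map_iff_quasiIso (C := ModuleCat.{u} P) _).1 inferInstance
  let c := max b bQ
  haveI : Q.IsStrictlyLE c := Q.isStrictlyLE_of_le bQ c (le_max_right _ _)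
  haveI : F.IsStrictlyLE c := F.isStrictlyLE_of_le b c (le_max_left _ _)
  have hQflat : ∀ i, Module.Flat P (Q.X i) := fun i => have := hQp i; inferInstance
  have hFflat : ∀ i, Module.Flat A (F.X i) := fun i => have := (hF i).2; inferInstance
  have hQex : ∀ l, l < a → Function.Exact (Q.d (l - 1) l).hom (Q.d l (l + 1)).hom := fun l hl => by
    have h1 : Q.ExactAt l := (exactAt_iff_of_quasiIsoAt g l).2
      (by
        have := hex l hl
        rw [HomologicalComplex.exactAt_iff] at this ⊢
        exact this.map r)
    rw [HomologicalComplex.exactAt_iff' _ (l - 1) l (l + 1) (by simp) (by simp),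
      ShortComplex.ShortExact.moduleCat_exact_iff_function_exact] at h1
    exact h1
  haveI : Module.Flat R P := inferInstanceAs (Module.Flat R (MvPolynomial (Fin n) R))
  have hres : DRing.HasTorAmplitudeIn R (-((0 : ℕ) : ℤ)) 0 (Dual.inD R P) :=
    TorBal.amplitude_of_hasTorDimLE _ 0 ((TorBal.flat_iff_hasTorDimLE_zero _).2 inferInstance)
  have hloc : ∀ q : PrimeSpectrum P, ∃ (h : P) (a₀ : ℤ), h ∉ q.asIdeal ∧
      DRing.HasTorAmplitudeIn P a₀ c
        (DRing.toD ((DBaseChange.tm (DBaseChange.algMod (algebraMap P (Localization.Away h)))).obj Q)) := by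
    intro q
    by_cases hker : RingHom.ker (algebraMap P A) ≤ q.asIdeal
    · let qA := q.asIdeal.map (algebraMap P A)
      haveI : qA.IsPrime := Ideal.map_isPrime_of_surjective hπ' hker
      have hqA : qA.comap (algebraMap P A) = q.asIdeal := by
        rw [Ideal.comap_map_of_surjective' _ hπ', sup_eq_left.2 hker]
      obtain ⟨a', g₀, hg₀, hkill⟩ := hfib qA
      obtain ⟨h0, hh0⟩ := hπ g₀
      let p := qA.comap (algebraMap R A)
      let κ := p.ResidueField
      let C := A ⊗[R] κ
      let Pκ := MvPolynomial (Fin n) κ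
      letI algPP : Algebra P Pκ := (MvPolynomial.map (σ := Fin n) (algebraMap R κ)).toAlgebra
      letI : Algebra κ C := Algebra.TensorProduct.rightAlgebra
      letI : Algebra Pκ C := (MvPolynomial.eval₂Hom (algebraMap κ C) fun i => algebraMap A C (π (MvPolynomial.X i))).toAlgebra
      haveI : IsScalarTower P A C := inferInstance
      haveI : IsScalarTower R κ C := IsScalarTower.of_algebraMap_eq fun r => Algebra.TensorProduct.includeRight.commutes r |>.symm
      haveI : IsScalarTower P Pκ C := IsScalarTower.of_algebraMap_eq' (by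
        refine MvPolynomial.ringHom_ext (fun r => ?_) fun i => ?_
        · show algebraMap A C (π (MvPolynomial.C r)) =
            MvPolynomial.eval₂Hom (algebraMap κ C) _ (MvPolynomial.map (algebraMap R κ) (MvPolynomial.C r))
          rw [MvPolynomial.map_C, MvPolynomial.eval₂Hom_C, ← IsScalarTower.algebraMap_apply R κ C,
            show π (MvPolynomial.C r) = algebraMap R A r from π.commutes r, ← IsScalarTower.algebraMap_apply]
        · show algebraMap A C (π (MvPolynomial.X i)) =
            MvPolynomial.eval₂Hom (algebraMap κ C) _ (MvPolynomial.map (algebraMap R κ) (MvPolynomial.X i))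
          rw [MvPolynomial.map_X, MvPolynomial.eval₂Hom_X'])
      haveI : IsScalarTower κ Pκ C := IsScalarTower.of_algebraMap_eq fun x => (MvPolynomial.eval₂Hom_C _ _ x).symm
      haveI : IsScalarTower R P Pκ := IsScalarTower.of_algebraMap_eq fun r => by
        show MvPolynomial.C (algebraMap R κ r) = MvPolynomial.map (algebraMap R κ) (MvPolynomial.C r)
        rw [MvPolynomial.map_C]
      haveI : Algebra.IsPushout R κ P Pκ := inferInstanceAs (Algebra.IsPushout R κ (MvPolynomial (Fin n) R) (MvPolynomial (Fin n) κ))
      haveI : Algebra.IsPushout R A κ C := inferInstanceAs (Algebra.IsPushout R A κ (A ⊗[R] κ))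
      haveI : Algebra.IsPushout R P κ Pκ := Algebra.IsPushout.symm inferInstance
      haveI : IsScalarTower R Pκ C := IsScalarTower.of_algebraMap_eq fun r => by
        rw [IsScalarTower.algebraMap_apply R κ Pκ, ← IsScalarTower.algebraMap_apply κ Pκ C, ← IsScalarTower.algebraMap_apply]
      haveI : Algebra.IsPushout P A Pκ C := (Algebra.IsPushout.comp_iff (R := R) (S := P) (T := A) (R' := κ) (S' := Pκ) (T' := C)).1 inferInstance
      have hpush : Algebra.IsPushout P Pκ A C := Algebra.IsPushout.symm inferInstance
      let χ : Pκ →+* q.asIdeal.ResidueField := MvPolynomial.eval₂Hom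
        (Ideal.ResidueField.map p q.asIdeal (algebraMap R P) (by
          show qA.comap (algebraMap R A) = q.asIdeal.comap (algebraMap R P)
          rw [← hqA, Ideal.comap_comap, ← IsScalarTower.algebraMap_eq]))
        fun i => algebraMap P q.asIdeal.ResidueField (MvPolynomial.X i)
      have hχ : χ.comp (MvPolynomial.map (algebraMap R κ)) = algebraMap P q.asIdeal.ResidueField := by
        refine MvPolynomial.ringHom_ext (fun r => ?_) fun i => ?_
        · rw [RingHom.comp_apply, MvPolynomial.map_C, MvPolynomial.eval₂Hom_C, Ideal.ResidueField.map_algebraMap]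
          rfl
        · rw [RingHom.comp_apply, MvPolynomial.map_X, MvPolynomial.eval₂Hom_X']
      have hh0q : h0 ∉ q.asIdeal := fun hm => hg₀ (hh0 ▸ Ideal.mem_map_of_mem _ hm)
      have hfx := exact_fibre_point (R := R) (A := A) (κ := κ) (n := n) (C := C) ⟨inferInstance, hpush⟩ F Q c
        hFflat hQflat g q.asIdeal χ hχ h0 hh0q a' fun i hi z => by
          obtain ⟨m, hm⟩ := hkill i hi z
          exact ⟨m, by
            rw [IsScalarTower.algebraMap_apply P A C, show algebraMap P A h0 = g₀ from hh0]; exact hm⟩
      obtain ⟨h, hh, hamp⟩ := exists_amp_near Q c hQ (min a (a' - n))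
        (fun l hl => hQex l (lt_of_lt_of_le hl (min_le_left _ _))) q.asIdeal
        (fun l hl => hfx l (lt_of_lt_of_le hl (min_le_right _ _)))
      exact ⟨h, _, hh, hamp⟩
    · obtain ⟨h, hk, hh⟩ := SetLike.not_le_iff_exists.1 hker
      let Nh := DBaseChange.algMod (algebraMap P (Localization.Away h))
      haveI : Module.Flat P Nh :=
        DBaseChange.flat_algMod _ (RingHom.flat_algebraMap_iff.2 (IsLocalization.flat _ (Submonoid.powers h)))
      haveI := quasiIso_tm_flat Nh g
      haveI : IsIso (DerivedCategory.Q.map ((DBaseChange.tm Nh).map g)) :=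
        (DerivedCategory.isIso_Q_map_iff_quasiIso (C := ModuleCat.{u} P) _).2 inferInstance
      refine ⟨h, 0, hh, DBaseChange.hasTorAmplitudeIn_of_isZero ?_ _ _⟩
      refine IsZero.of_iso ?_ (asIso (DerivedCategory.Q.map ((DBaseChange.tm Nh).map g)))
      refine DerivedCategory.Q.map_isZero ?_
      rw [IsZero.iff_id_eq_zero]
      ext i : 1
      exact (isZero_tm_res (algebraMap P A) h (RingHom.mem_ker.1 hk) (F.X i)).eq_of_src _ _
  choose h a₀ hh hA using hloc
  obtain ⟨t, ht⟩ := (CompactSpace.isCompact_univ (X := PrimeSpectrum P)).elim_finite_subcover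
    (fun x => (PrimeSpectrum.basicOpen (h x)).carrier) (fun x => (PrimeSpectrum.basicOpen (h x)).isOpen)
    (fun x _ => Set.mem_iUnion.2 ⟨x, hh x⟩)
  obtain ⟨a₁, ha₁⟩ := Finset.bddBelow (t.image a₀)
  haveI : ∀ x : {x // x ∈ t}, Module.Flat P (DBaseChange.algMod (algebraMap P (Localization.Away (h x.1)))) :=
    fun x => DBaseChange.flat_algMod _ (RingHom.flat_algebraMap_iff.2 (IsLocalization.flat _ (Submonoid.powers (h x.1))))
  have hQamp : DRing.HasTorAmplitudeIn R a₁ c (DRing.toD ((DRing.restrictCx (algebraMap R P)).obj Q)) := by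
    refine DBaseChange.torAmp_res_of_cover (algebraMap R P) Q
      (fun x : {x // x ∈ t} => DBaseChange.algMod (algebraMap P (Localization.Away (h x.1))))
      (fun x => DBaseChange.algUnit (algebraMap P (Localization.Away (h x.1)))) (fun I hI => ?_) fun x => ?_
    · by_contra hne
      obtain ⟨m, hm, hle⟩ := Ideal.exists_le_maximal I fun e => hne (e ▸ Submodule.mem_top)
      obtain ⟨x, hxt, hmx⟩ := Set.mem_iUnion₂.1 (ht (Set.mem_univ (⟨m, hm.isPrime⟩ : PrimeSpectrum P)))
      have h1 := hI ⟨x, hxt⟩
      rw [DBaseChange.algUnit_one] at h1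
      have h2 := (Ideal.map_mono hle) (DBaseChange.mem_of_one_mem_smul_top h1)
      obtain ⟨y, hy⟩ := (PrimeSpectrum.localization_away_comap_range (Localization.Away (h x)) (h x)).ge hmx
      exact y.isPrime.ne_top ((Ideal.eq_top_iff_one _).2
        (Ideal.map_le_iff_le_comap.2 (congrArg PrimeSpectrum.asIdeal hy).ge h2))
    · have h1 := DBaseChange.hasTorAmplitudeIn_restrict hres _ _ _
        (DBaseChange.hasTorAmplitudeIn_mono (ha₁ (Finset.mem_image_of_mem a₀ x.2)) le_rfl (hA x.1))
      rw [Nat.cast_zero, sub_zero] at h1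
      exact DBaseChange.hasTorAmplitudeIn_of_iso
        ((ModuleCat.restrictScalars.{u} (algebraMap R P)).mapDerivedCategoryFactors.app _) h1
  refine ⟨a₁, c, DBaseChange.hasTorAmplitudeIn_of_iso ?_ hQamp⟩
  let rR := ModuleCat.restrictScalars.{u} (algebraMap R P)
  exact (rR.mapDerivedCategoryFactors.app Q).symm ≪≫ rR.mapDerivedCategory.mapIso (asIso (DerivedCategory.Q.map g)) ≪≫
    rR.mapDerivedCategoryFactors.app W ≪≫ DerivedCategory.Q.mapIso
      (((NatIso.mapHomologicalComplex (ModuleCat.restrictScalarsComp'.{u} (algebraMap R P) (algebraMap P A) (algebraMap R A)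
        (IsScalarTower.algebraMap_eq R P A)) (ComplexShape.up ℤ)).app F).symm)

end Groth.Agent.RelT
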