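import Groth.Agent.Lib.RelPCS8.Chart
import Groth.Agent.Lib.DBaseChange.ResPC
import Groth.Agent.Lib.DBC9.Good
import Groth.Agent.Lib.DBC9.Affine
import Groth.Agent.Lib.DGen9.GlobalApprox

/-! Pseudo-coherence and direct image along affine morphisms. -/

set_option autoImplicit false
set_option linter.unusedSectionVars false
set_option linter.style.haveILetI false
set_option backward.isDefEq.respectTransparency false
set_option backward.isDefEq.respectTransparency.types false
set_option maxHeartbeats 1600000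

universe u

open CategoryTheory CategoryTheory.Limits AlgebraicGeometry

attribute [local instance] HasDerivedCategory.standard

namespace Groth.Agent.DGen9

attribute [local instance] DBC9.hasRpush

variable {X Y : Scheme.{u}}

/-- The chart of an affine morphism over an affine open. -/
theorem isPullback_chart (f : X ⟶ Y) [IsAffineHom f] {V : Y.Opens} (hV : IsAffineOpen V) :
    IsPullback (Spec.map (f.app V)) (hV.preimage f).fromSpec hV.fromSpec f := by
  refine IsPullback.of_iso (isPullback_morphismRestrict f V) (hV.preimage f).isoSpec hV.isoSpec (Iso.refl _)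
    (Iso.refl _) ?_ ?_ ?_ ?_
  · rw [← cancel_mono hV.fromSpec, Category.assoc, Category.assoc, hV.isoSpec_hom_fromSpec]
    rw [Scheme.Hom.app_eq_appLE, hV.SpecMap_appLE_fromSpec f (hV.preimage f),
      IsAffineOpen.isoSpec_hom_fromSpec_assoc]
    exact morphismRestrict_ι f V
  · simp
  · simp
  · simp

/-- The sections of a pushed structure sheaf. -/
theorem pc_algebra_of_pc {A B : CommRingCat.{u}} (σ : A ⟶ B)
    (h : ∀ m : ℤ, DCoh.IsPseudoCoherentD m
      (DCoh.inD (Spec A) ((Scheme.Modules.pushforward (Spec.map σ)).obj (Coh.structureModule (Spec B))))) :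
    letI := σ.hom.toAlgebra
    DRing.IsPseudoCoherentModule' A B := by
  letI : Algebra A B := σ.hom.toAlgebra
  refine (DMod.pcModule'_iff B).2 fun m => ?_
  let F := (Scheme.Modules.pushforward (Spec.map σ)).obj (Coh.structureModule (Spec B))
  haveI hq : F.IsQuasicoherent := M1.isQCoh_push _ (M1.isQCoh_structureModule _)
  letI : Algebra A B := σ.hom.toAlgebra
  let M : ModuleCat.{u} A := (moduleSpecΓFunctor (R := A)).obj F
  let T : ↑B → ↑M := fun b => (Scheme.ΓSpecIso B).inv b
  let e : (B : Type u) ≃ₗ[A] M :=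
    LinearEquiv.ofBijective
      { toFun := T
        map_add' := fun a b => map_add (Scheme.ΓSpecIso B).inv.hom a b
        map_smul' := fun a b => by
          show T (a • b) = a • T b
          show (Scheme.ΓSpecIso B).inv (σ a * b) =
            (Spec.map σ).appTop ((Scheme.ΓSpecIso A).inv a) * (Scheme.ΓSpecIso B).inv b
          rw [map_mul, ← ConcreteCategory.comp_apply, ← ConcreteCategory.comp_apply,
            Scheme.ΓSpecIso_inv_naturality] }
      (ConcreteCategory.bijective_of_isIso (Scheme.ΓSpecIso B).inv)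
  let i := ((tilde.functor A).mapDerivedCategorySingleFunctor 0).app M ≪≫
    (DerivedCategory.singleFunctor (Spec A).Modules 0).mapIso
      (@asIso _ _ _ _ F.fromTildeΓ (Scheme.Modules.isIso_fromTildeΓ_of_isQuasicoherent (R := A) F))
  have h1 : DRing.IsPseudoCoherent A m (Dual.inD A M) := (DPerf.pc_tilde_iff m _).1
    (DPerf.isPseudoCoherentD_of_approx ((DPerf.approx_of_isPseudoCoherentD (h m)).of_iso i.symm))
  exact DMod.pc_of_iso ((DerivedCategory.singleFunctor (ModuleCat.{u} A) 0).mapIso e.toModuleIso).symm h1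

theorem pc_finitePush_iff (f : X ⟶ Y) [IsAffineHom f]
    (hO : ∀ m : ℤ, DCoh.IsPseudoCoherentD m (DCoh.inD Y ((Scheme.Modules.pushforward f).obj (Coh.structureModule X))))
    {E : DCoh.D X} (hE : DCoh.IsQCohD E) (m : ℤ) :
    DCoh.IsPseudoCoherentD m E ↔ DCoh.IsPseudoCoherentD m ((DCoh.Rpush f).obj E) := by
  have key : ∀ (V : Y.Opens) (hV : IsAffineOpen V),
      DCoh.IsPseudoCoherentD m ((DPerf.resD (hV.preimage f).fromSpec).obj E) ↔
        DCoh.IsPseudoCoherentD m ((DPerf.resD hV.fromSpec).obj ((DCoh.Rpush f).obj E)) := fun V hV => by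
    have H := isPullback_chart f hV
    let φ := f.app V
    letI := φ.hom.toAlgebra
    obtain ⟨M, ⟨i⟩⟩ := DQC.exists_iso_of_isQCohD _ (DQC.isQCohD_resD (hV.preimage f).fromSpec hE)
    obtain ⟨c⟩ := DBC9.nonempty_res_rpush f (Spec.map φ) hV.fromSpec (hV.preimage f).fromSpec H
    obtain ⟨cr⟩ := DPush9.nonempty_tildeD_rpush_iso φ
    let i' : (DPerf.tildeDD Γ(Y, V)).obj ((DRing.restrictD φ.hom).obj M) ≅
        (DPerf.resD hV.fromSpec).obj ((DCoh.Rpush f).obj E) :=
      (cr.app M).symm ≪≫ (DCoh.Rpush (Spec.map φ)).mapIso i ≪≫ (c.app E).symm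
    have hB : DRing.IsPseudoCoherentModule' Γ(Y, V) Γ(X, f ⁻¹ᵁ V) := pc_algebra_of_pc φ fun k =>
      DPerf.isPseudoCoherentD_of_approx ((DPerf.approx_of_isPseudoCoherentD (isPseudoCoherentD_resD hV.fromSpec (hO k))).of_iso
        (((Scheme.Modules.restrictFunctor hV.fromSpec).mapDerivedCategorySingleFunctor 0).app _ ≪≫
          (DerivedCategory.singleFunctor (Spec Γ(Y, V)).Modules 0).mapIso
            (M1.pushRestrictIso H (Coh.structureModule X) ≪≫ (Scheme.Modules.pushforward (Spec.map φ)).mapIso
              (Scheme.Modules.restrictUnitIso (hV.preimage f).fromSpec))))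
    have hiso : ∀ {Z : Scheme.{u}} {K L : DCoh.D Z} (e : K ≅ L), DCoh.IsPseudoCoherentD m K ↔ DCoh.IsPseudoCoherentD m L :=
      fun e => ⟨fun h => DPerf.isPseudoCoherentD_of_approx ((DPerf.approx_of_isPseudoCoherentD h).of_iso e),
        fun h => DPerf.isPseudoCoherentD_of_approx ((DPerf.approx_of_isPseudoCoherentD h).of_iso e.symm)⟩
    rw [← hiso i, ← hiso i', DPerf.pc_tilde_iff, DPerf.pc_tilde_iff]
    exact DBaseChange.pc_res_iff hB M m
  refine ⟨fun h => DPerf.isPseudoCoherentD_of_approx (RelPCS8.approx_of_cover fun y => ?_),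
    fun h => DPerf.isPseudoCoherentD_of_approx (RelPCS8.approx_of_cover fun x => ?_)⟩
  · obtain ⟨V, hV, hyV, -⟩ := exists_isAffineOpen_mem_and_subset (U := (⊤ : Y.Opens)) (x := y) trivial
    exact ⟨_, hV.fromSpec, inferInstance, by rw [hV.range_fromSpec]; exact hyV,
      DPerf.approx_of_isPseudoCoherentD ((key V hV).1 (isPseudoCoherentD_resD _ h))⟩
  · obtain ⟨V, hV, hyV, -⟩ := exists_isAffineOpen_mem_and_subset (U := (⊤ : Y.Opens)) (x := f x) trivial
    exact ⟨_, (hV.preimage f).fromSpec, inferInstance, by rw [(hV.preimage f).range_fromSpec]; exact hyV,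
      DPerf.approx_of_isPseudoCoherentD ((key V hV).2 (isPseudoCoherentD_resD _ h))⟩

end Groth.Agent.DGen9
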