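import Groth.Agent.Lib.DGen9.GlobalApprox
import Groth.Agent.Lib.DGen9.QCohAdj
import Groth.Agent.Lib.Hocolim29.Homological
import Groth.Agent.Lib.DPush.CoprodHom
import Groth.Prelude.Def_DerLim

/-! Pseudo-coherent objects are homotopy colimits of perfect ones, stabilising in each degree. -/

set_option autoImplicit false
set_option linter.unusedSectionVars false
set_option linter.style.haveILetI false
set_option backward.isDefEq.respectTransparency false
set_option backward.isDefEq.respectTransparency.types false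
set_option maxHeartbeats 1600000

universe u

open CategoryTheory CategoryTheory.Limits AlgebraicGeometry Pretriangulated DerivedCategory.TStructure

attribute [local instance] HasDerivedCategory.standard

namespace Groth.Agent.DGen9

variable {X : Scheme.{u}}

/-- An isomorphism on truncations is one on cohomology. -/
theorem isIso_truncGE_map_iff {A B : DCoh.D X} (φ : A ⟶ B) (a : ℤ) :
    IsIso ((t.truncGE a).map φ) ↔ ∀ j, a ≤ j → IsIso ((DerivedCategory.homologyFunctor X.Modules j).map φ) := by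
  have key : ∀ j, a ≤ j → (IsIso ((DerivedCategory.homologyFunctor X.Modules j).map ((t.truncGE a).map φ)) ↔
      IsIso ((DerivedCategory.homologyFunctor X.Modules j).map φ)) := fun j hj => by
    haveI := DerTrunc.isIso_homology_truncGEπ A a j hj
    haveI := DerTrunc.isIso_homology_truncGEπ B a j hj
    exact ((MorphismProperty.isomorphisms _).arrow_mk_iso_iff (Arrow.isoMk
      (asIso ((DerivedCategory.homologyFunctor X.Modules j).map ((t.truncGEπ a).app A)))
      (asIso ((DerivedCategory.homologyFunctor X.Modules j).map ((t.truncGEπ a).app B)))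
      (((DerivedCategory.homologyFunctor X.Modules j).map_comp _ _).symm.trans
        ((congrArg (DerivedCategory.homologyFunctor X.Modules j).map ((t.truncGEπ a).naturality φ).symm).trans
          ((DerivedCategory.homologyFunctor X.Modules j).map_comp _ _))))).symm
  refine ⟨fun h j hj => (key j hj).1 (by haveI := h; infer_instance), fun h => ?_⟩
  refine (DerivedCategory.isIso_iff X.Modules _).2 fun j => ?_
  by_cases hj : a ≤ j
  · exact (key j hj).2 (h j hj)
  · haveI : DerivedCategory.IsGE ((t.truncGE a).obj A) a := (inferInstance : t.IsGE ((t.truncGE a).obj A) a)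
    haveI : DerivedCategory.IsGE ((t.truncGE a).obj B) a := (inferInstance : t.IsGE ((t.truncGE a).obj B) a)
    exact ⟨⟨0, IsZero.eq_of_src (DerivedCategory.isZero_of_isGE _ a j (by omega)) _ _,
      IsZero.eq_of_src (DerivedCategory.isZero_of_isGE _ a j (by omega)) _ _⟩⟩

/-- The converse: receiving perfect approximations in every degree gives pseudo-coherence. -/
theorem isPseudoCoherentD_of_perfect_approx {K : DCoh.D X} (E : ℕ → DCoh.D X) (i : ∀ n, E n ⟶ K)
    (hE : ∀ n, DCoh.IsPerfect (E n)) (h : ∀ n : ℕ, IsIso ((t.truncGE (-(n : ℤ))).map (i n))) (m : ℤ) :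
    DCoh.IsPseudoCoherentD m K := by
  refine DPerf.isPseudoCoherentD_of_approx fun x => ?_
  obtain ⟨n, hn⟩ : ∃ n : ℕ, -(n : ℤ) ≤ m := ⟨(-m).toNat, by omega⟩
  have hd : DPerf.DCond (Set.Ici m) (i n) := fun j hj => by
    have h1 := (isIso_truncGE_map_iff _ _).1 (h n) j (le_trans hn hj)
    have h2 := (isIso_truncGE_map_iff _ _).1 (h n) (j + 1) (by have : m ≤ j := hj; omega)
    exact ⟨inferInstance, inferInstance⟩
  obtain ⟨Z, j, hj, hx, P, hP, α, hα⟩ := (DPerf.isPerfect_iff_approx.1 (hE n)).mono_set (Set.subset_univ (Set.Ici m)) x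
  exact ⟨Z, j, hj, hx, P, hP, α ≫ (DPerf.resD j).map (i n), hα.comp (DPerf.dcond_map _ hd)⟩

variable [CompactSpace X] [QuasiSeparatedSpace X]

/-- The forward direction, with supports. -/
theorem exists_hocolim_perfect [HasColimitsOfShape (Discrete ℕ) (DCoh.D X)] {T : Set X} (hT : IsClosed T)
    (hTc : IsCompact Tᶜ) {K : DCoh.D X} (hK : ∀ m : ℤ, DCoh.IsPseudoCoherentD m K) (hKT : SuppOn T K) :
    ∃ (E : ℕ → DCoh.D X) (f : ∀ n, E n ⟶ E (n + 1)) (i : ∀ n, E n ⟶ K),
      (∀ n, DCoh.IsPerfect (E n)) ∧ (∀ n, SuppOn T (E n)) ∧ DerLim.IsHocolim E f K i ∧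
      ∀ n : ℕ, IsIso ((t.truncGE (-(n : ℤ))).map (i n)) := by
  classical
  have hKq : DCoh.IsQCohD K := fun q => DPerf.isQCoh_HD (hK (q - 1)) (by omega)
  obtain ⟨r, hr⟩ := exists_approximation X T hT hTc
  let St := Σ' (P : DCoh.D X) (_ : P ⟶ K), DCoh.IsPerfect P ∧ SuppOn T P
  have get : ∀ m : ℤ, ∃ s : St, ∀ j, m < j → IsIso ((DerivedCategory.homologyFunctor X.Modules j).map s.2.1) := fun m => by
    obtain ⟨P, α, hP, hPT, hα, -⟩ := hr m K hKq (hK _) fun q _ => hKT q
    exact ⟨⟨P, α, hP, hPT⟩, hα⟩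
  have step : ∀ (s : St) (n : ℕ), ∃ (s' : St) (f : s.1 ⟶ s'.1), f ≫ s'.2.1 = s.2.1 ∧
      ∀ j, -(n : ℤ) - 1 < j → IsIso ((DerivedCategory.homologyFunctor X.Modules j).map s'.2.1) := by
    rintro ⟨P, α, hP, hPT⟩ n
    obtain ⟨a, b, hab⟩ := DMV.exists_vanishing_range P hP
    obtain ⟨s', hs'⟩ := get (min (a - 1) (-(n : ℤ) - 1))
    obtain ⟨N, p, q, hN⟩ := distinguished_cocone_triangle s'.2.1
    have hNz : ∀ j, a ≤ j → IsZero (DCoh.HD N j) := fun j hj =>
      DPerf.isZero_homology_of_dcond hN (s := Set.Ici a) (fun l hl => by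
        have hl' : a ≤ l := hl
        have h1 := hs' l (by omega)
        have h2 := hs' (l + 1) (by omega)
        exact ⟨(inferInstance : Epi ((DerivedCategory.homologyFunctor X.Modules l).map s'.2.1)),
          (inferInstance : Mono ((DerivedCategory.homologyFunctor X.Modules (l + 1)).map s'.2.1))⟩) hj
    have h0 : α ≫ p = 0 := hab N (DPush.isQCohD_obj₃ _ hN (isQCohD_of_isPerfect s'.2.2.1) hKq)
      (fun l hl _ => hNz l hl) _
    have hex : ∃ f : P ⟶ s'.1, α = f ≫ s'.2.1 := Triangle.coyoneda_exact₂ _ hN α h0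
    obtain ⟨f, hf⟩ := hex
    exact ⟨s', f, hf.symm, fun j hj => hs' j (by omega)⟩
  choose nxt f₀ hf₀ hiso using step
  let seq : ℕ → St := fun n => Nat.rec (get (-1)).choose (fun n s => nxt s (n + 1)) n
  let E : ℕ → DCoh.D X := fun n => (seq n).1
  let f : ∀ n, E n ⟶ E (n + 1) := fun n => f₀ (seq n) (n + 1)
  let i : ∀ n, E n ⟶ K := fun n => (seq n).2.1
  have hfi : ∀ n, f n ≫ i (n + 1) = i n := fun n => hf₀ (seq n) (n + 1)
  have hH : ∀ (n : ℕ) j, -(n : ℤ) - 1 < j → IsIso ((DerivedCategory.homologyFunctor X.Modules j).map (i n)) := by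
    intro n j hj
    cases n with
    | zero => exact (get (-1)).choose_spec j (by omega)
    | succ n => exact hiso (seq n) (n + 1) j hj
  refine ⟨E, f, i, fun n => (seq n).2.2.1, fun n => (seq n).2.2.2, ?_,
    fun n => (isIso_truncGE_map_iff _ _).2 fun j hj => hH n j (by omega)⟩
  obtain ⟨L, q, c, hL⟩ := distinguished_cocone_triangle (𝟙 (∐ E) - DerLim.shiftMap E f)
  have hkill : (𝟙 (∐ E) - DerLim.shiftMap E f) ≫ Sigma.desc i = 0 := by
    refine Sigma.hom_ext _ _ fun n => ?_
    rw [Preadditive.sub_comp, Preadditive.comp_sub, Category.id_comp, Sigma.ι_desc, DerLim.shiftMap,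
      Sigma.ι_desc_assoc, Category.assoc, Sigma.ι_desc, hfi, sub_self, comp_zero]
  have hex : ∃ φ : L ⟶ K, Sigma.desc i = q ≫ φ := Triangle.yoneda_exact₂ _ hL _ hkill
  obtain ⟨φ, hφ⟩ := hex
  haveI : IsIso φ := (DerivedCategory.isIso_iff X.Modules φ).2 fun j => by
    let H := DerivedCategory.homologyFunctor X.Modules j
    haveI : PreservesColimitsOfShape (Discrete ℕ) H :=
      preservesColimitsOfShape_of_equiv (Discrete.equivalence (Equiv.ulift.{u} : ULift.{u} ℕ ≃ ℕ)) H
    have hq : q = Sigma.desc fun n => Sigma.ι E n ≫ q := Sigma.hom_ext _ _ fun n => by simp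
    obtain ⟨e, he⟩ := Hocolim29.homological_hocolim H E f L (fun n => Sigma.ι E n ≫ q) ⟨c, hq ▸ hL⟩
    let Fs := Functor.ofSequence fun n => H.map (f n)
    obtain ⟨n₀, hn₀⟩ : ∃ n₀ : ℕ, -(n₀ : ℤ) - 1 < j := ⟨(-j).toNat, by omega⟩
    let γ : Fs ⟶ (Functor.const ℕ).obj (H.obj K) := NatTrans.ofSequence (fun n => H.map (i n)) fun n => by
      exact (congrArg (· ≫ H.map (i (n + 1))) (Functor.ofSequence_map_homOfLE_succ (fun n => H.map (f n)) n)).trans
        (((H.map_comp _ _).symm.trans (congrArg H.map (hfi n))).trans (Category.comp_id _).symm)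
    have hev : Fs.IsEventuallyConstantFrom n₀ := fun n g => by
      have hn : n₀ ≤ n := leOfHom g
      haveI : IsIso (γ.app n₀) := hH n₀ j hn₀
      haveI : IsIso (γ.app n) := hH n j (by omega)
      have := γ.naturality g
      simp only [Functor.const_obj_map, Category.comp_id] at this
      exact IsIso.of_isIso_fac_right this
    haveI : IsIso (colimit.ι Fs n₀) := hev.isIso_ι_of_isColimit (colimit.isColimit Fs)
    haveI : IsIso (H.map (i n₀)) := hH n₀ j hn₀
    have hcomp : (colimit.ι Fs n₀ ≫ e.hom) ≫ H.map φ = H.map (i n₀) := by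
      rw [he, ← H.map_comp, Category.assoc, ← hφ, Sigma.ι_desc]
    exact IsIso.of_isIso_fac_left hcomp
  refine ⟨inv φ ≫ c, isomorphic_distinguished _ hL _ (Triangle.isoMk _ _ (Iso.refl _) (Iso.refl _) (asIso φ).symm ?_ ?_ ?_)⟩
  · simp
  · change Sigma.desc i ≫ inv φ = 𝟙 _ ≫ q
    rw [hφ, Category.assoc, IsIso.hom_inv_id, Category.comp_id, Category.id_comp]
  · change (inv φ ≫ c) ≫ (shiftFunctor _ 1).map (𝟙 _) = inv φ ≫ c
    simp

end Groth.Agent.DGen9
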