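import Groth.Agent.Lib.DGen9.Split
import Groth.Agent.Lib.DGen9.Hocolim
import Groth.Agent.Lib.DCompact9.Ring
import Groth.Agent.Lib.DMod.Resolve
import Groth.Agent.Lib.DMod.Amplitude
import Groth.Agent.Lib.TensorMod.Invertible

/-! Pseudo-coherent objects on quasi-compact opens of affine schemes extend as finite free complexes. -/

set_option autoImplicit false
set_option linter.unusedSectionVars false
set_option linter.style.haveILetI false
set_option backward.isDefEq.respectTransparency false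
set_option backward.isDefEq.respectTransparency.types false
set_option maxHeartbeats 3200000

universe u

open CategoryTheory CategoryTheory.Limits AlgebraicGeometry Pretriangulated DerivedCategory.TStructure

attribute [local instance] HasDerivedCategory.standard

namespace Groth.Agent.DGen9

attribute [local instance] DBC9.hasRpush

open DMon9

variable {X : Scheme.{u}}

/-- Homotopy colimits of eventually stationary sequences in the derived category of modules. -/
theorem exists_hocolim_stationary {R : Type u} [CommRing R] (C : ℕ → Dual.D R) (f : ∀ n, C n ⟶ C (n + 1))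
    {M : Dual.D R} (i : ∀ n, C n ⟶ M) (hfi : ∀ n, f n ≫ i (n + 1) = i n) (N : ℕ → ℤ)
    (hN : ∀ n j, N n < j → IsIso ((DerivedCategory.homologyFunctor _ j).map (f n))) (hmono : ∀ n, N (n + 1) ≤ N n) :
    ∃ (L : Dual.D R) (κ : ∀ n, C n ⟶ L) (φ : L ⟶ M), (∀ n, κ n ≫ φ = i n) ∧
      ∀ n j, N n < j → IsIso ((DerivedCategory.homologyFunctor _ j).map (κ n)) := by
  haveI : HasColimitsOfShape (Discrete ℕ) (Dual.D R) :=
    DCompact9.hasColimitsOfShape_small (R := R) (Equiv.ulift.{u}.symm : ℕ ≃ ULift.{u} ℕ)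
  obtain ⟨L, q, c, hL⟩ := distinguished_cocone_triangle (𝟙 (∐ C) - DerLim.shiftMap C f)
  have hkill : (𝟙 (∐ C) - DerLim.shiftMap C f) ≫ Sigma.desc i = 0 := by
    refine Sigma.hom_ext _ _ fun n => ?_
    rw [Preadditive.sub_comp, Preadditive.comp_sub, Category.id_comp, Sigma.ι_desc, DerLim.shiftMap,
      Sigma.ι_desc_assoc, Category.assoc, Sigma.ι_desc, hfi, sub_self, comp_zero]
  have hex : ∃ φ : L ⟶ M, Sigma.desc i = q ≫ φ := Triangle.yoneda_exact₂ _ hL _ hkill
  obtain ⟨φ, hφ⟩ := hex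
  refine ⟨L, fun n => Sigma.ι C n ≫ q, φ, fun n => by rw [Category.assoc, ← hφ, Sigma.ι_desc], fun n j hj => ?_⟩
  let H := DerivedCategory.homologyFunctor (ModuleCat.{u} R) j
  haveI : PreservesColimitsOfShape (Discrete ℕ) H :=
    preservesColimitsOfShape_of_equiv (Discrete.equivalence (Equiv.ulift.{u} : ULift.{u} ℕ ≃ ℕ)) H
  have hq : q = Sigma.desc fun n => Sigma.ι C n ≫ q := Sigma.hom_ext _ _ fun n => by simp
  obtain ⟨e, he⟩ := Hocolim29.homological_hocolim H C f L (fun n => Sigma.ι C n ≫ q) ⟨c, hq ▸ hL⟩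
  let Fs := Functor.ofSequence fun n => H.map (f n)
  have hev : Fs.IsEventuallyConstantFrom n := fun m g => by
    have hm : n ≤ m := leOfHom g
    have key : ∀ d (h : n ≤ n + d), N (n + d) ≤ N n ∧ IsIso (Fs.map (homOfLE h)) := by
      intro d
      induction d with
      | zero =>
        intro h
        refine ⟨le_rfl, ?_⟩
        rw [show homOfLE h = 𝟙 n from Subsingleton.elim _ _, Fs.map_id]
        infer_instance
      | succ d ih =>
        intro h
        obtain ⟨h1, h2⟩ := ih (Nat.le_add_right _ _)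
        refine ⟨(hmono (n + d)).trans h1, ?_⟩
        rw [show homOfLE h = homOfLE (Nat.le_add_right n d) ≫ homOfLE (Nat.le_succ (n + d)) from Subsingleton.elim _ _,
          Fs.map_comp]
        have h3 : IsIso (Fs.map (homOfLE (Nat.le_succ (n + d)))) := by
          have h4 := hN (n + d) j (by omega)
          exact Eq.mpr (congrArg (fun z => IsIso z) (Functor.ofSequence_map_homOfLE_succ (fun n => H.map (f n)) (n + d))) h4
        exact @IsIso.comp_isIso _ _ _ _ _ _ _ h2 h3
    obtain ⟨d, rfl⟩ := Nat.exists_eq_add_of_le hm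
    rw [show g = homOfLE hm from Subsingleton.elim _ _]
    exact (key d hm).2
  haveI : IsIso (colimit.ι Fs n) := hev.isIso_ι_of_isColimit (colimit.isColimit Fs)
  show IsIso (H.map (Sigma.ι C n ≫ q))
  rw [← he n]
  infer_instance

/-- Pseudo-coherent objects on quasi-compact opens of affine schemes come from complexes of finite free modules. -/
theorem exists_free_extension [IsAffine X] {U : X.Opens} (hU : IsCompact (U : Set X))
    {F : DCoh.D (U : Scheme.{u})} (hF : ∀ m : ℤ, DCoh.IsPseudoCoherentD m F) :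
    ∃ (L : Dual.D Γ(X, ⊤)), DRing.IsPseudoCoherent' Γ(X, ⊤) L ∧
      Nonempty ((DPerf.resD U.ι).obj ((tX X.isoSpec).obj L) ≅ F) := by
  classical
  haveI : CompactSpace U := isCompact_iff_compactSpace.1 hU
  let e := X.isoSpec
  have hFq : DCoh.IsQCohD F := fun q => DPerf.isQCoh_HD (hF (q - 1)) (by omega)
  let E := (DCoh.Rpush U.ι).obj F
  have hEq : DCoh.IsQCohD E := isQCohD_rpushι hU hFq
  obtain ⟨M, ⟨iM⟩⟩ := exists_tX_iso e hEq
  obtain ⟨gs, hgs⟩ := exists_covers e (T := (U : Set X)ᶜ) U.2.isClosed_compl (by rwa [compl_compl])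
  have hgs' : ∀ x : X, x ∈ U ↔ ∃ g ∈ gs, e.hom x ∈ M1.bo g := fun x => by
    simpa using hgs x
  haveI := quasiCompact_ι hU
  obtain ⟨b₀, hb₀⟩ := DPerf.exists_isLE_of_pseudoCoherent (hF 0)
  obtain ⟨N, hN⟩ := DPush.exists_bound U.ι
  have hMle : M.IsLE (b₀ + N) := by
    refine (DerivedCategory.isLE_iff _ _).2 fun q hq => ?_
    have h1 : IsZero (DCoh.HD ((tX e).obj M) q) :=
      (hN F hFq b₀ hb₀ q (by omega)).of_iso ((DerivedCategory.homologyFunctor X.Modules q).mapIso iM)
    refine DPerf.isZero_of_tilde (IsZero.of_iso ?_ (DPerf.hdTildeIso M q).symm)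
    refine DPerf.isZero_of_stalks fun y => ?_
    obtain ⟨x, rfl⟩ := e.hom.homeomorph.surjective y
    exact AddCommGrpCat.subsingleton_of_isZero ((RHom.stalkZero_restrict_iff e.hom x _).1
      (RHom.stalkZero_iso (DPerf.hdResIso e.hom _ q) ((M1.stalkAb x).map_isZero h1)))
  have hloc : ∀ (Q : DerivedCategory (ModuleCat.{u} _)) (i : ℤ), Loc0 gs Q i →
      IsZero (DCoh.HD ((DPerf.resD U.ι).obj ((tX e).obj Q)) i) := fun Q i hQ => by
    refine (DPerf.isZero_of_stalks fun z => ?_).of_iso (DPerf.hdResIso U.ι _ i)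
    refine AddCommGrpCat.subsingleton_of_isZero ((RHom.stalkZero_restrict_iff U.ι z _).2 ?_)
    obtain ⟨g, hg, hzg⟩ := (hgs' _).1 z.2
    refine RHom.stalkZero_iso (DPerf.hdResIso e.hom _ i).symm ((RHom.stalkZero_restrict_iff e.hom (U.ι z) _).2 ?_)
    exact DMV.stalkZero_of_not_mem_support ((tors_iff_support g Q i).1 (hQ g hg) _ hzg)
  let GU := tX e ⋙ DPerf.resD U.ι
  let eF : GU.obj M ≅ F := (DPerf.resD U.ι).mapIso iM ≪≫ resPushIso U.ι F
  have hz0 : ∀ (Q : DerivedCategory (ModuleCat.{u} _)) (i : ℤ),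
      IsZero ((DerivedCategory.homologyFunctor _ i).obj Q) → IsZero (DCoh.HD (GU.obj Q) i) := fun Q i hQ =>
    IsZero.of_iso ((Scheme.Modules.restrictFunctor U.ι).map_isZero (IsZero.of_iso
      ((Scheme.Modules.restrictFunctor e.hom).map_isZero ((tilde.functor _).map_isZero hQ))
      (DPerf.hdResIso e.hom _ i ≪≫ (Scheme.Modules.restrictFunctor e.hom).mapIso (DPerf.hdTildeIso Q i))))
      (DPerf.hdResIso U.ι _ i)
  have hgen : ∀ (Q : DerivedCategory (ModuleCat.{u} _)), (∀ k, DCoh.IsPseudoCoherentD k (GU.obj Q)) → ∀ k,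
      (∀ i, k < i → Loc0 gs Q i) → ∃ xs : List (pt k ⟶ Q), Gen gs Q xs := by
    intro Q hQpc k hk
    have hft := DPerf.finiteType_top (hQpc k) fun i hi => hloc Q i (hk i hi)
    have hspan : ∀ g ∈ gs, ∃ s : Finset ((DerivedCategory.homologyFunctor (ModuleCat.{u} Γ(X, ⊤)) k).obj Q : Type u),
        ∀ y, ∃ n : ℕ, g ^ n • y ∈ Submodule.span Γ(X, ⊤) (s : Set ((DerivedCategory.homologyFunctor (ModuleCat.{u} Γ(X, ⊤)) k).obj Q : Type u)) := by
      intro g hg
      refine exists_span_of_isFT _ g ?_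
      have hr : Set.range (M1.bo g).ι ⊆ Set.range (U.ι ≫ e.hom) := by
        rintro _ ⟨w, rfl⟩
        obtain ⟨x, hx⟩ := e.hom.homeomorph.surjective ((M1.bo g).ι w)
        refine ⟨⟨x, (hgs' x).2 ⟨g, hg, ?_⟩⟩, ?_⟩
        · rw [show e.hom x = (M1.bo g).ι w from hx]; exact w.2
        · exact hx
      let q := IsOpenImmersion.lift (U.ι ≫ e.hom) (M1.bo g).ι hr
      refine M1.isFT_of_isIso ?_ (M1.isFT_restrict (M1.isFT_of_isIso (DPerf.hdResIso U.ι _ k ≪≫
        (Scheme.Modules.restrictFunctor U.ι).mapIso (DPerf.hdResIso e.hom _ k ≪≫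
          (Scheme.Modules.restrictFunctor e.hom).mapIso (DPerf.hdTildeIso Q k)) ≪≫
        (Scheme.Modules.restrictFunctorComp U.ι e.hom).symm.app _) hft) q)
      exact (Scheme.Modules.restrictFunctorComp q (U.ι ≫ e.hom)).symm.app _ ≪≫
        (Scheme.Modules.restrictFunctorCongr (IsOpenImmersion.lift_fac _ _ hr)).app _
    choose s hs using hspan
    let big := gs.attach.flatMap fun g => ((s g.1 g.2).toList.map (eltEquiv k Q).symm)
    refine ⟨big, fun g hg y => ?_⟩
    obtain ⟨n, hn⟩ := hs g hg (eltEquiv k Q y)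
    refine ⟨n, ?_⟩
    have h2 := Submodule.mem_map_of_mem (f := (eltEquiv k Q).symm.toLinearMap) hn
    rw [Submodule.map_span, LinearEquiv.coe_coe, map_smul, LinearEquiv.symm_apply_apply] at h2
    refine Submodule.span_mono ?_ h2
    rintro _ ⟨z, hz, rfl⟩
    exact List.mem_flatMap.2 ⟨⟨g, hg⟩, List.mem_attach _ _, List.mem_map.2 ⟨z, Finset.mem_toList.2 hz, rfl⟩⟩
  obtain ⟨b, hb⟩ : ∃ b : ℤ, b₀ + N = b := ⟨_, rfl⟩
  rw [hb] at hMle
  let St := fun n : ℕ => Σ' (C : DerivedCategory (ModuleCat.{u} Γ(X, ⊤))) (i : C ⟶ M)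
    (Q : DerivedCategory (ModuleCat.{u} Γ(X, ⊤))) (p : M ⟶ Q) (q : Q ⟶ C⟦(1 : ℤ)⟧),
    Triangle.mk i p q ∈ distTriang _ ∧ DCoh.IsPerfect ((tX e).obj C) ∧
      ∀ j, b + 1 - n ≤ j → IsZero (DCoh.HD (GU.obj Q) j)
  have base : Nonempty (St 0) := ⟨⟨_, _, M, _, _, contractible_distinguished₁ M,
    (isPerfect_tX_iff e _).2 (DBaseChange.isPerfect_of_isZero (isZero_zero _)),
    fun j hj => hz0 M j (DerivedCategory.isZero_of_isLE M b j (by omega))⟩⟩
  have step : ∀ (n : ℕ) (s : St n), ∃ (s' : St (n + 1)) (f : s.1 ⟶ s'.1), f ≫ s'.2.1 = s.2.1 ∧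
      ∀ j, b + 1 - n < j → IsIso ((DerivedCategory.homologyFunctor _ j).map f) := by
    rintro n ⟨C, i, Q, p, q, hT, hC, hQz₀⟩
    obtain ⟨m, hm⟩ : ∃ m : ℤ, b + 1 - n = m := ⟨_, rfl⟩
    have hQz : ∀ j, m ≤ j → IsZero (DCoh.HD (GU.obj Q) j) := fun j hj => hQz₀ j (by omega)
    let Q' := (t.truncLT m).obj Q
    haveI hQ'le : DerivedCategory.IsLE Q' (m - 1) := (inferInstance : t.IsLE Q' (m - 1))
    haveI hQ''ge : DerivedCategory.IsGE ((t.truncGE m).obj Q) m := (inferInstance : t.IsGE ((t.truncGE m).obj Q) m)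
    have hQpc : ∀ k, DCoh.IsPseudoCoherentD k (GU.obj Q) := fun k =>
      DPerf.isPseudoCoherentD_of_approx (DPerf.approx_Ici₃ k _ (GU.map_distinguished _ hT)
        ((DPerf.isPerfect_iff_approx.1 (isPerfect_resD U.ι hC)).mono_set (Set.subset_univ _))
        (DPerf.approx_of_isPseudoCoherentD (isPseudoCoherentD_of_isoD eF.symm (hF k))))
    haveI : IsIso (GU.map ((t.truncLTι m).app Q)) := by
      refine (Triangle.isZero₃_iff_isIso₁ _ (GU.map_distinguished _ (t.triangleLTGE_distinguished m Q))).1 ?_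
      refine DMV.isZero_of_hd fun j => ?_
      by_cases hj : m ≤ j
      · haveI := DerTrunc.isIso_homology_truncGEπ Q m j hj
        have h1 : IsIso ((DerivedCategory.homologyFunctor _ j).map (GU.map ((t.truncGEπ m).app Q))) :=
          DerTrunc.isIso_map_mor₂ _ (GU.map_distinguished _ (t.triangleLTGE_distinguished m Q)) j
            (hz0 Q' j (DerivedCategory.isZero_of_isLE Q' (m - 1) j (by omega)))
            (hz0 Q' (j + 1) (DerivedCategory.isZero_of_isLE Q' (m - 1) (j + 1) (by omega)))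
        exact (hQz j hj).of_iso (@asIso _ _ _ _ _ h1).symm
      · exact hz0 _ j (DerivedCategory.isZero_of_isGE ((t.truncGE m).obj Q) m j (by omega))
    have hQ'pc : ∀ k, DCoh.IsPseudoCoherentD k (GU.obj Q') := fun k =>
      isPseudoCoherentD_of_isoD (asIso (GU.map ((t.truncLTι m).app Q))).symm (hQpc k)
    obtain ⟨P, e', hG, hPz⟩ := exists_approx [] gs (E := Q') (m - 1) (m - 1) hQ'le
      (fun a ha => absurd ha List.not_mem_nil) (fun R e'' hG k _ hk => hgen R (fun l => by
        obtain ⟨Z, u, v, hZT, hZ, -, -⟩ := hG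
        exact DPerf.isPseudoCoherentD_of_approx (DPerf.approx_Ici₂ l _ (GU.map_distinguished _ hZT)
          (DPerf.approx_of_isPseudoCoherentD (hQ'pc l))
          ((DPerf.isPerfect_iff_approx.1 (isPerfect_resD U.ι ((isPerfect_tX_iff e Z).2 hZ))).mono_set
            (Set.subset_univ _)))) k hk)
    obtain ⟨Z, u, v, hZT, hZ, -, hZle⟩ := hG
    let T' := (Triangle.mk e' u v).invRotate
    have hT' : T' ∈ distTriang _ := inv_rot_of_distTriang _ hZT
    haveI hP'le : DerivedCategory.IsLE T'.obj₁ (m - 1) := by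
      have h1 : t.IsLE (Z⟦(-1 : ℤ)⟧) (m - 1 - 1 - (-1)) := t.isLE_shift Z (m - 1 - 1) (-1) _ (by omega)
      rw [show m - 1 - 1 - (-1) = m - 1 by ring] at h1
      exact h1
    obtain ⟨Q₂, p₂, r₂, hT₂⟩ := distinguished_cocone_triangle (T'.mor₁ ≫ (t.truncLTι m).app Q)
    obtain ⟨C₂, i₂, q₂, hT₁₃⟩ := distinguished_cocone_triangle₁ (p ≫ p₂)
    let O := Triangulated.someOctahedron' rfl hT hT₂ hT₁₃
    have hC₂ : DCoh.IsPerfect ((tX e).obj C₂) := isPerfect_obj₂ _ ((tX e).map_distinguished _ O.mem) hC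
      ((isPerfect_tX_iff e _).2 (DBaseChange.isPerfect_shift (-1) hZ))
    refine ⟨⟨C₂, i₂, Q₂, p ≫ p₂, q₂, hT₁₃, hC₂, fun j hj => ?_⟩, O.m₁, O.comm₁, fun j hj => ?_⟩
    · refine DPerf.isZero_homology_of_dcond (GU.map_distinguished _ hT₂) (s := Set.Ici (m - 1)) (fun l hl => ?_)
        (show m - 1 ≤ j by push_cast at hj ⊢; omega)
      have hl' : m - 1 ≤ l := hl
      have hd : DPerf.DCond (Set.Ici (m - 1)) (GU.map T'.mor₁) := fun a ha => ⟨
        (DerivedCategory.HomologySequence.epi_homologyMap_mor₁_iff _ (GU.map_distinguished _ hT') a).2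
          ((hloc P a (hPz a ha)).eq_of_tgt _ _),
        (DerivedCategory.HomologySequence.mono_homologyMap_mor₁_iff _ (GU.map_distinguished _ hT') a (a + 1) rfl).2
          ((hloc P a (hPz a ha)).eq_of_src _ _)⟩
      have := hd.comp (DPerf.dcond_of_isIso (GU.map ((t.truncLTι m).app Q))) l hl
      rw [← GU.map_comp] at this
      exact this
    · exact DerTrunc.isIso_map_mor₁ _ O.mem j (DerivedCategory.isZero_of_isLE T'.obj₁ (m - 1) (j - 1) (by omega))
        (DerivedCategory.isZero_of_isLE T'.obj₁ (m - 1) j (by omega))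
  choose nxt f₀ hf₀ hiso using step
  let seq : ∀ n, St n := fun n => Nat.rec (motive := St) base.some (fun n s => nxt n s) n
  obtain ⟨L, κ, φ, hκφ, hκ⟩ := exists_hocolim_stationary (fun n => (seq n).1) (fun n => f₀ n (seq n))
    (fun n => (seq n).2.1) (fun n => hf₀ n (seq n)) (fun n => b + 1 - n) (fun n j hj => hiso n (seq n) j hj)
    (fun n => by push_cast; omega)
  refine ⟨L, (DMod.pc'_iff L).2 fun m => ?_, ?_⟩
  · obtain ⟨n, hn⟩ : ∃ n : ℕ, b + 1 - n < m := ⟨(b + 2 - m).toNat, by omega⟩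
    obtain ⟨Ecx, a', b', α, h₁, h₂, h₃, h₄⟩ :=
      (DMod.pc'_iff _).1 (DMod.pc'_of_perfect ((isPerfect_tX_iff e _).1 (seq n).2.2.2.2.2.2.1)) m
    refine ⟨Ecx, a', b', α ≫ κ n, h₁, h₂, fun i hi => ?_, ?_⟩
    · haveI := h₃ i hi
      haveI := hκ n i (by omega)
      rw [Functor.map_comp]; infer_instance
    · haveI := h₄
      haveI := hκ n m hn
      rw [Functor.map_comp]; exact epi_comp _ _
  · have key : ∀ j, IsIso ((DerivedCategory.homologyFunctor _ j).map (GU.map φ)) := fun j => by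
      obtain ⟨n, hn⟩ : ∃ n : ℕ, b + 1 - n < j := ⟨(b + 2 - j).toNat, by omega⟩
      have hκ' : DPerf.DCond (Set.Ici j) (κ n) := fun l hl => by
        have hl' : j ≤ l := hl
        haveI := hκ n l (by omega)
        haveI := hκ n (l + 1) (by omega)
        exact ⟨inferInstance, inferInstance⟩
      have h1 : DPerf.DCond (Set.Ici j) (GU.map (κ n)) :=
        DPerf.dcond_map (Scheme.Modules.restrictFunctor U.ι) (DPerf.dcond_map (Scheme.Modules.restrictFunctor e.hom)
          (DPerf.dcond_map (tilde.functor Γ(X, ⊤)) hκ'))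
      have hz := (seq n).2.2.2.2.2.2.2
      have h3 : IsIso ((DerivedCategory.homologyFunctor _ j).map (GU.map (seq n).2.1)) :=
        DerTrunc.isIso_map_mor₁ _ (GU.map_distinguished _ (seq n).2.2.2.2.2.1) j
          (hz (j - 1) (by omega)) (hz j (by omega))
      rw [← hκφ n, GU.map_comp, Functor.map_comp] at h3
      haveI : Epi ((DerivedCategory.homologyFunctor _ j).map (GU.map (κ n))) := (h1 j Set.self_mem_Ici).1
      haveI : IsIso ((DerivedCategory.homologyFunctor _ j).map (GU.map (κ n))) := by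
        haveI : IsIso ((DerivedCategory.homologyFunctor _ j).map (κ n)) := hκ n j hn
        haveI : Mono ((DerivedCategory.homologyFunctor _ j).map (GU.map (κ n))) := by
          haveI := h3
          exact mono_of_mono _ ((DerivedCategory.homologyFunctor _ j).map (GU.map φ))
        exact isIso_of_mono_of_epi _
      exact @IsIso.of_isIso_comp_left _ _ _ _ _ _ _ this h3
    haveI : IsIso (GU.map φ) := (DerivedCategory.isIso_iff _ _).2 key
    exact ⟨asIso (GU.map φ) ≪≫ eF⟩

end Groth.Agent.DGen9
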