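import Groth.Agent.Lib.DGen9.GlobalApprox

/-! Approximation supported inside an open subset extends to the whole scheme. -/

set_option autoImplicit false
set_option linter.unusedSectionVars false
set_option linter.style.haveILetI false
set_option backward.isDefEq.respectTransparency false
set_option backward.isDefEq.respectTransparency.types false
set_option maxHeartbeats 1600000

universe u

open CategoryTheory CategoryTheory.Limits AlgebraicGeometry Pretriangulated

attribute [local instance] HasDerivedCategory.standard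

namespace Groth.Agent.DGen9

attribute [local instance] DBC9.hasRpush

variable {X : Scheme.{u}}

local notation "HH" => DerivedCategory.homologyFunctor

theorem approxMap_of_isIso_epi {m : ℤ} {P E : DCoh.D X} {α : P ⟶ E}
    (h₁ : ∀ i : ℤ, m < i → IsIso ((HH X.Modules i).map α)) (h₂ : Epi ((HH X.Modules m).map α)) :
    ApproxMap m α := fun i hi => by
  haveI := h₁ (i + 1) (by omega)
  refine ⟨?_, inferInstance⟩
  rcases hi.eq_or_lt with rfl | hi'
  · exact h₂
  · haveI := h₁ i hi'; infer_instance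

theorem ApproxMap.isIso_map {m : ℤ} {P E : DCoh.D X} {α : P ⟶ E} (hα : ApproxMap m α) (i : ℤ) (hi : m < i) :
    IsIso ((HH X.Modules i).map α) := by
  haveI := (hα i hi.le).1
  haveI : Mono ((HH X.Modules i).map α) := by
    have := (hα (i - 1) (by omega)).2
    rwa [sub_add_cancel] at this
  exact isIso_of_mono_of_epi _

theorem exists_approx_of_open (U : X.Opens) {T : Set X} (hT : IsClosed T) (hTU : T ⊆ (U : Set X))
    {E : DCoh.D X} {m : ℤ} {P : DCoh.D (U : Scheme.{u})} {α : P ⟶ (DPerf.resD U.ι).obj E}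
    (hP : DCoh.IsPerfect P) (hPT : SuppOn (U.ι ⁻¹' T) P) (hα : ApproxMap m α)
    (hsupp : ∀ i : ℤ, m ≤ i → CohB1.support (DCoh.HD E i) ⊆ T) :
    ∃ (Q : DCoh.D X) (β : Q ⟶ E), DCoh.IsPerfect Q ∧ SuppOn T Q ∧ ApproxMap m β := by
  let K : X.Opens := ⟨Tᶜ, hT.isOpen_compl⟩
  have hcov : ∀ x : X, x ∈ U ∨ x ∈ K := fun x => by
    by_cases h : x ∈ T
    · exact Or.inl (hTU h)
    · exact Or.inr h
  let Q := (DCoh.Rpush U.ι).obj P
  have hQ : DCoh.IsPerfect Q := DMV.isPerfect_rpush_of_support U P hP _ hT hTU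
    fun i => Set.image_subset_iff.2 (hPT i)
  have hQT : SuppOn T Q := suppOn_rpush U.ι hT hPT
  let adj := adjR U.ι
  obtain ⟨W, uW, vW, hW⟩ := distinguished_cocone_triangle (adj.unit.app E)
  haveI := isIso_resD_unit U.ι E
  have hUK : (U : Set X)ᶜ ⊆ (K : Set X) := fun x hx => (hcov x).resolve_left hx
  obtain ⟨eW⟩ := DMV.nonempty_iso_rpush_restrict K _ U.2.isClosed_compl hUK W (by
    have h : SuppOn ((U : Set X)ᶜ) W := by
      refine suppOn_mono (le_of_eq ?_) (suppOn_of_isZero_resD U.ι (isZero_resD_cone U.ι hW))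
      erw [Scheme.Opens.range_ι]
    exact h)
  obtain ⟨γ, hγ⟩ := (DGam9.bijective_comp K.ι
    (isZero_resD_of_suppOn K.ι hQT fun x h => x.2 h) hW eW).2 ((DCoh.Rpush U.ι).map α)
  simp only at hγ
  have hγU : (DPerf.resD U.ι).map γ = (resPushIso U.ι P).hom ≫ α := by
    haveI := isIso_counit U.ι
    have h := congrArg (fun z => (DPerf.resD U.ι).map z ≫ adj.counit.app ((DPerf.resD U.ι).obj E)) hγ
    simp only [Functor.map_comp, Category.assoc] at h
    have ht : (DPerf.resD U.ι).map (adj.unit.app E) ≫ adj.counit.app ((DPerf.resD U.ι).obj E) = 𝟙 _ :=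
      adj.left_triangle_components E
    rw [ht, Category.comp_id] at h
    exact h.trans (adj.counit.naturality α)
  obtain ⟨C, u, v, hC⟩ := distinguished_cocone_triangle γ
  refine ⟨Q, γ, hQ, hQT, (approxMap_iff_isZero _ hC).2 fun i hi => ?_⟩
  refine DPerf.isZero_of_stalks fun x => AddCommGrpCat.subsingleton_of_isZero ?_
  rcases hcov x with hx | hx
  · refine (stalkZero_HD_resD U.ι C ⟨x, hx⟩ i).1 (stalkZero_of_isZero _ ?_)
    refine (approxMap_iff_isZero _ ((DPerf.resD U.ι).map_distinguished _ hC)).1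
      (show ApproxMap m ((DPerf.resD U.ι).map γ) from ?_) i hi
    rw [hγU]
    exact hα.iso_comp _
  · exact stalkZero₃ _ hC x i (DMV.stalkZero_of_not_mem_support fun h => hx (hsupp i hi h))
      (stalkZero_of_suppOn hQT hx _)

end Groth.Agent.DGen9
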