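import Groth.Agent.Lib.DBaseChange.ResTor
import Groth.Agent.Lib.CI2.TorPoly
import Mathlib.RingTheory.Flat.Localization

/-!
Rings of finite weak global dimension.
-/

set_option autoImplicit false
set_option linter.style.haveILetI false
set_option backward.isDefEq.respectTransparency false
set_option backward.isDefEq.respectTransparency.types false

universe u

open CategoryTheory CategoryTheory.Limits CategoryTheory.Pretriangulated

attribute [local instance] HasDerivedCategory.standard

namespace Groth.Agent.RelT

open DMod

/-- Tor dimension over a localization. -/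
theorem torDim_of_isLocalization {R S : Type u} [CommRing R] [CommRing S] [Algebra R S] (W : Submonoid R)
    [IsLocalization W S] :
    ∀ (d : ℕ) (M : Type u) [AddCommGroup M] [Module R M] [Module S M] [IsScalarTower R S M],
      DRing.HasTorDimLE R d M → DRing.HasTorDimLE S d M := by
  haveI : Module.Flat R S := IsLocalization.flat S W
  intro d
  induction d with
  | zero =>
    intro M _ _ _ _ h
    haveI := (TorBal.flat_iff_hasTorDimLE_zero M).1 h
    exact (TorBal.flat_iff_hasTorDimLE_zero M).2 ((Module.flat_iff_of_isLocalization S W M).2 inferInstance)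
  | succ d ih =>
    intro M _ _ _ _ h
    let p : (M →₀ S) →ₗ[S] M := Finsupp.linearCombination S id
    have hp : Function.Surjective p := Finsupp.linearCombination_id_surjective S M
    haveI : Module.Flat R (M →₀ S) := Module.Flat.trans R S (M →₀ S)
    let K := LinearMap.ker p
    have hK : DRing.HasTorDimLE R d K := (TorAscH7.hasTorDimLE_succ_iff (K.subtype.restrictScalars R)
      K.injective_subtype (p.restrictScalars R) (LinearMap.exact_subtype_ker_map p) hp d).1 h
    exact (TorAscH7.hasTorDimLE_succ_iff K.subtype K.injective_subtype p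
      (LinearMap.exact_subtype_ker_map p) hp d).2 (ih K hK)

/-- A field has no higher Tor. -/
theorem torDim_field (k : Type u) [Field k] (M : Type u) [AddCommGroup M] [Module k M] : DRing.HasTorDimLE k 0 M :=
  (TorBal.flat_iff_hasTorDimLE_zero M).2 inferInstance

/-- Over a ring of finite weak dimension, complexes exact in low degrees stay so after tensoring. -/
theorem exactAt_tm_of_torDim {L : Type u} [CommRing L] (n : ℕ)
    (hL : ∀ (M : Type u) [AddCommGroup M] [Module L M], DRing.HasTorDimLE L n M) (Y : DRing.Cx L) (b : ℤ)
    [Y.IsStrictlyLE b] (hY : ∀ i, Module.Flat L (Y.X i)) (a : ℤ) (hex : ∀ i, i < a → Y.ExactAt i)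
    (N : ModuleCat.{u} L) {l : ℤ} (hl : l < a - n) : ((DBaseChange.tm N).obj Y).ExactAt l := by
  have hamp : DRing.HasTorAmplitudeIn L (a - n) b (DRing.toD Y) := by
    refine DBaseChange.prop_of_homology (fun X => DRing.HasTorAmplitudeIn L (a - n) b X)
      (fun e h => DBaseChange.hasTorAmplitudeIn_of_iso e h) (fun X h => DBaseChange.hasTorAmplitudeIn_of_isZero h _ _)
      (fun T hT => DBaseChange.torAmp_triangle₂ _ _ T hT) _ a b (fun i hi => ?_) fun i => ?_
    · rw [subsingleton_HD_toD_iff]
      refine ModuleCat.subsingleton_of_isZero ((HomologicalComplex.exactAt_iff_isZero_homology _ _).1 ?_)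
      rcases hi with hi | hi
      · exact hex i hi
      · rw [HomologicalComplex.exactAt_iff]
        exact ShortComplex.exact_of_isZero_X₂ _ (Y.isZero_of_isStrictlyLE b i hi)
    · by_cases hi : i < a ∨ b < i
      · refine DBaseChange.hasTorAmplitudeIn_of_isZero (Functor.map_isZero (single i) ?_) _ _
        apply @ModuleCat.isZero_of_subsingleton _ _ _ ?_
        show Subsingleton (Dual.HD L (DRing.toD Y) i)
        rw [subsingleton_HD_toD_iff]
        refine ModuleCat.subsingleton_of_isZero ((HomologicalComplex.exactAt_iff_isZero_homology _ _).1 ?_)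
        rcases hi with hi | hi
        · exact hex i hi
        · rw [HomologicalComplex.exactAt_iff]
          exact ShortComplex.exact_of_isZero_X₂ _ (Y.isZero_of_isStrictlyLE b i hi)
      · exact DBaseChange.hasTorAmplitudeIn_single _
          (DBaseChange.hasTorAmplitudeIn_mono (a := -(n : ℤ)) (b := 0) (by omega) (by omega)
            (TorBal.amplitude_of_hasTorDimLE _ n (hL _)))
  have h := (DBaseChange.torBound_of_hasTorAmplitudeIn Y b hY (a - n) b hamp N).1
  exact (HomologicalComplex.exactAt_iff_isZero_homology _ _).2
    (@ModuleCat.isZero_of_subsingleton _ _ _ ((subsingleton_HD_toD_iff _ l).1 ((isGE_iff _ (a - n)).1 h l hl)))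

end Groth.Agent.RelT
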