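import Groth.Agent.Lib.DGen9.Ext
import Groth.Agent.Lib.DGam9.Basic

/-! Gluing perfect objects along an affine open and transporting supported generators. -/

set_option autoImplicit false
set_option linter.unusedSectionVars false
set_option linter.style.haveILetI false
set_option backward.isDefEq.respectTransparency false
set_option backward.isDefEq.respectTransparency.types false
set_option maxHeartbeats 800000

universe u

open CategoryTheory CategoryTheory.Limits AlgebraicGeometry Pretriangulated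

attribute [local instance] HasDerivedCategory.standard

namespace Groth.Agent.DGen9

attribute [local instance] DBC9.hasRpush

variable {X : Scheme.{u}}

/-- All shifted maps from `P` vanish. -/
def Orth (P E : DCoh.D X) : Prop := ∀ (n : ℤ) (φ : P⟦n⟧ ⟶ E), φ = 0

theorem Orth.of_retract {P Q E : DCoh.D X} (i : Q ⟶ P) (r : P ⟶ Q) (hir : i ≫ r = 𝟙 Q) (h : Orth P E) :
    Orth Q E := fun n φ => by
  rw [← Category.id_comp φ, ← CategoryTheory.Functor.map_id, ← hir, Functor.map_comp, Category.assoc,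
    h n (r⟦n⟧' ≫ φ), comp_zero]

theorem Orth.iso_right {P E E' : DCoh.D X} (e : E ≅ E') (h : Orth P E) : Orth P E' := fun n φ => by
  rw [← cancel_mono e.inv, zero_comp]; exact h n _

theorem Orth.iso_left {P Q E : DCoh.D X} (e : P ≅ Q) (h : Orth P E) : Orth Q E :=
  h.of_retract e.inv e.hom e.inv_hom_id

theorem orth_of_isZero {P E : DCoh.D X} (h : IsZero E) : Orth P E := fun _ _ => h.eq_of_tgt _ _

/-- The generation property on a scheme. -/
def HasGen (X : Scheme.{u}) : Prop :=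
  ∀ T : Set X, IsClosed T → IsCompact Tᶜ → ∃ P : DCoh.D X, DCoh.IsPerfect P ∧ SuppOn T P ∧
    ∀ E : DCoh.D X, DCoh.IsQCohD E → SuppOn T E → Orth P E → IsZero E

theorem hasGen_affine (X : Scheme.{u}) [IsAffine X] : HasGen X := fun _ hT hTc => by
  obtain ⟨K, hK, -, hKs, h⟩ := exists_generator_affine hT hTc
  exact ⟨K, hK, hKs, h⟩

/-- Transport along isomorphisms. -/
theorem hasGen_of_iso {Y Y' : Scheme.{u}} (e : Y ≅ Y') (h : HasGen Y) : HasGen Y' := fun T hT hTc => by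
  have hpre : e.inv ⁻¹' (e.hom ⁻¹' T) = T := by
    ext y; simp
  obtain ⟨P, hP, hPT, hgen⟩ := h (e.hom ⁻¹' T) (hT.preimage e.hom.continuous)
    (e.hom.homeomorph.isCompact_preimage.2 hTc)
  refine ⟨(DPerf.resD e.inv).obj P, isPerfect_resD e.inv hP, ?_, fun E hE hET hO => ?_⟩
  · have := suppOn_resD e.inv hPT
    rwa [hpre] at this
  · have hz : IsZero ((DPerf.resD e.hom).obj E) := by
      refine hgen _ (DQC.isQCohD_resD e.hom hE) (suppOn_resD e.hom hET) fun n φ => ?_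
      haveI : (DPerf.resD e.inv).Faithful := inferInstanceAs ((resEquiv e).inverse.Faithful)
      apply (DPerf.resD e.inv).map_injective
      rw [Functor.map_zero, ← cancel_epi (((DPerf.resD e.inv).commShiftIso n).inv.app P),
        ← cancel_mono ((resEquiv e).unitIso.symm.app E).hom, comp_zero, zero_comp]
      exact hO n _
    exact ((DPerf.resD e.inv).map_isZero hz).of_iso ((resEquiv e).unitIso.app E)

set_option maxHeartbeats 3200000 in
/-- Gluing over an open and an affine open. -/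
theorem exists_glue [QuasiSeparatedSpace X] {U V : X.Opens} (hU : IsCompact (U : Set X))
    (hV : IsAffineOpen V) (hUV : U ⊔ V = ⊤) {T : Set X} (hT : IsClosed T) (hTc : IsCompact Tᶜ)
    {P : DCoh.D (U : Scheme.{u})} (hP : DCoh.IsPerfect P) (hPT : SuppOn (U.ι ⁻¹' T) P) :
    ∃ R : DCoh.D X, DCoh.IsPerfect R ∧ SuppOn T R ∧
      Nonempty ((DPerf.resD U.ι).obj R ≅ P ⊞ P⟦(1 : ℤ)⟧) := by
  haveI : IsAffine (V : Scheme.{u}) := hV
  haveI := quasiCompact_ι hV.isCompact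
  let W : (V : Scheme.{u}).Opens := V.ι ⁻¹ᵁ U
  have hW : IsCompact (W : Set V) := Scheme.Hom.isCompact_preimage V.ι (U := U) hU
  have hTV : IsCompact (V.ι ⁻¹' T)ᶜ := by
    rw [← Set.preimage_compl]; exact Scheme.Hom.isCompact_preimage V.ι (U := ⟨Tᶜ, hT.isOpen_compl⟩) hTc
  let i := V.ι ∣_ U
  have hcomm : ∀ w, U.ι (i w) = V.ι (W.ι w) := fun w => by
    have := congrArg (fun g : (W : Scheme.{u}) ⟶ X => g w) (morphismRestrict_ι V.ι U)
    simpa [i, W] using this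
  let F := (DPerf.resD i).obj P
  have hFT : SuppOn (W.ι ⁻¹' (V.ι ⁻¹' T)) F := suppOn_mono
    (fun w hw => show V.ι (W.ι w) ∈ T from hcomm w ▸ hw) (suppOn_resD i hPT)
  obtain ⟨G, hG, hGT, ⟨eG⟩⟩ :=
    exists_extension hW (hT.preimage V.ι.continuous) hTV (isPerfect_resD i hP) hFT
  let PP := P ⊞ P⟦(1 : ℤ)⟧
  haveI : PreservesBinaryBiproducts (DPerf.resD i) := preservesBinaryBiproducts_of_preservesBiproducts _
  let eW : (DPerf.resD W.ι).obj G ≅ (DPerf.resD i).obj PP :=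
    eG ≪≫ biprod.mapIso (Iso.refl _) (((DPerf.resD i).commShiftIso (1 : ℤ)).app P).symm ≪≫
      ((DPerf.resD i).mapBiprod P (P⟦(1 : ℤ)⟧)).symm
  let adjW := adjR W.ι
  obtain ⟨S, δ, ε, hS⟩ := distinguished_cocone_triangle (adjW.unit.app G)
  let M := (DCoh.Rpush U.ι).obj PP
  obtain ⟨c⟩ := DBC9.nonempty_res_rpush U.ι W.ι V.ι i (isPullback_morphismRestrict V.ι U).flip
  let ρ : (DPerf.resD V.ι).obj M ≅ (DCoh.Rpush W.ι).obj ((DPerf.resD W.ι).obj G) :=
    c.app PP ≪≫ (DCoh.Rpush W.ι).mapIso eW.symm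
  let adjV := adjR V.ι
  let f : M ⟶ (DCoh.Rpush V.ι).obj S := adjV.homEquiv _ _ (ρ.hom ≫ δ)
  obtain ⟨R, a, b, hR⟩ := distinguished_cocone_triangle₁ f
  haveI := isIso_resD_unit W.ι G
  have hS0 : IsZero ((DPerf.resD W.ι).obj S) := isZero_resD_cone W.ι hS
  obtain ⟨c'⟩ := DBC9.nonempty_res_rpush V.ι i U.ι W.ι (isPullback_morphismRestrict V.ι U)
  have hfU : IsZero ((DPerf.resD U.ι).obj ((DCoh.Rpush V.ι).obj S)) :=
    (DMV.isZero_rpush _ hS0).of_iso (c'.app S)
  haveI hIU : IsIso ((DPerf.resD U.ι).map a) :=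
    (Triangle.isZero₃_iff_isIso₁ _ ((DPerf.resD U.ι).map_distinguished _ hR)).1 hfU
  let eU : (DPerf.resD U.ι).obj R ≅ PP := asIso ((DPerf.resD U.ι).map a) ≪≫ resPushIso U.ι PP
  -- the restriction to `V`
  have eVS : Nonempty ((DPerf.resD V.ι).obj R ≅ G) := by
    have hres : (DPerf.resD V.ι).map f ≫ (resPushIso V.ι S).hom = ρ.hom ≫ δ :=
      (adjV.homEquiv_counit (g := f)).symm.trans ((adjV.homEquiv _ _).symm_apply_apply _)
    let e := isoTriangleOfIso₁₂ _ _ (rot_of_distTriang _ ((DPerf.resD V.ι).map_distinguished _ hR))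
      (rot_of_distTriang _ hS) ρ (resPushIso V.ι S) (by exact hres)
    exact ⟨(shiftFunctor (DCoh.D (V : Scheme.{u})) (1 : ℤ)).preimageIso (Triangle.π₃.mapIso e)⟩
  obtain ⟨eV⟩ := eVS
  have hPP : DCoh.IsPerfect PP :=
    isPerfect_obj₂ _ (binaryBiproductTriangle_distinguished P (P⟦(1 : ℤ)⟧)) hP (isPerfect_shiftD hP 1)
  have hPPT : SuppOn (U.ι ⁻¹' T) PP :=
    suppOn_triangle₂ _ (binaryBiproductTriangle_distinguished P (P⟦(1 : ℤ)⟧)) hPT (suppOn_shift hPT 1)
  have hcov : ∀ x : X, x ∈ U ∨ x ∈ V := fun x => by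
    have hx : x ∈ U ⊔ V := hUV ▸ trivial
    exact hx
  refine ⟨R, DPerf.isPerfect_iff_approx.2 fun x => ?_, suppOn_of_stalks fun x hx q => ?_, ⟨eU⟩⟩
  · rcases hcov x with hx | hx
    · obtain ⟨Z, k, hk, ⟨z, hz⟩, P', hP', α, hα⟩ :=
        (DPerf.isPerfect_iff_approx.1 (isPerfect_of_iso eU.symm hPP)) ⟨x, hx⟩
      exact ⟨Z, k ≫ U.ι, inferInstance, ⟨z, by simp [hz]⟩, P', hP', α ≫ (DPerf.resDComp U.ι k).hom.app R,
        hα.comp (DPerf.dcond_of_isIso _)⟩
    · obtain ⟨Z, k, hk, ⟨z, hz⟩, P', hP', α, hα⟩ :=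
        (DPerf.isPerfect_iff_approx.1 (isPerfect_of_iso eV.symm hG)) ⟨x, hx⟩
      exact ⟨Z, k ≫ V.ι, inferInstance, ⟨z, by simp [hz]⟩, P', hP', α ≫ (DPerf.resDComp V.ι k).hom.app R,
        hα.comp (DPerf.dcond_of_isIso _)⟩
  · rcases hcov x with hxU | hxV
    · exact (RHom.stalkZero_restrict_iff U.ι ⟨x, hxU⟩ _).1 (RHom.stalkZero_iso (DPerf.hdResIso U.ι R q)
        (stalkZero_of_suppOn (suppOn_of_iso eU.symm hPPT) (show (⟨x, hxU⟩ : U) ∉ U.ι ⁻¹' T from hx) q))
    · exact (RHom.stalkZero_restrict_iff V.ι ⟨x, hxV⟩ _).1 (RHom.stalkZero_iso (DPerf.hdResIso V.ι R q)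
        (stalkZero_of_suppOn (suppOn_of_iso eV.symm hGT) (show (⟨x, hxV⟩ : V) ∉ V.ι ⁻¹' T from hx) q))

set_option maxHeartbeats 3200000 in
/-- The induction step. -/
theorem hasGen_union [QuasiSeparatedSpace X] {U V : X.Opens} (hU : IsCompact (U : Set X))
    (hV : IsAffineOpen V) (hUV : U ⊔ V = ⊤) (hg : HasGen (U : Scheme.{u})) : HasGen X := fun T hT hTc => by
  haveI : IsAffine (V : Scheme.{u}) := hV
  haveI := quasiCompact_ι hU
  haveI := quasiCompact_ι hV.isCompact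
  obtain ⟨PU, hPU, hPUT, hgenU⟩ := hg (U.ι ⁻¹' T) (hT.preimage U.ι.continuous) (by
    rw [← Set.preimage_compl]; exact Scheme.Hom.isCompact_preimage U.ι (U := ⟨Tᶜ, hT.isOpen_compl⟩) hTc)
  obtain ⟨R, hR, hRT, ⟨eU⟩⟩ := exists_glue hU hV hUV hT hTc hPU hPUT
  have hcov : ∀ x : X, x ∈ U ∨ x ∈ V := fun x => by
    have hx : x ∈ U ⊔ V := hUV ▸ trivial
    exact hx
  have hT' : IsClosed (T ∩ (U : Set X)ᶜ) := hT.inter U.2.isClosed_compl
  have hT'c : IsCompact (T ∩ (U : Set X)ᶜ)ᶜ := by rw [Set.compl_inter, compl_compl]; exact hTc.union hU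
  have hT'V : T ∩ (U : Set X)ᶜ ⊆ (V : Set X) := fun x hx => (hcov x).resolve_left hx.2
  obtain ⟨Q, hQ, hQT, hgenV⟩ := hasGen_affine (V : Scheme.{u}) (V.ι ⁻¹' (T ∩ (U : Set X)ᶜ))
    (hT'.preimage V.ι.continuous) (by
      rw [← Set.preimage_compl]; exact Scheme.Hom.isCompact_preimage V.ι (U := ⟨_, hT'.isOpen_compl⟩) hT'c)
  let Q' := (DCoh.Rpush V.ι).obj Q
  have hQ' : DCoh.IsPerfect Q' := DMV.isPerfect_rpush_of_support V Q hQ _ hT' hT'V
    fun i => Set.image_subset_iff.2 (hQT i)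
  have hQ'T : SuppOn (T ∩ (U : Set X)ᶜ) Q' := suppOn_rpush V.ι hT' hQT
  refine ⟨Q' ⊞ R, isPerfect_obj₂ _ (binaryBiproductTriangle_distinguished Q' R) hQ' hR,
    suppOn_triangle₂ _ (binaryBiproductTriangle_distinguished Q' R)
      (suppOn_mono Set.inter_subset_left hQ'T) hRT, fun E hE hET hO => ?_⟩
  have hOQ : Orth Q' E := hO.of_retract biprod.inl biprod.fst biprod.inl_fst
  have hOR : Orth R E := hO.of_retract biprod.inr biprod.snd biprod.inr_snd
  let adjU := adjR U.ι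
  obtain ⟨A, a, b, hA⟩ := distinguished_cocone_triangle₁ (adjU.unit.app E)
  haveI := isIso_resD_unit U.ι E
  have hRU : DCoh.IsQCohD ((DCoh.Rpush U.ι).obj ((DPerf.resD U.ι).obj E)) :=
    isQCohD_rpushι hU (DQC.isQCohD_resD U.ι hE)
  have hAq : DCoh.IsQCohD A := isQCohD_obj₁ _ hA hE hRU
  have hA0 : IsZero ((DPerf.resD U.ι).obj A) :=
    (Triangle.isZero₁_iff_isIso₂ _ ((DPerf.resD U.ι).map_distinguished _ hA)).2
      (inferInstanceAs (IsIso ((DPerf.resD U.ι).map (adjU.unit.app E))))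
  have hAT : SuppOn (T ∩ (U : Set X)ᶜ) A := by
    refine suppOn_inter (suppOn_triangle₁ _ hA hET (suppOn_rpush U.ι hT (suppOn_resD U.ι hET))) ?_
    refine suppOn_mono (le_of_eq ?_) (suppOn_of_isZero_resD U.ι hA0)
    erw [Scheme.Opens.range_ι]
  have hOA : Orth Q' A := fun n φ => by
    have hz : IsZero ((DPerf.resD U.ι).obj (Q'⟦n⟧)) :=
      isZero_resD_of_suppOn U.ι (suppOn_shift hQ'T n) fun x h => h.2 x.2
    exact (DGam9.bijective_comp U.ι hz hA (Iso.refl _)).1 ((hOQ n (φ ≫ a)).trans zero_comp.symm)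
  obtain ⟨eA⟩ := DMV.nonempty_iso_rpush_restrict V (T ∩ (U : Set X)ᶜ) hT' hT'V A hAT
  have hAV : IsZero ((DPerf.resD V.ι).obj A) := by
    refine hgenV _ (DQC.isQCohD_resD V.ι hAq) (suppOn_resD V.ι hAT) fun n φ => ?_
    obtain ⟨_, _⟩ := DPush.exists_commShift_isTriangulated V.ι
    haveI := isIso_counit V.ι
    haveI : (DCoh.Rpush V.ι).Faithful := (adjR V.ι).fullyFaithfulROfIsIsoCounit.faithful
    apply (DCoh.Rpush V.ι).map_injective
    rw [Functor.map_zero, ← cancel_epi (((DCoh.Rpush V.ι).commShiftIso n).inv.app Q), ← cancel_mono eA.inv,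
      comp_zero, zero_comp]
    exact hOA n _
  have hA00 : IsZero A := (DMV.isZero_rpush _ hAV).of_iso eA
  haveI : IsIso (adjU.unit.app E) := (Triangle.isZero₁_iff_isIso₂ _ hA).1 hA00
  have hEU : IsZero ((DPerf.resD U.ι).obj E) := by
    refine hgenU _ (DQC.isQCohD_resD U.ι hE) (suppOn_resD U.ι hET) ?_
    have h : Orth ((DPerf.resD U.ι).obj R) ((DPerf.resD U.ι).obj E) := fun n φ => by
      rw [← cancel_epi (((DPerf.resD U.ι).commShiftIso n).hom.app R), comp_zero]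
      apply (adjU.homEquiv _ _).injective
      exact (hOR.iso_right (asIso (adjU.unit.app E)) n _).trans (hOR.iso_right (asIso (adjU.unit.app E)) n _).symm
    exact (h.iso_left eU).of_retract biprod.inl biprod.fst biprod.inl_fst
  exact (DMV.isZero_rpush _ hEU).of_iso (asIso (adjU.unit.app E))

end Groth.Agent.DGen9
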