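import Groth.Agent.Lib.DGen9.Gen

/-! Lifting maps from perfect objects across an affine open. -/

set_option autoImplicit false
set_option linter.unusedSectionVars false
set_option linter.style.haveILetI false
set_option backward.isDefEq.respectTransparency false
set_option backward.isDefEq.respectTransparency.types false
set_option maxHeartbeats 800000

universe u

open CategoryTheory CategoryTheory.Limits AlgebraicGeometry Pretriangulated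

attribute [local instance] HasDerivedCategory.standard

namespace Groth.Agent.DGen9

attribute [local instance] DBC9.hasRpush

/-- The cone of a split map. -/
theorem nonempty_cone_split {C : Type*} [Category* C] [HasZeroObject C] [Preadditive C] [HasShift C ℤ]
    [∀ n : ℤ, (shiftFunctor C n).Additive] [Pretriangulated C] {A B K F₁ F₂ : C}
    [HasBinaryBiproduct F₁ (F₂⟦(1 : ℤ)⟧)] {φ : A ⟶ B} {u : B ⟶ K} {v : K ⟶ A⟦(1 : ℤ)⟧}
    (hT : Triangle.mk φ u v ∈ distTriang C) (i : F₁ ⟶ B) (r : B ⟶ F₁) (hir : i ≫ r = 𝟙 F₁) (hφr : φ ≫ r = 0)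
    (hu : r ≫ i ≫ u = u) (j : F₂ ⟶ A) (s : A ⟶ F₂) (hjs : j ≫ s = 𝟙 F₂) (hjφ : j ≫ φ = 0)
    (hv : v ≫ (s ≫ j)⟦(1 : ℤ)⟧' = v) : Nonempty (K ≅ F₁ ⊞ F₂⟦(1 : ℤ)⟧) := by
  have hjs' : j⟦(1 : ℤ)⟧' ≫ s⟦(1 : ℤ)⟧' = 𝟙 (F₂⟦(1 : ℤ)⟧) := by
    rw [← Functor.map_comp, hjs, CategoryTheory.Functor.map_id]
  rw [Functor.map_comp] at hv
  have hexa : ∃ a : K ⟶ F₁, r = u ≫ a := Triangle.yoneda_exact₂ _ hT r hφr
  obtain ⟨a, ha⟩ := hexa
  have hexb : ∃ b : F₂⟦(1 : ℤ)⟧ ⟶ K, j⟦(1 : ℤ)⟧' = b ≫ v :=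
    Triangle.coyoneda_exact₁ _ hT (j⟦(1 : ℤ)⟧') (by
      show j⟦(1 : ℤ)⟧' ≫ φ⟦(1 : ℤ)⟧' = 0
      rw [← Functor.map_comp, hjφ, Functor.map_zero])
  obtain ⟨b, hb⟩ := hexb
  have huv : u ≫ v = 0 := comp_distTriang_mor_zero₂₃ _ hT
  let b' := b - b ≫ a ≫ i ≫ u
  have hb' : b' ≫ v = j⟦(1 : ℤ)⟧' := by
    simp only [b', Preadditive.sub_comp, Category.assoc, huv, comp_zero, sub_zero, hb]
  have hba : b' ≫ a = 0 := by
    simp only [b', Preadditive.sub_comp, Category.assoc]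
    rw [← ha, hir, Category.comp_id, sub_self]
  let f : K ⟶ F₁ ⊞ F₂⟦(1 : ℤ)⟧ := biprod.lift a (v ≫ s⟦(1 : ℤ)⟧')
  let g : F₁ ⊞ F₂⟦(1 : ℤ)⟧ ⟶ K := biprod.desc (i ≫ u) b'
  have hgf : g ≫ f = 𝟙 _ := by
    refine biprod.hom_ext' _ _ (biprod.hom_ext _ _ ?_ ?_) (biprod.hom_ext _ _ ?_ ?_)
    · simp [f, g, ← ha, hir]
    · simp [f, g, reassoc_of% huv]
    · simp [f, g, hba]
    · simp [f, g, reassoc_of% hb', hjs']
  have hfg : f ≫ g = a ≫ i ≫ u + v ≫ s⟦(1 : ℤ)⟧' ≫ b' := by simp [f, g, biprod.lift_desc]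
  let δ := 𝟙 K - f ≫ g
  have hδu : u ≫ δ = 0 := by
    simp only [δ, hfg, Preadditive.comp_sub, Category.comp_id, Preadditive.comp_add]
    rw [reassoc_of% huv, zero_comp, add_zero, ← Category.assoc, ← ha, hu, sub_self]
  have hδv : δ ≫ v = 0 := by
    simp only [δ, hfg, Preadditive.sub_comp, Category.id_comp, Preadditive.add_comp, Category.assoc, huv,
      comp_zero, zero_add, hb', hv, sub_self]
  have hw : ∃ w : A⟦(1 : ℤ)⟧ ⟶ K, δ = v ≫ w := Triangle.yoneda_exact₃ _ hT δ hδu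
  obtain ⟨w, hw⟩ := hw
  have hδ : δ ≫ δ = 0 := by
    calc δ ≫ δ = δ ≫ v ≫ w := by rw [← hw]
      _ = 0 := by rw [← Category.assoc, hδv, zero_comp]
  have hidem : δ ≫ δ = δ := by
    have h : (f ≫ g) ≫ f ≫ g = f ≫ g := by rw [Category.assoc, reassoc_of% hgf]
    simp only [δ, Preadditive.sub_comp, Preadditive.comp_sub, Category.id_comp, Category.comp_id, h, sub_self,
      sub_zero]
  exact ⟨⟨f, g, (sub_eq_zero.1 (hidem.symm.trans hδ)).symm, hgf⟩⟩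

variable {X : Scheme.{u}}

/-- Factoring through supported perfect objects, keeping a second support. -/
theorem exists_factor_affine₂ [IsAffine X] {T T' : Set X} (hT : IsClosed T) (hTc : IsCompact Tᶜ)
    (hT' : IsClosed T') (hTc' : IsCompact T'ᶜ) {A E : DCoh.D X} (hAq : DCoh.IsQCohD A) (hA : DCoh.IsPerfect A)
    (hAT : SuppOn T' A) (hE : DCoh.IsQCohD E) (hET : SuppOn T E) (α : A ⟶ E) :
    ∃ (C : DCoh.D X) (ι : A ⟶ C) (γ : C ⟶ E),
      DCoh.IsPerfect C ∧ SuppOn T C ∧ SuppOn T' C ∧ ι ≫ γ = α := by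
  obtain ⟨l, hl⟩ := exists_covers X.isoSpec hT hTc
  obtain ⟨l', hl'⟩ := exists_covers X.isoSpec hT' hTc'
  obtain ⟨MA, hMA, ⟨iA⟩⟩ := exists_perfect_tX X.isoSpec hAq hA
  obtain ⟨ME, ⟨iE⟩⟩ := exists_tX_iso X.isoSpec hE
  obtain ⟨β, (hβ : (tX X.isoSpec).map β = iA.hom ≫ α ≫ iE.inv)⟩ := (bijective_tX X.isoSpec MA ME).2 (iA.hom ≫ α ≫ iE.inv)
  obtain ⟨C, ι, γ, hC, hCs, hCb, -, hγ⟩ := exists_factor l hMA
    ((suppOn_tX_iff X.isoSpec hl ME).1 (suppOn_of_iso iE.symm hET)) β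
  refine ⟨(tX X.isoSpec).obj C, iA.inv ≫ (tX X.isoSpec).map ι, (tX X.isoSpec).map γ ≫ iE.hom,
    (isPerfect_tX_iff _ C).2 hC, (suppOn_tX_iff _ hl C).2 hCs, (suppOn_tX_iff _ hl' C).2 fun a ha =>
      hCb a ((suppOn_tX_iff X.isoSpec hl' MA).1 (suppOn_of_iso iA.symm hAT) a ha), ?_⟩
  rw [Category.assoc, ← Category.assoc ((tX X.isoSpec).map ι), ← Functor.map_comp, hγ, hβ]
  simp

set_option maxHeartbeats 3200000 in
/-- Lifting across an affine open. -/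
theorem exists_lift_step [QuasiSeparatedSpace X] {U V : X.Opens} (hU : IsCompact (U : Set X))
    (hV : IsAffineOpen V) (hUV : U ⊔ V = ⊤) {T : Set X} (hT : IsClosed T) (hTc : IsCompact Tᶜ)
    {A B : DCoh.D X} (hA : DCoh.IsPerfect A) (hAT : SuppOn T A) (hB : DCoh.IsQCohD B)
    (α : (DPerf.resD U.ι).obj A ⟶ (DPerf.resD U.ι).obj B) :
    ∃ (A₁ : DCoh.D X) (π : A₁ ⟶ A) (β : A₁ ⟶ B), DCoh.IsPerfect A₁ ∧ SuppOn T A₁ ∧
      IsIso ((DPerf.resD U.ι).map π) ∧ (DPerf.resD U.ι).map π ≫ α = (DPerf.resD U.ι).map β := by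
  haveI : IsAffine (V : Scheme.{u}) := hV
  haveI := quasiCompact_ι hV.isCompact
  let T₀ : Set X := (U : Set X)ᶜ
  have hT₀ : IsClosed T₀ := U.2.isClosed_compl
  have hT₀V : T₀ ⊆ (V : Set X) := fun x hx => by
    have h : x ∈ U ⊔ V := hUV ▸ trivial
    exact Or.resolve_left h hx
  have hpre : ∀ {Z : Set X}, IsClosed Z → IsCompact Zᶜ → IsCompact (V.ι ⁻¹' Z)ᶜ := fun {Z} hZ hZc => by
    rw [← Set.preimage_compl]
    exact Scheme.Hom.isCompact_preimage V.ι (U := ⟨Zᶜ, hZ.isOpen_compl⟩) hZc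
  let adj := adjR U.ι
  let adjV := adjR V.ι
  let a : A ⟶ (DCoh.Rpush U.ι).obj ((DPerf.resD U.ι).obj B) := adj.homEquiv _ _ α
  obtain ⟨S, δ, ε, hS⟩ := distinguished_cocone_triangle (adj.unit.app B)
  have hSq : DCoh.IsQCohD S :=
    DPush.isQCohD_obj₃ _ hS hB (isQCohD_rpushι hU (DQC.isQCohD_resD U.ι hB))
  haveI := isIso_resD_unit U.ι B
  have hST : SuppOn T₀ S := by
    refine suppOn_mono (le_of_eq ?_) (suppOn_of_isZero_resD U.ι (isZero_resD_cone U.ι hS))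
    erw [Scheme.Opens.range_ι]
  obtain ⟨eS⟩ := DMV.nonempty_iso_rpush_restrict V T₀ hT₀ hT₀V S hST
  obtain ⟨C, ι, γ, hC, hC₀, hCT, hιγ⟩ := exists_factor_affine₂ (hT₀.preimage V.ι.continuous)
    (hpre hT₀ (by rwa [compl_compl])) (hT.preimage V.ι.continuous) (hpre hT hTc)
    (isQCohD_of_isPerfect (isPerfect_resD V.ι hA)) (isPerfect_resD V.ι hA) (suppOn_resD V.ι hAT)
    (DQC.isQCohD_resD V.ι hSq) (suppOn_resD V.ι hST) ((adjV.homEquiv _ _).symm (a ≫ δ ≫ eS.hom))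
  let C' := (DCoh.Rpush V.ι).obj C
  let ι' : A ⟶ C' := adjV.homEquiv _ _ ι
  have hι' : ι' ≫ (DCoh.Rpush V.ι).map γ = a ≫ δ ≫ eS.hom := by
    rw [← adjV.homEquiv_naturality_right, hιγ, Equiv.apply_symm_apply]
  obtain ⟨A₁, π, ε', hA₁⟩ := distinguished_cocone_triangle₁ ι'
  have hC'0 : SuppOn T₀ C' := suppOn_rpush V.ι hT₀ hC₀
  haveI hπ : IsIso ((DPerf.resD U.ι).map π) :=
    (Triangle.isZero₃_iff_isIso₁ _ ((DPerf.resD U.ι).map_distinguished _ hA₁)).1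
      (isZero_resD_of_suppOn U.ι hC'0 fun x h => h x.2)
  have hC'p : DCoh.IsPerfect C' := DMV.isPerfect_rpush_of_support V C hC _ hT₀ hT₀V
    fun i => Set.image_subset_iff.2 (hC₀ i)
  have hex : ∃ β : A₁ ⟶ B, π ≫ a = β ≫ adj.unit.app B := Triangle.coyoneda_exact₂ _ hS (π ≫ a) (by
    show (π ≫ a) ≫ δ = 0
    rw [← cancel_mono eS.hom, zero_comp, Category.assoc, Category.assoc, ← hι',
      reassoc_of% (show π ≫ ι' = 0 from comp_distTriang_mor_zero₁₂ _ hA₁), zero_comp])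
  obtain ⟨β, hβ⟩ := hex
  refine ⟨A₁, π, β, isPerfect_obj₁ _ hA₁ hA hC'p, suppOn_triangle₁ _ hA₁ hAT (suppOn_rpush V.ι hT hCT), hπ,
    (adj.homEquiv _ _).injective ?_⟩
  rw [adj.homEquiv_naturality_left, adj.homEquiv_unit (f := (DPerf.resD U.ι).map β)]
  exact hβ.trans (adj.unit.naturality β)

set_option maxHeartbeats 3200000 in
/-- Extending `P ⊕ P⟦2k+1⟧`. -/
theorem exists_glue_odd [QuasiSeparatedSpace X] {U V : X.Opens} (hU : IsCompact (U : Set X))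
    (hV : IsAffineOpen V) (hUV : U ⊔ V = ⊤) {T : Set X} (hT : IsClosed T) (hTc : IsCompact Tᶜ)
    {P : DCoh.D (U : Scheme.{u})} (hP : DCoh.IsPerfect P) (hPT : SuppOn (U.ι ⁻¹' T) P) (k : ℕ) :
    ∃ R : DCoh.D X, DCoh.IsPerfect R ∧ SuppOn T R ∧
      Nonempty ((DPerf.resD U.ι).obj R ≅ P ⊞ P⟦(2 * k + 1 : ℤ)⟧) := by
  obtain ⟨R₀, hR₀, hR₀T, ⟨e₀⟩⟩ := exists_glue hU hV hUV hT hTc hP hPT
  let R' := DPerf.resD U.ι
  induction k with
  | zero => exact ⟨R₀, hR₀, hR₀T, ⟨e₀ ≪≫ biprod.mapIso (Iso.refl _) (eqToIso (by norm_num))⟩⟩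
  | succ k ih =>
    obtain ⟨Rk, hRk, hRkT, ⟨ek⟩⟩ := ih
    obtain ⟨c, hc⟩ : ∃ c : ℤ, (2 * k + 1 : ℤ) = c := ⟨_, rfl⟩
    rw [hc] at ek
    let Sh := shiftFunctor (DCoh.D (U : Scheme.{u})) c
    haveI : PreservesBinaryBiproducts Sh := preservesBinaryBiproducts_of_preservesBiproducts _
    let eA : R'.obj (R₀⟦c⟧) ≅ P⟦c⟧ ⊞ (P⟦(1 : ℤ)⟧)⟦c⟧ :=
      (R'.commShiftIso c).app R₀ ≪≫ Sh.mapIso e₀ ≪≫ Sh.mapBiprod P (P⟦(1 : ℤ)⟧)
    let φ₀ : R'.obj (R₀⟦c⟧) ⟶ R'.obj Rk := eA.hom ≫ biprod.fst ≫ biprod.inr ≫ ek.inv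
    obtain ⟨A₁, π, β, hA₁, hA₁T, hπ, hβ⟩ := exists_lift_step hU hV hUV hT hTc (isPerfect_shiftD hR₀ c)
      (suppOn_shift hR₀T c) (isQCohD_of_isPerfect hRk) φ₀
    obtain ⟨G, u, v, hG⟩ := distinguished_cocone_triangle β
    refine ⟨G, isPerfect_obj₃ _ hG hA₁ hRk, suppOn_triangle₃ _ hG hA₁T hRkT, ?_⟩
    let e₁ : R'.obj A₁ ≅ P⟦c⟧ ⊞ (P⟦(1 : ℤ)⟧)⟦c⟧ := @asIso _ _ _ _ (R'.map π) hπ ≪≫ eA
    have hmap : R'.map β = e₁.hom ≫ biprod.fst ≫ biprod.inr ≫ ek.inv := by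
      rw [← hβ]; simp [e₁, φ₀]
      rfl
    let T' := R'.mapTriangle.obj (Triangle.mk β u v)
    have hT' : T' ∈ distTriang _ := R'.map_distinguished _ hG
    obtain ⟨e⟩ := nonempty_cone_split (φ := T'.mor₁) (u := T'.mor₂) (v := T'.mor₃) hT'
      (biprod.inl ≫ ek.inv) (ek.hom ≫ biprod.fst) (by simp)
      (by
        show R'.map β ≫ _ = 0
        rw [hmap]; simp)
      (by
        have hz : biprod.inr ≫ ek.inv ≫ T'.mor₂ = 0 := by
          have h := comp_distTriang_mor_zero₁₂ _ hT'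
          change R'.map β ≫ T'.mor₂ = 0 at h
          rw [hmap] at h
          have h2 := congrArg ((biprod.inl ≫ e₁.inv) ≫ ·) h
          simpa using h2
        have htot := congrArg (fun z => ek.hom ≫ z ≫ ek.inv ≫ T'.mor₂) (biprod.total (X := P) (Y := P⟦c⟧))
        simp only [Preadditive.add_comp, Preadditive.comp_add, Category.assoc, hz, comp_zero, add_zero,
          Category.id_comp, Iso.hom_inv_id_assoc] at htot
        simpa using htot)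
      (biprod.inr ≫ e₁.inv) (e₁.hom ≫ biprod.snd) (by simp)
      (by
        show _ ≫ R'.map β = 0
        rw [hmap]; simp)
      (by
        have hz : T'.mor₃ ≫ (e₁.hom ≫ biprod.fst)⟦(1 : ℤ)⟧' = 0 := by
          have h := comp_distTriang_mor_zero₃₁ _ hT'
          change T'.mor₃ ≫ (R'.map β)⟦(1 : ℤ)⟧' = 0 at h
          rw [hmap] at h
          have h2 := congrArg (· ≫ (ek.hom ≫ biprod.snd)⟦(1 : ℤ)⟧') h
          simp only [Category.assoc, ← Functor.map_comp, zero_comp] at h2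
          simpa using h2
        have htot : e₁.hom ≫ biprod.fst ≫ biprod.inl ≫ e₁.inv + e₁.hom ≫ biprod.snd ≫ biprod.inr ≫ e₁.inv = 𝟙 _ := by
          have h := congrArg (fun z => e₁.hom ≫ z ≫ e₁.inv) (biprod.total (X := P⟦c⟧) (Y := (P⟦(1 : ℤ)⟧)⟦c⟧))
          simp only [Preadditive.add_comp, Preadditive.comp_add, Category.assoc] at h
          exact h.trans (by erw [Category.id_comp, e₁.hom_inv_id])
        have h3 := congrArg (fun z => T'.mor₃ ≫ z⟦(1 : ℤ)⟧') htot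
        simp only [Functor.map_add, Preadditive.comp_add, CategoryTheory.Functor.map_id, Category.comp_id] at h3
        rw [Functor.map_comp] at hz
        simp only [Functor.map_comp, Category.assoc] at h3 hz ⊢
        rw [reassoc_of% hz, zero_comp, zero_add] at h3
        refine h3.trans ?_
        erw [CategoryTheory.Functor.map_id, Category.comp_id])
    exact ⟨e ≪≫ biprod.mapIso (Iso.refl _)
      (((shiftFunctorAdd' _ c (1 : ℤ) (c + 1) rfl).app _).symm ≪≫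
        ((shiftFunctorAdd' _ (1 : ℤ) (c + 1) (2 * ((k + 1 : ℕ) : ℤ) + 1) (by rw [← hc]; push_cast; ring)).app P).symm)⟩

end Groth.Agent.DGen9
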