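import Groth.Agent.Lib.DBaseChange.TorAmp
import Groth.Agent.Lib.DBaseChange.ResLocal
import Mathlib.RingTheory.LocalRing.Module
import Mathlib.RingTheory.Localization.BaseChange
import Mathlib.Algebra.Module.FinitePresentation

/-!
Perfection near a point from the fibre.
-/

set_option autoImplicit false
set_option linter.style.haveILetI false
set_option backward.isDefEq.respectTransparency false
set_option backward.isDefEq.respectTransparency.types false

universe u

open CategoryTheory CategoryTheory.Limits TensorProduct

attribute [local instance] HasDerivedCategory.standard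

namespace Groth.Agent.RelT

open DMod

variable {P : Type u} [CommRing P]

/-- A complex of finite free modules exact in low degrees, also on the fibre, is perfect near the prime. -/
theorem exists_amp_near (Q : DRing.Cx P) (b : ℤ) [Q.IsStrictlyLE b]
    (hQ : ∀ i, Module.Finite P (Q.X i) ∧ Module.Free P (Q.X i)) (a : ℤ)
    (hex : ∀ l, l < a → Function.Exact (Q.d (l - 1) l).hom (Q.d l (l + 1)).hom) (q : Ideal P) [q.IsPrime]
    (hfib : ∀ l, l < a → Function.Exact ((Q.d (l - 1) l).hom.lTensor q.ResidueField)
      ((Q.d l (l + 1)).hom.lTensor q.ResidueField)) :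
    ∃ h : P, h ∉ q ∧ DRing.HasTorAmplitudeIn P a b
      (DRing.toD ((DBaseChange.tm (DBaseChange.algMod (algebraMap P (Localization.Away h)))).obj Q)) := by
  obtain ⟨c, rfl⟩ : ∃ c, c + 1 = a := ⟨a - 1, by omega⟩
  let d := (Q.d c (c + 1)).hom
  let I := LinearMap.range d
  let C := (Q.X (c + 1) : Type u) ⧸ I
  haveI := (hQ c).1
  haveI := (hQ (c + 1)).1
  haveI := (hQ (c + 1)).2
  haveI : Module.FinitePresentation P C :=
    Module.finitePresentation_of_free_of_surjective I.mkQ I.mkQ_surjective (by
      rw [Submodule.ker_mkQ]; exact Module.Finite.iff_fg.1 (inferInstanceAs (Module.Finite P I)))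
  let B := Localization.AtPrime q
  haveI : Module.Free B (B ⊗[P] C) := by
    refine Module.free_of_lTensor_residueField_injective (I.subtype.baseChange B) (I.mkQ.baseChange B)
      (LinearMap.lTensor_surjective B I.mkQ_surjective)
      (show Function.Exact (I.subtype.lTensor B) (I.mkQ.lTensor B) from
        lTensor_exact B (LinearMap.exact_subtype_mkQ I) I.mkQ_surjective) ?_
    let k := IsLocalRing.ResidueField B
    have hinj : Function.Injective (I.subtype.lTensor k) := by
      rw [injective_iff_map_eq_zero]
      intro z hz
      obtain ⟨w, rfl⟩ := LinearMap.lTensor_surjective k d.surjective_rangeRestrict z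
      rw [← LinearMap.comp_apply, ← LinearMap.lTensor_comp, LinearMap.subtype_comp_codRestrict] at hz
      obtain ⟨v, rfl⟩ := ((hfib c (by omega)) w).1 hz
      rw [← LinearMap.comp_apply, ← LinearMap.lTensor_comp]
      have h0 : d.rangeRestrict ∘ₗ (Q.d (c - 1) c).hom = 0 := LinearMap.ext fun x => Subtype.ext <| by
        show Q.d c (c + 1) (Q.d (c - 1) c x) = 0
        rw [← ModuleCat.comp_apply, Q.d_comp_d]; rfl
      rw [h0, LinearMap.lTensor_zero, LinearMap.zero_apply]
    let e := AlgebraTensorModule.cancelBaseChange P B B k I
    let e' := AlgebraTensorModule.cancelBaseChange P B B k (Q.X (c + 1))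
    have key : ∀ z, e' ((I.subtype.baseChange B).lTensor k z) = I.subtype.lTensor k (e z) := fun z => by
      induction z using TensorProduct.induction_on with
      | zero => simp
      | add x y hx hy => simp only [map_add, hx, hy]
      | tmul r y =>
        induction y using TensorProduct.induction_on with
        | zero => simp
        | add x y hx hy => simp only [TensorProduct.tmul_add, map_add, hx, hy]
        | tmul s m => simp [e, e']
    exact fun x y hxy => e.injective (hinj (by rw [← key, ← key, hxy]))
  haveI : IsLocalizedModule q.primeCompl (TensorProduct.mk P B C 1) :=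
    (isLocalizedModule_iff_isBaseChange q.primeCompl B _).2 (TensorProduct.isBaseChange P C B)
  obtain ⟨h, hh, hfree, -⟩ := Module.FinitePresentation.exists_free_localizedModule_powers q.primeCompl
    (TensorProduct.mk P B C 1) B
  refine ⟨h, hh, ?_⟩
  haveI := hfree
  let Ah := Localization.Away h
  let F := DBaseChange.algMod (algebraMap P Ah)
  haveI hF : Module.Flat P F :=
    DBaseChange.flat_algMod _ (RingHom.flat_algebraMap_iff.2 (IsLocalization.flat _ (Submonoid.powers h)))
  have hCh : Module.Flat P (C ⊗[P] F) := by
    haveI : Module.Flat Ah (Ah ⊗[P] C) :=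
      Module.Flat.of_linearEquiv (LocalizedModule.equivTensorProduct (Submonoid.powers h) C).symm
    haveI : Module.Flat P Ah := IsLocalization.flat _ (Submonoid.powers h)
    haveI : Module.Flat P (Ah ⊗[P] C) := Module.Flat.trans P Ah _
    let eF : F ≃ₗ[P] Ah :=
      { toFun := fun x => x, invFun := fun x => x, left_inv := fun _ => rfl, right_inv := fun _ => rfl,
        map_add' := fun _ _ => rfl
        map_smul' := fun r x => (Algebra.smul_def r (show Ah from x)).symm }
    exact Module.Flat.of_linearEquiv ((TensorProduct.congr (LinearEquiv.refl P C) eF).trans (TensorProduct.comm P C Ah))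
  let X := (DBaseChange.tm F).obj Q
  haveI : X.IsStrictlyLE b := (CochainComplex.isStrictlyLE_iff _ b).2 fun i hi =>
    Functor.map_isZero (MonoidalCategory.tensorRight F) (Q.isZero_of_isStrictlyLE b i hi)
  have hXex : ∀ l, l < c + 1 → X.ExactAt l := fun l hl => by
    rw [HomologicalComplex.exactAt_iff' _ (l - 1) l (l + 1) (by simp) (by simp),
      ShortComplex.ShortExact.moduleCat_exact_iff_function_exact]
    exact Module.Flat.rTensor_exact (M := F) (hex l hl)
  haveI : (DRing.toD X).IsGE (c + 1) := (DerivedCategory.isGE_Q_obj_iff (C := ModuleCat.{u} P) X _).2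
    ((CochainComplex.isGE_iff _ _).2 hXex)
  obtain ⟨e⟩ := exists_truncFrom_iso X (c + 1)
  refine ⟨truncFrom X (c + 1), vanishesOutside_truncFrom X (c + 1) b,
    truncFrom_mem modClass_flat X (c + 1) (fun i _ => ?_) ?_, ⟨e⟩⟩
  · haveI := (hQ i).2
    exact (inferInstance : Module.Flat P ((Q.X i : Type u) ⊗[P] F))
  · have hh : ∀ j, j = c → Module.Flat P (X.X (c + 1) ⧸ LinearMap.range (X.d j (c + 1)).hom) := by
      intro j hj
      subst hj
      have hk : LinearMap.ker (I.mkQ.rTensor F) = LinearMap.range (X.d j (j + 1)).hom :=
        LinearMap.exact_iff.1 (rTensor_exact F (LinearMap.exact_map_mkQ_range d) I.mkQ_surjective)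
      exact Module.Flat.of_linearEquiv ((Submodule.quotEquivOfEq _ _ hk.symm).trans
        ((I.mkQ.rTensor F).quotKerEquivOfSurjective (LinearMap.rTensor_surjective F I.mkQ_surjective)))
    have := hh (c + 1 - 1) (by omega)
    exact Module.Flat.of_linearEquiv (truncFromBotEquiv X (c + 1)).symm

end Groth.Agent.RelT
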