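import Groth.Agent.Lib.DBaseChange.ResLocal
import Groth.Agent.Lib.RelPCS8.StalkId
import Groth.Agent.Lib.DPerf.Tilde
import Mathlib.RingTheory.Localization.BaseChange

universe u
open CategoryTheory CategoryTheory.Limits AlgebraicGeometry
attribute [local instance] HasDerivedCategory.standard
set_option backward.isDefEq.respectTransparency false
set_option backward.isDefEq.respectTransparency.types false
namespace Groth.Agent.RelT
variable {A : CommRingCat.{u}}

/-- The canonical map to the local ring. -/
noncomputable def ψ (x : Spec A) : (A : Type u) →+* ((Spec A).presheaf.stalk x : Type u) := (StructureSheaf.toStalk A x).hom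

theorem isLocalization_ψ (x : Spec A) :
    letI := (ψ x).toAlgebra
    IsLocalization x.asIdeal.primeCompl ((Spec A).presheaf.stalk x) :=
  (inferInstance : IsLocalization.AtPrime ((Spec.structureSheaf A).presheaf.stalk x) x.asIdeal)

theorem toStalk_smul (N : ModuleCat.{u} A) (x : Spec A) (a : A) (z : (tilde N).presheaf.stalk x) :
    a • z = ψ x a • z := by
  letI : Algebra A ((Spec A).presheaf.stalk x) := (ψ x).toAlgebra
  haveI : IsScalarTower A ((Spec A).presheaf.stalk x) ((tilde N).presheaf.stalk x) :=
    ⟨fun r a z => by rw [Algebra.smul_def, mul_smul]; rfl⟩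
  exact (algebraMap_smul _ a z).symm

/-- Sections into the stalk, linearly. -/
noncomputable def unitSt (N : ModuleCat.{u} A) (x : Spec A) :
    N ⟶ (ModuleCat.restrictScalars.{u} (ψ x)).obj ((DerSch.stalkFunctor (Spec A) x).obj (tilde N)) :=
  ModuleCat.ofHom (Y := ↥((ModuleCat.restrictScalars.{u} (ψ x)).obj ((DerSch.stalkFunctor (Spec A) x).obj (tilde N))))
    { toFun := fun m => tilde.toStalk N x m
      map_add' := fun m m' => map_add (tilde.toStalk N x).hom m m'
      map_smul' := fun a m => ((tilde.toStalk N x).hom.map_smul a m).trans (toStalk_smul N x a _) }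

theorem toStalk_eq_germ (N : ModuleCat.{u} A) (x : Spec A) (m : N) :
    tilde.toStalk N x m = (tilde N).presheaf.germ ⊤ x trivial (tilde.toOpen N ⊤ m) := rfl

theorem unitSt_nat {M N : ModuleCat.{u} A} (g : M ⟶ N) (x : Spec A) :
    g ≫ unitSt N x = unitSt M x ≫ (ModuleCat.restrictScalars.{u} (ψ x)).map
      ((DerSch.stalkFunctor (Spec A) x).map ((tilde.functor A).map g)) := by
  ext m
  change tilde.toStalk N x (g m) = (DerSch.stalkFunctor (Spec A) x).map (tilde.map g) (tilde.toStalk M x m)
  rw [toStalk_eq_germ, toStalk_eq_germ]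
  erw [DerSch.stalkFunctor_map_germ]
  congr 1
  exact (congrArg (fun h => (ConcreteCategory.hom h) m) (tilde.toOpen_map_app g ⊤)).symm

/-- Stalks of a tilde are extensions of scalars. -/
noncomputable def stalkTildeIso (x : Spec A) :
    ModuleCat.extendScalars.{u, u, u} (ψ x) ≅ tilde.functor A ⋙ DerSch.stalkFunctor (Spec A) x :=
  NatIso.ofComponents
    (fun N => by
      let h := ((ModuleCat.extendRestrictScalarsAdj.{u, u, u} (ψ x)).homEquiv N _).symm (unitSt N x)
      haveI : IsIso h := by
        letI : Algebra A ((Spec A).presheaf.stalk x) := (ψ x).toAlgebra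
        haveI := isLocalization_ψ x
        haveI : IsScalarTower A ((Spec A).presheaf.stalk x) ((tilde N).presheaf.stalk x) :=
          ⟨fun r a z => by rw [Algebra.smul_def, mul_smul]; rfl⟩
        let e := (IsLocalizedModule.isBaseChange x.asIdeal.primeCompl ((Spec A).presheaf.stalk x) (tilde.toStalk N x).hom).equiv
        rw [ConcreteCategory.isIso_iff_bijective]
        have key : ∀ z : TensorProduct A ((Spec A).presheaf.stalk x) N, h.hom z = e z := fun z => by
          induction z using TensorProduct.induction_on with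
          | zero => exact (map_zero h.hom).trans (map_zero e).symm
          | add p q hp hq => exact ((map_add h.hom p q).trans (congrArg₂ (· + ·) hp hq)).trans (map_add e p q).symm
          | tmul s m => exact (IsBaseChange.equiv_tmul (IsLocalizedModule.isBaseChange x.asIdeal.primeCompl ((Spec A).presheaf.stalk x) (tilde.toStalk N x).hom) s m).symm
        exact (show (h.hom : _ → _) = e from funext key) ▸ e.bijective
      exact asIso h)
    fun {M N} g => by
      apply ((ModuleCat.extendRestrictScalarsAdj.{u, u, u} (ψ x)).homEquiv M _).injective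
      change ((ModuleCat.extendRestrictScalarsAdj.{u, u, u} (ψ x)).homEquiv M _) (_ ≫ ((ModuleCat.extendRestrictScalarsAdj.{u, u, u} (ψ x)).homEquiv N _).symm (unitSt N x)) =
        ((ModuleCat.extendRestrictScalarsAdj.{u, u, u} (ψ x)).homEquiv M _) (((ModuleCat.extendRestrictScalarsAdj.{u, u, u} (ψ x)).homEquiv M _).symm (unitSt M x) ≫ _)
      rw [Adjunction.homEquiv_naturality_left, Adjunction.homEquiv_naturality_right,
        Equiv.apply_symm_apply, Equiv.apply_symm_apply]
      exact unitSt_nat g x

/-- Extension after restriction along a localization. -/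
theorem isIso_counit {R S : Type u} [CommRing R] [CommRing S] (α : R →+* S) (M : Submonoid R)
    (hα : letI := α.toAlgebra; IsLocalization M S) : IsIso (ModuleCat.extendRestrictScalarsAdj.{u, u, u} α).counit := by
  letI := α.toAlgebra
  haveI : IsLocalization M S := hα
  haveI : ∀ N, IsIso ((ModuleCat.extendRestrictScalarsAdj.{u, u, u} α).counit.app N) := fun N => by
    letI : Module R N := Module.compHom _ α
    haveI : IsScalarTower R S N := ⟨fun r s n => by
      show (r • s) • n = α r • (s • n)
      show (α r * s) • n = α r • (s • n)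
      exact mul_smul _ _ _⟩
    let h := (ModuleCat.extendRestrictScalarsAdj.{u, u, u} α).counit.app N
    let e := IsLocalization.moduleLid M S N
    rw [ConcreteCategory.isIso_iff_bijective]
    have key : ∀ z : TensorProduct R S N, h.hom z = e z := fun z => by
      induction z using TensorProduct.induction_on with
      | zero => exact (map_zero h.hom).trans (map_zero e).symm
      | add p q hp hq => exact ((map_add h.hom p q).trans (congrArg₂ (· + ·) hp hq)).trans (map_add e p q).symm
      | tmul s m => rfl
    exact (show (h.hom : _ → _) = e from funext key) ▸ e.bijective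
  exact NatIso.isIso_of_isIso_app _

/-- Amplitude over a localization can be computed over the ring. -/
theorem torAmp_of_restrict {R S : Type u} [CommRing R] [CommRing S] (α : R →+* S) (M : Submonoid R)
    (hα : letI := α.toAlgebra; IsLocalization M S) (L : DRing.Cx S) {a b : ℤ}
    (h : DRing.HasTorAmplitudeIn R a b (DRing.toD ((DRing.restrictCx α).obj L))) :
    DRing.HasTorAmplitudeIn S a b (DRing.toD L) := by
  letI := α.toAlgebra
  haveI : IsLocalization M S := hα
  obtain ⟨E, hv, hE, ⟨e⟩⟩ := h
  haveI := IsLocalization.flat S M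
  let ext := ModuleCat.extendScalars.{u, u, u} α
  haveI : PreservesFiniteLimits ext :=
    ModuleCat.preservesFiniteLimits_extendScalars_of_flat.{u} (show α.Flat from (inferInstance : Module.Flat R S))
  haveI : PreservesFiniteColimits ext :=
    haveI := (ModuleCat.extendRestrictScalarsAdj.{u, u, u} α).leftAdjoint_preservesColimits
    inferInstance
  haveI := isIso_counit α M hα
  let c : ModuleCat.restrictScalars.{u} α ⋙ ext ≅ 𝟭 _ :=
    asIso (ModuleCat.extendRestrictScalarsAdj.{u, u, u} α).counit
  refine ⟨(ext.mapHomologicalComplex _).obj E, fun i hi => ext.map_isZero (hv i hi), fun i => ?_,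
    ⟨(ext.mapDerivedCategoryFactors.app E).symm ≪≫ ext.mapDerivedCategory.mapIso e ≪≫
      ext.mapDerivedCategoryFactors.app _ ≪≫ DerivedCategory.Q.mapIso
        ((NatIso.mapHomologicalComplex c (ComplexShape.up ℤ)).app L)⟩⟩
  haveI := hE i
  exact Module.Flat.baseChange R S (E.X i)

section Rel
variable {R : CommRingCat.{u}} (φ : R ⟶ A)

theorem flat_ψ (x : Spec A) : (ψ x).Flat := by
  letI := (ψ x).toAlgebra
  haveI := isLocalization_ψ x
  exact (IsLocalization.flat ((Spec A).presheaf.stalk x) x.asIdeal.primeCompl : Module.Flat A _)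

theorem ψ_comp (x : Spec A) :
    (ψ x).comp φ.hom = ((Spec.map φ).stalkMap x).hom.comp (ψ ((Spec.map φ) x)) :=
  RingHom.ext fun a => (stalkMap_toStalk_apply φ x a).symm

/-- Relative tor amplitude of a tilde complex. -/
theorem hasTorAmplitude_tilde_iff (K : DRing.Cx A) (a b : ℤ) :
    DerSch.HasTorAmplitude (Spec.map φ) a b (((tilde.functor A).mapHomologicalComplex (ComplexShape.up ℤ)).obj K) ↔
      DRing.HasTorAmplitudeIn R a b (DRing.toD ((DRing.restrictCx φ.hom).obj K)) := by
  let s : Spec A → Spec R := fun x => (Spec.map φ) x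
  have eq : ∀ x, ((DerSch.stalkCxOver (Spec.map φ) x).obj (((tilde.functor A).mapHomologicalComplex _).obj K)) ≅
      (DRing.restrictCx ((Spec.map φ).stalkMap x).hom).obj ((DBaseChange.extCx (ψ x)).obj K) := fun x =>
    (NatIso.mapHomologicalComplex (Functor.isoWhiskerRight (stalkTildeIso x).symm
      (ModuleCat.restrictScalars.{u} ((Spec.map φ).stalkMap x).hom)) (ComplexShape.up ℤ)).app K
  have er : ∀ x, (DRing.restrictCx (ψ (s x))).obj ((DRing.restrictCx ((Spec.map φ).stalkMap x).hom).obj
      ((DBaseChange.extCx (ψ x)).obj K)) ≅ (DRing.restrictCx (((Spec.map φ).stalkMap x).hom.comp (ψ (s x)))).obj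
      ((DBaseChange.extCx (ψ x)).obj K) := fun x =>
    ((NatIso.mapHomologicalComplex (ModuleCat.restrictScalarsComp.{u} (ψ (s x)) ((Spec.map φ).stalkMap x).hom)
      (ComplexShape.up ℤ)).app _).symm
  constructor
  · intro h
    haveI : ∀ x, Module.Flat A (DBaseChange.algMod (ψ x)) := fun x => DBaseChange.flat_algMod _ (flat_ψ x)
    refine DBaseChange.torAmp_res_of_cover φ.hom K (fun x : Spec A => DBaseChange.algMod (ψ x))
      (fun x => DBaseChange.algUnit (ψ x)) (fun I hI => ?_) fun x => ?_
    · by_contra hne
      obtain ⟨m, hm, hle⟩ := Ideal.exists_le_maximal I fun e => hne (e ▸ Submodule.mem_top)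
      let x : Spec A := ⟨m, hm.isPrime⟩
      have h1 := hI x
      rw [DBaseChange.algUnit_one] at h1
      have h2 := (Ideal.map_mono hle) (DBaseChange.mem_of_one_mem_smul_top h1)
      letI := (ψ x).toAlgebra
      haveI : IsLocalization.AtPrime ((Spec A).presheaf.stalk x) x.asIdeal := isLocalization_ψ x
      have h3 : (1 : (Spec A).presheaf.stalk x) ∈ IsLocalRing.maximalIdeal ((Spec A).presheaf.stalk x) :=
        IsLocalization.AtPrime.map_eq_maximalIdeal x.asIdeal ((Spec A).presheaf.stalk x) ▸ h2
      exact (IsLocalRing.maximalIdeal.isMaximal _).ne_top ((Ideal.eq_top_iff_one _).2 h3)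
    · refine (DBaseChange.torAmp_res_ext_iff φ.hom (ψ x) _ (ψ_comp φ x).symm K a b).1 ?_
      letI := (ψ (s x)).toAlgebra
      haveI := isLocalization_ψ (s x)
      haveI : Module.Flat R ((Spec R).presheaf.stalk (s x)) := IsLocalization.flat _ (s x).asIdeal.primeCompl
      have hflat : DRing.HasTorAmplitudeIn R (-((0 : ℕ) : ℤ)) 0 (Dual.inD R ((Spec R).presheaf.stalk (s x))) :=
        TorBal.amplitude_of_hasTorDimLE _ 0 ((TorBal.flat_iff_hasTorDimLE_zero _).2 inferInstance)
      have := DBaseChange.hasTorAmplitudeIn_restrict hflat _ a b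
        (DBaseChange.hasTorAmplitudeIn_of_iso (DerivedCategory.Q.mapIso (eq x)) (h x))
      rw [Nat.cast_zero, sub_zero] at this
      exact DBaseChange.hasTorAmplitudeIn_of_iso
        ((ModuleCat.restrictScalars.{u} (ψ (s x))).mapDerivedCategoryFactors.app _ ≪≫
          DerivedCategory.Q.mapIso (er x)) this
  · intro h x
    haveI := DBaseChange.flat_algMod _ (flat_ψ x)
    have h1 := (DBaseChange.torAmp_res_ext_iff φ.hom (ψ x) _ (ψ_comp φ x).symm K a b).2
      (DBaseChange.torAmp_res_flat φ.hom K (DBaseChange.algMod (ψ x)) h)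
    letI := (ψ (s x)).toAlgebra
    haveI := isLocalization_ψ (s x)
    refine DBaseChange.hasTorAmplitudeIn_of_iso (DerivedCategory.Q.mapIso (eq x).symm)
      (torAmp_of_restrict (ψ (s x)) (s x).asIdeal.primeCompl (isLocalization_ψ (s x)) _ ?_)
    exact DBaseChange.hasTorAmplitudeIn_of_iso (DerivedCategory.Q.mapIso (er x).symm) h1

theorem hasTorAmplitude_congr {X Y : Scheme.{u}} (f : X ⟶ Y) {F G : CochainComplex X.Modules ℤ}
    (e : DCoh.toD X F ≅ DCoh.toD X G) {a b : ℤ} (h : DerSch.HasTorAmplitude f a b F) :
    DerSch.HasTorAmplitude f a b G := fun x => by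
  haveI := (RelPCS8.StalkId.preservesFiniteLimits_stalkOver f x).1
  haveI := (RelPCS8.StalkId.preservesFiniteLimits_stalkOver f x).2
  exact DBaseChange.hasTorAmplitudeIn_of_iso (RelPCS8.StalkId.stalkToDIso x f e) (h x)

theorem hasTorAmplitude_tildeD_iff [PreservesFiniteLimits (tilde.functor A)]
    (M : DerivedCategory (ModuleCat.{u} A)) (F : CochainComplex (Spec A).Modules ℤ)
    (e : DCoh.toD (Spec A) F ≅ (DCoh.tildeD A).obj M) (a b : ℤ) :
    DerSch.HasTorAmplitude (Spec.map φ) a b F ↔
      DRing.HasTorAmplitudeIn R a b ((DRing.restrictD φ.hom).obj M) := by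
  let Kc := DerivedCategory.Q.objPreimage M
  let eK : DerivedCategory.Q.obj Kc ≅ M := DerivedCategory.Q.objObjPreimageIso M
  let eF : DCoh.toD _ F ≅ DCoh.toD _ (((tilde.functor A).mapHomologicalComplex (ComplexShape.up ℤ)).obj Kc) :=
    e ≪≫ (tilde.functor A).mapDerivedCategory.mapIso eK.symm ≪≫ (tilde.functor A).mapDerivedCategoryFactors.app Kc
  let eR : DRing.toD ((DRing.restrictCx φ.hom).obj Kc) ≅ (DRing.restrictD φ.hom).obj M :=
    ((ModuleCat.restrictScalars.{u} φ.hom).mapDerivedCategoryFactors.app Kc).symm ≪≫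
      (DRing.restrictD φ.hom).mapIso eK
  have h := hasTorAmplitude_tilde_iff φ Kc a b
  exact ⟨fun hF => DBaseChange.hasTorAmplitudeIn_of_iso eR (h.1 (hasTorAmplitude_congr _ eF hF)),
    fun hM => hasTorAmplitude_congr _ eF.symm (h.2 (DBaseChange.hasTorAmplitudeIn_of_iso eR.symm hM))⟩

end Rel

end Groth.Agent.RelT
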