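import Groth.Agent.Lib.DMV.Perfect
import Groth.Agent.Lib.TensorMod.IdealMod
import Groth.Agent.Lib.AdmBlowUp4.Ideals
import Groth.Prelude.Def_PerfAux
import Mathlib.AlgebraicGeometry.Morphisms.Affine

/-! The resolution property implies that the intersection of two affine opens is affine. -/

set_option autoImplicit false
set_option backward.isDefEq.respectTransparency false
set_option backward.isDefEq.respectTransparency.types false

universe u

open CategoryTheory CategoryTheory.Limits AlgebraicGeometry Opposite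

namespace Groth.Agent.DGen9

variable {X : Scheme.{u}}

/-- A finite locally free module on an affine scheme is a retract of a free one, as a decomposition of the identity. -/
theorem exists_decomp [IsAffine X] {M : X.Modules} (hM : FlatMod.IsFinLocFree M) :
    ∃ (n : ℕ) (p : Fin n → (M ⟶ Coh.structureModule X)) (v : Fin n → (Coh.structureModule X ⟶ M)),
      ∑ i, p i ≫ v i = 𝟙 M := by
  classical
  have hW := isAffineOpen_top X
  obtain ⟨n, ⟨r⟩⟩ := DMV.exists_retract_free _ (M2.isFinLocFree_restrict X.isoSpec.inv hM)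
  let e : M ≅ (M.restrict X.isoSpec.inv).restrict X.isoSpec.hom :=
    (Scheme.Modules.restrictFunctorId (X := X)).symm.app M ≪≫
      (Scheme.Modules.restrictFunctorCongr X.isoSpec.hom_inv_id.symm ≪≫ Scheme.Modules.restrictFunctorComp _ _).app M
  let r₁ : Retract M (FlatMod.freeMod X n) :=
    ((Retract.ofIso e).trans (r.map (Scheme.Modules.restrictFunctor X.isoSpec.hom))).trans
      (Retract.ofIso (M2.freeModRestrictIso X.isoSpec.hom n))
  refine ⟨n, fun i => r₁.i ≫ Sigma.π (fun _ : Fin n => Coh.structureModule X) i, fun i => Sigma.ι (fun _ : Fin n => Coh.structureModule X) i ≫ r₁.r, ?_⟩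
  have h1 : 𝟙 (FlatMod.freeMod X n) = ∑ i : Fin n,
      Sigma.π (fun _ : Fin n => Coh.structureModule X) i ≫ Sigma.ι (fun _ : Fin n => Coh.structureModule X) i :=
    Sigma.hom_ext _ _ fun j => by
      rw [Preadditive.comp_sum, Finset.sum_eq_single j (fun i _ hi => by
        rw [← Category.assoc, Sigma.ι_π_of_ne (fun _ : Fin n => Coh.structureModule X) hi.symm, zero_comp])
        (fun h => absurd (Finset.mem_univ j) h)]
      simp
  refine Eq.trans ?_ r₁.retract
  conv_rhs => rw [← Category.id_comp r₁.r, h1, Preadditive.sum_comp, Preadditive.comp_sum]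
  exact Finset.sum_congr rfl fun i _ => (Category.assoc _ _ _).trans
    (congrArg (r₁.i ≫ ·) (Category.assoc _ _ _).symm)

theorem app_sum {M N : X.Modules} {ι : Type*} (s : Finset ι) (f : ι → (M ⟶ N)) (W : X.Opens) (m : Γ(M, W)) :
    (∑ i ∈ s, f i).app W m = ∑ i ∈ s, (f i).app W m := by
  classical
  induction s using Finset.induction_on with
  | empty => rfl
  | insert a s ha ih => rw [Finset.sum_insert ha, Finset.sum_insert ha, ← ih]; rfl

/-- A finite locally free module has partition-of-unity data on an affine scheme. -/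
theorem exists_unit_sum [IsAffine X] {M : X.Modules} (hM : FlatMod.IsFinLocFree M) (t : M ⟶ Coh.structureModule X)
    (W : X.Opens) (m : Γ(M, W)) (hm : t.app W m = (1 : Γ(X, W))) :
    ∃ (n : ℕ) (g : Fin n → Γ(M, ⊤)) (a : Fin n → Γ(X, W)),
      ∑ i, a i * X.presheaf.map (homOfLE (le_top : W ≤ ⊤)).op (t.app ⊤ (g i)) = 1 := by
  obtain ⟨n, p, v, hpv⟩ := exists_decomp hM
  refine ⟨n, fun i => (v i).app ⊤ (1 : Γ(X, ⊤)), fun i => (show Γ(X, W) from (p i).app W m), ?_⟩
  have key : ∀ i, t.app W ((p i ≫ v i).app W m) =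
      (show Γ(X, W) from (p i).app W m) * X.presheaf.map (homOfLE (le_top : W ≤ ⊤)).op (t.app ⊤ ((v i).app ⊤ (1 : Γ(X, ⊤)))) := by
    intro i
    let c : Γ(X, W) := (p i).app W m
    have h1 : (v i).app W (c : Γ(X, W)) = c • (v i).app W (1 : Γ(X, W)) := by
      refine Eq.trans ?_ (Scheme.Modules.Hom.app_smul (v i) c (1 : Γ(X, W)))
      exact congrArg _ (mul_one c).symm
    have h2 : (v i).app W (1 : Γ(X, W)) = M1.mres M (le_top : W ≤ ⊤) ((v i).app ⊤ (1 : Γ(X, ⊤))) := by
      refine Eq.trans ?_ (M1.app_mres (v i) _ _)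
      exact congrArg _ (map_one (X.presheaf.map (homOfLE (le_top : W ≤ ⊤)).op).hom).symm
    change t.app W ((v i).app W c) = _
    rw [h1, Scheme.Modules.Hom.app_smul, h2, M1.app_mres]
    rfl
  calc ∑ i, (show Γ(X, W) from (p i).app W m) * X.presheaf.map (homOfLE (le_top : W ≤ ⊤)).op (t.app ⊤ ((v i).app ⊤ (1 : Γ(X, ⊤))))
      = t.app W ((∑ i, p i ≫ v i).app W m) := by
        rw [app_sum]
        refine Eq.trans ?_ (map_sum (t.app W).hom _ _).symm
        exact Finset.sum_congr rfl fun i _ => (key i).symm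
    _ = (1 : Γ(X, W)) := by rw [hpv]; exact hm

/-- The resolution property implies that the intersection of two affine opens is affine. -/
theorem affine_inter [CompactSpace X] [QuasiSeparatedSpace X] (hX : PerfAux.HasResolutionProperty X)
    {U V : X.Opens} (hU : IsAffineOpen U) (hV : IsAffineOpen V) : IsAffineOpen (U ⊓ V) := by
  classical
  obtain ⟨I, hI, hsupp⟩ := AdmBlowUp4.exists_ideal_support_eq X U hU.isCompact
  have hft : CohB1.IsFT (ClSub.idealMod I) := M1.isFT_of_finite_sections (M2.isQCoh_idealMod I) fun W hW => by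
    let φ : Γ(ClSub.idealMod I, W) →ₗ[Γ(X, W)] Γ(X, W) :=
      { toFun := M2.idealIncl I
        map_add' := M2.idealIncl_add I
        map_smul' := fun r a => M2.idealIncl_smul I r a }
    have hr : LinearMap.range φ = I.ideal ⟨W, hW⟩ := SetLike.coe_injective (M2.range_idealIncl I ⟨W, hW⟩)
    haveI : Module.Finite Γ(X, W) (LinearMap.range φ) := Module.Finite.iff_fg.2 (hr ▸ hI ⟨W, hW⟩)
    exact Module.Finite.equiv (LinearEquiv.ofInjective φ (M2.idealIncl_injective I W)).symm
  obtain ⟨E, π, hE, hπ⟩ := hX _ (M2.isQCoh_idealMod I) hft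
  let t : E ⟶ Coh.structureModule X := π ≫ ClSub.idealModι I
  have htop : I.ideal ⟨U, hU⟩ = ⊤ := by
    rw [← Ideal.span_eq (I.ideal ⟨U, hU⟩), ← hU.self_le_iSup_basicOpen_iff]
    intro x hx
    have hn : x ∉ I.support := fun h => (hsupp.le h : x ∈ (U : Set X)ᶜ) hx
    rw [I.mem_support_iff_of_mem (U := ⟨U, hU⟩) hx, Scheme.mem_zeroLocus_iff] at hn
    push Not at hn
    obtain ⟨f, hf, hxf⟩ := hn
    exact TopologicalSpace.Opens.mem_iSup.2 ⟨⟨f, hf⟩, hxf⟩
  obtain ⟨e₀, he₀⟩ : (1 : Γ(X, U)) ∈ Set.range (M2.idealIncl I (U := U)) := by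
    rw [M2.range_idealIncl I ⟨U, hU⟩, htop]; trivial
  obtain ⟨e, he⟩ := M1.app_surjective_affine_of_isQCoh (M2.isQCoh_of_isFinLocFree hE) (M2.isQCoh_idealMod I) π hU e₀
  have hte : t.app U e = (1 : Γ(X, U)) := (congrArg ((ClSub.idealModι I).app U) he).trans he₀
  haveI : IsAffine (V : Scheme.{u}) := hV
  let W : (V : Scheme.{u}).Opens := V.ι ⁻¹ᵁ U
  have hWU : V.ι ''ᵁ W ≤ U := by
    rw [Scheme.Hom.image_preimage_eq_opensRange_inf]; exact inf_le_right
  let t' : E.restrict V.ι ⟶ Coh.structureModule (V : Scheme.{u}) :=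
    (Scheme.Modules.restrictFunctor V.ι).map t ≫ (Scheme.Modules.restrictUnitIso V.ι).hom
  obtain ⟨n, g, a, hga⟩ := exists_unit_sum (M2.isFinLocFree_restrict V.ι hE) t' W (M1.mres E hWU e) (by
    have h1 : t.app (V.ι ''ᵁ W) (M1.mres E hWU e) = (1 : Γ(X, V.ι ''ᵁ W)) := by
      rw [M1.app_mres, hte]
      exact map_one (X.presheaf.map (homOfLE hWU).op).hom
    refine (congrArg ((Scheme.Modules.restrictUnitIso V.ι).hom.app W) h1).trans ?_
    exact map_one (V.ι.appIso W).hom.hom)
  let f : Fin n → Γ((V : Scheme.{u}), ⊤) := fun i => t'.app ⊤ (g i)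
  have hf : ∀ i, (V : Scheme.{u}).basicOpen (f i) ≤ W := by
    intro i x hx
    by_contra hxU
    let h : Γ(X, V.ι ''ᵁ ⊤) := t.app (V.ι ''ᵁ ⊤) (g i)
    have hVt : IsAffineOpen (V.ι ''ᵁ ⊤) := by rw [Scheme.Opens.ι_image_top]; exact hV
    have hh : h ∈ I.ideal ⟨_, hVt⟩ := (M2.range_idealIncl I ⟨_, hVt⟩).le ⟨π.app _ (g i), rfl⟩
    have hxm : V.ι x ∈ V.ι ''ᵁ ⊤ := ⟨x, trivial, rfl⟩
    have hxU' : V.ι x ∈ (U : Set X)ᶜ := hxU
    have hxs := (Scheme.IdealSheafData.mem_support_iff_of_mem (I := I) (U := ⟨_, hVt⟩) hxm).1 (hsupp.ge hxU')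
    rw [Scheme.mem_zeroLocus_iff] at hxs
    refine hxs h hh ?_
    have h2 : V.ι x ∈ V.ι ''ᵁ (V : Scheme.{u}).basicOpen (f i) := ⟨x, hx, rfl⟩
    have h3 : (V.ι.appIso ⊤).inv (f i) = h := by
      change (V.ι.appIso ⊤).inv ((V.ι.appIso ⊤).hom h) = h
      rw [← ConcreteCategory.comp_apply, Iso.hom_inv_id]
      rfl
    rw [Scheme.image_basicOpen, h3] at h2
    exact h2
  have hWa : IsAffineOpen W := by
    refine isAffineOpen_of_isAffineOpen_basicOpen _
      (Set.range fun i => (V : Scheme.{u}).presheaf.map (homOfLE (le_top : W ≤ ⊤)).op (f i)) ?_ ?_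
    · rw [Ideal.eq_top_iff_one, ← hga]
      exact Ideal.sum_mem _ fun i _ => Ideal.mul_mem_left _ _ (Ideal.subset_span ⟨i, rfl⟩)
    · rintro _ ⟨i, rfl⟩
      rw [Scheme.basicOpen_res, inf_eq_right.2 (hf i)]
      exact (isAffineOpen_top _).basicOpen _
  have := hWa.image_of_isOpenImmersion V.ι
  rwa [Scheme.Hom.image_preimage_eq_opensRange_inf, Scheme.Opens.opensRange_ι, inf_comm] at this

end Groth.Agent.DGen9
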