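import Groth.Agent.Lib.DGen9.ResCluster
import Mathlib.CategoryTheory.Localization.Predicate
import Mathlib.Algebra.Homology.HomotopyCofiber

/-! Perfect objects as a localization of strictly perfect complexes. -/

set_option autoImplicit false
set_option linter.unusedSectionVars false
set_option linter.style.haveILetI false
set_option backward.isDefEq.respectTransparency false
set_option backward.isDefEq.respectTransparency.types false

universe u

open CategoryTheory CategoryTheory.Limits AlgebraicGeometry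

attribute [local instance] HasDerivedCategory.standard

namespace Groth.Agent.DGen9.ResP

variable {X : Scheme.{u}}

/-- Strictly perfect complexes. -/
abbrev SP (X : Scheme.{u}) : ObjectProperty (CochainComplex X.Modules ℤ) := fun E => DCoh.IsStrictlyPerfect E

/-- Quasi-isomorphisms of strictly perfect complexes. -/
abbrev WSP (X : Scheme.{u}) : MorphismProperty (SP X).FullSubcategory :=
  (HomologicalComplex.quasiIso X.Modules (ComplexShape.up ℤ)).inverseImage (SP X).ι

theorem wsp_comp {A B C : (SP X).FullSubcategory} {f : A ⟶ B} {g : B ⟶ C} (hf : WSP X f) (hg : WSP X g) :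
    WSP X (f ≫ g) :=
  MorphismProperty.comp_mem (HomologicalComplex.quasiIso X.Modules (ComplexShape.up ℤ)) _ _ hf hg

theorem isStrictlyPerfect_biprod {E F : CochainComplex X.Modules ℤ} (hE : DCoh.IsStrictlyPerfect E)
    (hF : DCoh.IsStrictlyPerfect F) : DCoh.IsStrictlyPerfect (E ⊞ F) := by
  obtain ⟨⟨a, b, hv⟩, hf⟩ := hE
  obtain ⟨⟨c, d, hv'⟩, hf'⟩ := hF
  exact ⟨⟨min a c, max b d, fun i hi => IsZero.of_iso
      (biprod_isZero_iff _ _ |>.2 ⟨hv i (by omega), hv' i (by omega)⟩) (HomologicalComplex.biprodXIso E F i)⟩,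
    fun i => M2.isFinLocFree_of_iso (HomologicalComplex.biprodXIso E F i).symm
      (KFlat.Sch.isFinLocFree_biprod (hf i) (hf' i))⟩

/-- Homotopic maps agree in any functor inverting quasi-isomorphisms. -/
theorem map_eq_of_homotopy {D : Type*} [Category D] (L : (SP X).FullSubcategory ⥤ D)
    (hL : (WSP X).IsInvertedBy L) {A B : (SP X).FullSubcategory} {a b : A ⟶ B} (h : Homotopy a.hom b.hom) :
    L.map a = L.map b := by
  have hc : ∀ j : ℤ, ∃ i, (ComplexShape.up ℤ).Rel i j := fun j => ⟨j - 1, by simp⟩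
  let K := A.obj
  let Cy : (SP X).FullSubcategory := ⟨K.cylinder, DPerf.isStrictlyPerfect_cone (biprod.lift (𝟙 K) (-𝟙 K))
    A.property (isStrictlyPerfect_biprod A.property A.property)⟩
  let π : Cy ⟶ A := ObjectProperty.homMk (HomologicalComplex.cylinder.π K)
  let i₀ : A ⟶ Cy := ObjectProperty.homMk (HomologicalComplex.cylinder.ι₀ K)
  let i₁ : A ⟶ Cy := ObjectProperty.homMk (HomologicalComplex.cylinder.ι₁ K)
  let d : Cy ⟶ B := ObjectProperty.homMk (HomologicalComplex.cylinder.desc a.hom b.hom h)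
  haveI : IsIso (L.map π) := hL π (by
    change HomologicalComplex.quasiIso X.Modules (ComplexShape.up ℤ) (HomologicalComplex.cylinder.π K)
    rw [HomologicalComplex.mem_quasiIso_iff]
    exact inferInstanceAs (QuasiIso (HomologicalComplex.cylinder.homotopyEquiv K hc).hom))
  have h₀₁ : L.map i₀ = L.map i₁ := by
    rw [← cancel_mono (L.map π), ← L.map_comp, ← L.map_comp]
    congr 1
    exact ObjectProperty.hom_ext _ ((HomologicalComplex.cylinder.ι₀_π (K := K)).trans (HomologicalComplex.cylinder.ι₁_π (K := K)).symm)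
  have ha : i₀ ≫ d = a := ObjectProperty.hom_ext _ (HomologicalComplex.cylinder.ι₀_desc _ _ h)
  have hb : i₁ ≫ d = b := ObjectProperty.hom_ext _ (HomologicalComplex.cylinder.ι₁_desc _ _ h)
  rw [← ha, ← hb, L.map_comp, L.map_comp, h₀₁]

variable [CompactSpace X] [QuasiSeparatedSpace X] (hX : PerfAux.HasResolutionProperty X)

include hX in
theorem map_eq_of_Q {A B : (SP X).FullSubcategory} {a b : A ⟶ B} (h : Qd.map a.hom = Qd.map b.hom) :
    (WSP X).Q.map a = (WSP X).Q.map b := by
  obtain ⟨G, γ, hG, hγ, ⟨hh⟩⟩ := exists_homotopy hX A.property B.property a.hom b.hom h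
  let γ' : (⟨G, hG⟩ : (SP X).FullSubcategory) ⟶ A := ObjectProperty.homMk γ
  haveI : IsIso ((WSP X).Q.map γ') := (WSP X).Q_inverts γ' hγ
  rw [← cancel_epi ((WSP X).Q.map γ'), ← Functor.map_comp, ← Functor.map_comp]
  exact map_eq_of_homotopy _ (WSP X).Q_inverts hh

include hX in
/-- Roofs in the full subcategory. -/
theorem exists_roof_sp {A B : (SP X).FullSubcategory} (α : Qd.obj A.obj ⟶ Qd.obj B.obj) :
    ∃ (C : (SP X).FullSubcategory) (g : C ⟶ A) (h : C ⟶ B), WSP X g ∧ Qd.map g.hom ≫ α = Qd.map h.hom := by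
  obtain ⟨G, g, h, hG, hg, he⟩ := exists_roof hX A.property B.property α
  exact ⟨⟨G, hG⟩, ObjectProperty.homMk g, ObjectProperty.homMk h, hg, he⟩

theorem isIso_Qd {A B : (SP X).FullSubcategory} {w : A ⟶ B} (hw : WSP X w) : IsIso (Qd.map w.hom) :=
  (DerivedCategory.isIso_Q_map_iff_quasiIso _ w.hom).2 hw

include hX in
/-- Every morphism of the localization is a roof. -/
theorem exists_fraction {A B : (SP X).FullSubcategory} (f : (WSP X).Q.obj A ⟶ (WSP X).Q.obj B) :
    ∃ (C : (SP X).FullSubcategory) (g : C ⟶ A) (h : C ⟶ B), WSP X g ∧ (WSP X).Q.map g ≫ f = (WSP X).Q.map h := by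
  let P : MorphismProperty (WSP X).Localization := fun U V f =>
    ∃ (C : (SP X).FullSubcategory) (g : C ⟶ U.as.obj) (h : C ⟶ V.as.obj), WSP X g ∧
      (WSP X).Q.map g ≫ f = (WSP X).Q.map h
  haveI : P.IsStableUnderComposition := ⟨fun {U V W} f₁ f₂ ⟨C, g, h, hg, he⟩ ⟨C', g', h', hg', he'⟩ => by
    haveI := isIso_Qd hg'
    obtain ⟨C'', c, e, hc, hce⟩ := exists_roof_sp hX (A := C) (B := C') (Qd.map h.hom ≫ inv (Qd.map g'.hom))
    have hk : (WSP X).Q.map (c ≫ h) = (WSP X).Q.map (e ≫ g') := map_eq_of_Q hX (by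
      change Qd.map (c.hom ≫ h.hom) = Qd.map (e.hom ≫ g'.hom)
      rw [Functor.map_comp, Functor.map_comp, ← hce]
      simp only [Category.assoc, IsIso.inv_hom_id, Category.comp_id])
    refine ⟨C'', c ≫ g, e ≫ h', wsp_comp hc hg, ?_⟩
    simp only [Functor.map_comp] at hk ⊢
    rw [Category.assoc, reassoc_of% he, reassoc_of% hk]
    exact congrArg _ he'⟩
  have hP : P = ⊤ := Localization.Construction.morphismProperty_eq_top P
    (fun A B a => ⟨A, 𝟙 A, a, MorphismProperty.id_mem _ _, by
      rw [CategoryTheory.Functor.map_id]; exact Category.id_comp _⟩)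
    (fun A B w hw => ⟨A, w, 𝟙 A, hw, (Localization.Construction.wIso w hw).hom_inv_id.trans
      ((WSP X).Q.map_id A).symm⟩)
  have : P f := hP ▸ trivial
  exact this

include hX in
theorem isLocalization (h : ∀ E : (SP X).FullSubcategory, DCoh.IsPerfect (((SP X).ι ⋙ DerivedCategory.Q).obj E)) :
    (ObjectProperty.lift (fun K : DCoh.D X => DCoh.IsPerfect K) ((SP X).ι ⋙ DerivedCategory.Q) h).IsLocalization
      (WSP X) := by
  let P : ObjectProperty (DCoh.D X) := fun K => DCoh.IsPerfect K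
  let F := P.lift ((SP X).ι ⋙ DerivedCategory.Q) h
  have hF : (WSP X).IsInvertedBy F := fun A B w hw => by
    haveI : IsIso (P.ι.map (F.map w)) := isIso_Qd hw
    exact isIso_of_reflects_iso _ P.ι
  let G := Localization.Construction.lift F hF
  have hfac : (WSP X).Q ⋙ G = F := Localization.Construction.fac F hF
  have hG : ∀ {A B : (SP X).FullSubcategory} (a : A ⟶ B), (G.map ((WSP X).Q.map a)).hom = Qd.map a.hom := fun a => by
    have := Functor.congr_hom hfac a
    rw [Functor.comp_map] at this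
    rw [this]
    change 𝟙 _ ≫ Qd.map a.hom ≫ 𝟙 _ = _
    rw [Category.id_comp, Category.comp_id]
  haveI : G.Full := ⟨fun {U V} α => by
    obtain ⟨C, g, e, hg, he⟩ := exists_roof_sp hX (A := U.as.obj) (B := V.as.obj) α.hom
    haveI : IsIso ((WSP X).Q.map g) := (WSP X).Q_inverts g hg
    refine ⟨inv ((WSP X).Q.map g) ≫ (WSP X).Q.map e, ?_⟩
    haveI := isIso_Qd hg
    rw [← cancel_epi (G.map ((WSP X).Q.map g)), ← G.map_comp, IsIso.hom_inv_id_assoc]
    apply ObjectProperty.hom_ext
    refine (hG e).trans (he.symm.trans ?_)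
    exact (congrArg (· ≫ α.hom) (hG g)).symm⟩
  haveI : G.Faithful := ⟨fun {U V} f f' hff => by
    obtain ⟨C, g, e, hg, he⟩ := exists_fraction hX (A := U.as.obj) (B := V.as.obj) f
    haveI : IsIso ((WSP X).Q.map g) := (WSP X).Q_inverts g hg
    refine (cancel_epi ((WSP X).Q.map g)).1 (he.trans ?_)
    obtain ⟨C', c, e', hc, he'⟩ := exists_fraction hX (A := C) (B := V.as.obj) ((WSP X).Q.map g ≫ f')
    haveI : IsIso ((WSP X).Q.map c) := (WSP X).Q_inverts c hc
    refine (cancel_epi ((WSP X).Q.map c)).1 (Eq.trans ?_ he'.symm)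
    rw [← Functor.map_comp]
    refine map_eq_of_Q hX ?_
    have h1 : G.map ((WSP X).Q.map (c ≫ e)) = G.map ((WSP X).Q.map e') := by
      rw [← he', Functor.map_comp (WSP X).Q, ← he]
      simp only [Functor.map_comp, hff]
    rw [← hG, ← hG, h1]⟩
  haveI : G.EssSurj := ⟨fun K => by
    obtain ⟨E, hE, ⟨i⟩⟩ := exists_strictlyPerfect hX K.property
    exact ⟨(WSP X).Q.obj ⟨E, hE⟩, ⟨P.isoMk i⟩⟩⟩
  haveI : G.IsEquivalence := {}
  exact Functor.IsLocalization.of_equivalence_target (WSP X).Q (WSP X) _ G.asEquivalence (eqToIso hfac)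

end Groth.Agent.DGen9.ResP
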