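import Groth.Agent.Lib.DCompact9.Perfect
import Groth.Agent.Lib.DQC.Proj
import Mathlib.Algebra.Homology.DerivedCategory.Linear

/-! Maps from perfect complexes into complexes with torsion cohomology. -/

set_option autoImplicit false
set_option linter.unusedSectionVars false
set_option linter.style.haveILetI false
set_option backward.isDefEq.respectTransparency false
set_option backward.isDefEq.respectTransparency.types false

universe u

open CategoryTheory CategoryTheory.Limits CategoryTheory.Pretriangulated CategoryTheory.Triangulated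

attribute [local instance] HasDerivedCategory.standard

namespace Groth.Agent.DGen9

open DMod DBaseChange DCompact9

variable {R : Type u} [CommRing R]

/-- `R` in degree `i`. -/
noncomputable abbrev pt (i : ℤ) : Dual.D R :=
  (DerivedCategory.singleFunctor (ModuleCat.{u} R) i).obj (ModuleCat.of R R)

theorem isPerfect_inD : DRing.IsPerfect R (Dual.inD R R) :=
  ⟨(HomologicalComplex.single (ModuleCat.{u} R) (ComplexShape.up ℤ) 0).obj (ModuleCat.of R R), 0, 0,
    fun i hi => isZero_single_X (by omega) _, fun i => by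
      by_cases hi : i = 0
      · subst hi
        exact modClass_finiteProjective.equiv
          (HomologicalComplex.singleObjXSelf (ComplexShape.up ℤ) (0 : ℤ) (ModuleCat.of R R)).symm.toLinearEquiv
          ⟨Module.Finite.self R, inferInstanceAs (Module.Projective R R)⟩
      · have := ModuleCat.subsingleton_of_isZero (isZero_single_X (n := 0) hi (ModuleCat.of R R))
        exact modClass_finiteProjective.subsingleton _,
    ⟨((DerivedCategory.singleFunctorIsoCompQ (ModuleCat.{u} R) 0).app _).symm⟩⟩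

theorem isPerfect_pt (i : ℤ) : DRing.IsPerfect R (pt (R := R) i) :=
  isPerfect_of_iso (singleShiftIso i (ModuleCat.of R R)) (isPerfect_shift _ isPerfect_inD)

/-- An object without classes is zero. -/
theorem isZero_of_pt {E : Dual.D R} (h : ∀ (i : ℤ) (x : pt i ⟶ E), x = 0) : IsZero E := by
  haveI : IsIso (0 : E ⟶ E) := (DerivedCategory.isIso_iff _ _).2 fun i => by
    have hz : IsZero ((DerivedCategory.homologyFunctor (ModuleCat.{u} R) i).obj E) := by
      haveI : Subsingleton (ModuleCat.of R R ⟶ (DerivedCategory.homologyFunctor (ModuleCat.{u} R) i).obj E) :=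
        haveI : Subsingleton (pt (R := R) i ⟶ E) := ⟨fun x y => (h i x).trans (h i y).symm⟩
        (DQC.bijective_θ_projective (R := CommRingCat.of R) (ModuleCat.of R R) i E).2.subsingleton
      haveI : Subsingleton ((DerivedCategory.homologyFunctor (ModuleCat.{u} R) i).obj E : Type u) :=
        ⟨fun x y => by
          have := Subsingleton.elim (ModuleCat.ofHom (LinearMap.toSpanSingleton R _ x) :
            ModuleCat.of R R ⟶ (DerivedCategory.homologyFunctor (ModuleCat.{u} R) i).obj E)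
            (ModuleCat.ofHom (LinearMap.toSpanSingleton R _ y))
          simpa using congrArg (fun t => t.hom (1 : R)) this⟩
      exact ModuleCat.isZero_of_subsingleton _
    exact ⟨0, hz.eq_of_src _ _, hz.eq_of_src _ _⟩
  exact (IsZero.iff_id_eq_zero E).2 (by rw [← IsIso.hom_inv_id (0 : E ⟶ E), zero_comp])

/-- Degree `i` classes of `E` are killed by powers of `a`. -/
def Tors (a : R) (E : Dual.D R) (i : ℤ) : Prop := ∀ x : pt i ⟶ E, ∃ n : ℕ, a ^ n • x = 0

/-- Maps out of `A` are killed by powers of `a` when classes in degrees `[lo, hi]` are. -/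
def KillRange (A : Dual.D R) (lo hi : ℤ) : Prop :=
  ∀ (a : R) (E : Dual.D R), (∀ i, lo ≤ i → i ≤ hi → Tors a E i) → ∀ α : A ⟶ E, ∃ n : ℕ, a ^ n • α = 0

theorem killRange_pt (i : ℤ) : KillRange (pt (R := R) i) i i := fun _ _ h α => h i le_rfl le_rfl α

theorem killRange_of_iso {A B : Dual.D R} (e : A ≅ B) {lo hi : ℤ} (h : KillRange A lo hi) : KillRange B lo hi :=
  fun a E hE α => by
    obtain ⟨n, hn⟩ := h a E hE (e.hom ≫ α)
    rw [← Linear.comp_smul] at hn
    exact ⟨n, (cancel_epi e.hom).1 (hn.trans comp_zero.symm)⟩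

theorem killRange_mono {A : Dual.D R} {lo hi lo' hi' : ℤ} (h₁ : lo' ≤ lo) (h₂ : hi ≤ hi')
    (h : KillRange A lo hi) : KillRange A lo' hi' := fun a E hE => h a E fun i h₃ h₄ => hE i (by omega) (by omega)

theorem killRange_retract {A B : Dual.D R} (i : A ⟶ B) (p : B ⟶ A) (hip : i ≫ p = 𝟙 A) {lo hi : ℤ}
    (h : KillRange B lo hi) : KillRange A lo hi := fun a E hE α => by
  obtain ⟨n, hn⟩ := h a E hE (p ≫ α)
  refine ⟨n, ?_⟩
  have := congrArg (i ≫ ·) hn
  simpa [reassoc_of% hip] using this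

theorem killRange_triangle₂ (T : Triangle (Dual.D R)) (hT : T ∈ distTriang _) {lo hi : ℤ}
    (h₁ : KillRange T.obj₁ lo hi) (h₃ : KillRange T.obj₃ lo hi) : KillRange T.obj₂ lo hi := fun a E hE α => by
  obtain ⟨n, hn⟩ := h₁ a E hE (T.mor₁ ≫ α)
  obtain ⟨g, hg⟩ := Triangle.yoneda_exact₂ _ hT (a ^ n • α) (by rw [Linear.comp_smul, hn])
  obtain ⟨m, hm⟩ := h₃ a E hE g
  refine ⟨m + n, ?_⟩
  rw [pow_add, mul_smul, hg, ← Linear.comp_smul, hm, comp_zero]

theorem tors_shift {a : R} {E : Dual.D R} (n : ℤ) {i : ℤ} (h : Tors a E (i + n)) : Tors a (E⟦n⟧) i := fun x => by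
  let e : pt (R := R) i ≅ (pt (i + n))⟦n⟧ :=
    (((DerivedCategory.singleFunctors (ModuleCat.{u} R)).shiftIso n i (i + n) (by omega)).app _).symm
  obtain ⟨y, hy⟩ := (shiftFunctor (Dual.D R) n).map_surjective (e.inv ≫ x)
  obtain ⟨m, hm⟩ := h y
  refine ⟨m, (cancel_epi e.inv).1 ?_⟩
  rw [Linear.comp_smul, comp_zero, ← hy, ← Functor.map_smul, hm, Functor.map_zero]

theorem killRange_shift {A : Dual.D R} {lo hi : ℤ} (h : KillRange A lo hi) (n : ℤ) :
    KillRange (A⟦n⟧) (lo - n) (hi - n) := fun a E hE α => by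
  obtain ⟨β, hβ⟩ := (shiftFunctor (Dual.D R) n).map_surjective (α ≫ (shiftNegShift E n).inv)
  obtain ⟨m, hm⟩ := h a (E⟦-n⟧) (fun i h₁ h₂ => tors_shift (-n) (hE _ (by omega) (by omega))) β
  refine ⟨m, (cancel_mono (shiftNegShift E n).inv).1 ?_⟩
  rw [Linear.smul_comp, zero_comp, ← hβ, ← Functor.map_smul, hm, Functor.map_zero]

/-- Perfect objects have a bounded range. -/
theorem exists_killRange {A : Dual.D R} (hA : DRing.IsPerfect R A) : ∃ lo hi : ℤ, KillRange A lo hi := by
  haveI : ObjectProperty.IsClosedUnderIsomorphisms (fun K : Dual.D R => ∃ lo hi : ℤ, KillRange K lo hi) :=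
    ⟨fun e ⟨lo, hi, h⟩ => ⟨lo, hi, killRange_of_iso e h⟩⟩
  refine S7010.result R (fun K => ∃ lo hi : ℤ, KillRange K lo hi) ⟨0, 0, killRange_pt 0⟩
    (fun K n ⟨lo, hi, h⟩ => ⟨_, _, killRange_shift h n⟩) (fun T hT ⟨l, h, h₁⟩ ⟨l', h', h₃⟩ => ?_)
    (fun X Y _ ⟨lo, hi, h⟩ => ⟨lo, hi, killRange_retract biprod.inl biprod.fst biprod.inl_fst h⟩) A hA
  exact ⟨min l l', max h h', killRange_triangle₂ T hT (killRange_mono (min_le_left _ _) (le_max_left _ _) h₁)
    (killRange_mono (min_le_right _ _) (le_max_right _ _) h₃)⟩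

/-- All classes are killed by powers of `a`. -/
def Supp (a : R) (E : Dual.D R) : Prop := ∀ i, Tors a E i

theorem supp_shift {a : R} {E : Dual.D R} (h : Supp a E) (n : ℤ) : Supp a (E⟦n⟧) := fun _ => tors_shift n (h _)

theorem supp_of_iso {a : R} {E E' : Dual.D R} (e : E ≅ E') (h : Supp a E) : Supp a E' := fun i x => by
  obtain ⟨n, hn⟩ := h i (x ≫ e.inv)
  rw [← Linear.smul_comp] at hn
  exact ⟨n, (cancel_mono e.inv).1 (hn.trans zero_comp.symm)⟩

theorem supp_triangle₂ {a : R} (T : Triangle (Dual.D R)) (hT : T ∈ distTriang _)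
    (h₁ : Supp a T.obj₁) (h₃ : Supp a T.obj₃) : Supp a T.obj₂ := fun i x => by
  obtain ⟨n, hn⟩ := h₃ i (x ≫ T.mor₂)
  obtain ⟨y, hy⟩ := Triangle.coyoneda_exact₂ _ hT (a ^ n • x) (by rw [Linear.smul_comp, hn])
  obtain ⟨m, hm⟩ := h₁ i y
  exact ⟨m + n, by rw [pow_add, mul_smul, hy, ← Linear.smul_comp, hm, zero_comp]⟩

theorem supp_triangle₃ {a : R} (T : Triangle (Dual.D R)) (hT : T ∈ distTriang _)
    (h₁ : Supp a T.obj₁) (h₂ : Supp a T.obj₂) : Supp a T.obj₃ :=
  supp_triangle₂ T.rotate (rot_of_distTriang _ hT) h₂ (supp_shift h₁ 1)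

theorem kill {a : R} {E : Dual.D R} (hE : Supp a E) {A : Dual.D R} (hA : DRing.IsPerfect R A) (α : A ⟶ E) :
    ∃ n : ℕ, a ^ n • α = 0 :=
  (exists_killRange hA).elim fun _ ⟨_, h⟩ => h a E (fun i _ _ => hE i) α

/-- A cone of a power of `a` has torsion cohomology. -/
theorem supp_cone {a : R} {C : Dual.D R} (n : ℕ) {C' : Dual.D R} {g : C ⟶ C'} {h : C' ⟶ C⟦(1 : ℤ)⟧}
    (hT : Triangle.mk (a ^ n • 𝟙 C) g h ∈ distTriang _) : Supp a C' := fun i x => by
  have h₁ : (x ≫ h) ≫ (a ^ n • 𝟙 C)⟦(1 : ℤ)⟧' = 0 := by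
    rw [Category.assoc]
    exact (congrArg (x ≫ ·) (comp_distTriang_mor_zero₃₁ _ hT)).trans comp_zero
  rw [Functor.map_smul, CategoryTheory.Functor.map_id, Linear.comp_smul, Category.comp_id, ← Linear.smul_comp] at h₁
  have hex : ∃ y : pt i ⟶ C, a ^ n • x = y ≫ g := Triangle.coyoneda_exact₃ _ hT (a ^ n • x) h₁
  obtain ⟨y, hy⟩ := hex
  refine ⟨n + n, ?_⟩
  have h₂ : (a ^ n • 𝟙 C) ≫ g = 0 := comp_distTriang_mor_zero₁₂ _ hT
  rw [Linear.smul_comp, Category.id_comp] at h₂
  rw [pow_add, mul_smul, hy, ← Linear.comp_smul, h₂, comp_zero]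

/-- Factoring through a cone of a power. -/
theorem exists_step {a : R} {C E : Dual.D R} (γ : C ⟶ E) (hγ : ∃ n : ℕ, a ^ n • γ = 0) (hC : DRing.IsPerfect R C) :
    ∃ (C' : Dual.D R) (ι : C ⟶ C') (γ' : C' ⟶ E), DRing.IsPerfect R C' ∧ Supp a C' ∧
      (∀ b : R, Supp b C → Supp b C') ∧ (∀ m : ℤ, C.IsLE m → C'.IsLE m) ∧
      (∀ lo hi, KillRange C lo hi → KillRange C' (lo - 1) hi) ∧ ι ≫ γ' = γ := by
  obtain ⟨n, hn⟩ := hγ
  obtain ⟨C', g, h, hT⟩ := distinguished_cocone_triangle (a ^ n • 𝟙 C)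
  have hex : ∃ γ' : C' ⟶ E, γ = g ≫ γ' := Triangle.yoneda_exact₂ _ hT γ
    (show (a ^ n • 𝟙 C) ≫ γ = 0 by rw [Linear.smul_comp, Category.id_comp, hn])
  obtain ⟨γ', hγ'⟩ := hex
  refine ⟨C', g, γ', ?_, supp_cone n hT, fun b hb => supp_triangle₃ _ hT hb hb, fun m hm => ?_,
    fun lo hi hk => ?_, hγ'.symm⟩
  · exact isPerfect_triangle₂ _ (rot_of_distTriang _ hT) hC (isPerfect_shift _ hC)
  · haveI : (DerivedCategory.TStructure.t).IsLE C m := hm
    haveI : (DerivedCategory.TStructure.t).IsLE (C⟦(1 : ℤ)⟧) (m - 1) :=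
      (DerivedCategory.TStructure.t).isLE_shift C m 1 (m - 1) (by omega)
    haveI : (DerivedCategory.TStructure.t).IsLE (C⟦(1 : ℤ)⟧) m :=
      (DerivedCategory.TStructure.t).isLE_of_le _ (m - 1) m (by omega)
    exact (DerivedCategory.TStructure.t).isLE₂ _ (rot_of_distTriang _ hT) m ‹_› ‹_›
  · exact killRange_triangle₂ _ (rot_of_distTriang _ hT) (killRange_mono (by omega) le_rfl hk)
      (killRange_mono le_rfl (by omega) (killRange_shift hk 1))

/-- Maps from perfect objects into supported objects factor through supported perfect objects. -/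
theorem exists_factor (l : List R) {A E : Dual.D R} (hA : DRing.IsPerfect R A) (hE : ∀ a ∈ l, Supp a E)
    (α : A ⟶ E) :
    ∃ (C : Dual.D R) (ι : A ⟶ C) (γ : C ⟶ E), DRing.IsPerfect R C ∧ (∀ a ∈ l, Supp a C) ∧
      (∀ b : R, Supp b A → Supp b C) ∧ (∀ m : ℤ, A.IsLE m → C.IsLE m) ∧ ι ≫ γ = α := by
  induction l with
  | nil => exact ⟨A, 𝟙 A, α, hA, by simp, fun _ h => h, fun _ h => h, Category.id_comp α⟩
  | cons a l ih =>
    obtain ⟨C, ι, γ, hC, hs, hb, hle, hγ⟩ := ih fun b hb => hE b (List.mem_cons_of_mem _ hb)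
    obtain ⟨C', g, γ', hC', hsa, hsb, hle', -, hγ'⟩ := exists_step γ (kill (hE a List.mem_cons_self) hC γ) hC
    refine ⟨C', ι ≫ g, γ', hC', ?_, fun b h => hsb b (hb b h), fun m h => hle' m (hle m h), ?_⟩
    · intro b hb'
      rcases List.mem_cons.1 hb' with rfl | hb'
      · exact hsa
      · exact hsb b (hs b hb')
    · rw [Category.assoc, hγ', hγ]

/-- Classes with torsion cohomology in a range factor through supported perfect objects. -/
theorem exists_factor_range (l : List R) {E : Dual.D R} {k : ℤ} (x : pt k ⟶ E)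
    (hE : ∀ a ∈ l, ∀ i, k + 1 - l.length ≤ i → i ≤ k → Tors a E i) :
    ∃ (C : Dual.D R) (ι : pt k ⟶ C) (γ : C ⟶ E), DRing.IsPerfect R C ∧ (∀ a ∈ l, Supp a C) ∧
      C.IsLE k ∧ KillRange C (k - l.length) k ∧ ι ≫ γ = x := by
  induction l with
  | nil =>
    exact ⟨pt k, 𝟙 _, x, isPerfect_pt k,
      by simp, inferInstance, killRange_mono (by simp) le_rfl (killRange_pt k), Category.id_comp x⟩
  | cons a l ih =>
    obtain ⟨C, ι, γ, hC, hs, hle, hk, hγ⟩ := ih fun b hb i h₁ h₂ =>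
      hE b (List.mem_cons_of_mem _ hb) i (by simp only [List.length_cons]; omega) h₂
    obtain ⟨C', g, γ', hC', hsa, hsb, hle', hk', hγ'⟩ := exists_step γ
      (hk a E (fun i h₁ h₂ => hE a List.mem_cons_self i (by simp only [List.length_cons]; omega) h₂) γ) hC
    refine ⟨C', ι ≫ g, γ', hC', ?_, hle' k hle, killRange_mono (by simp only [List.length_cons]; omega) le_rfl
      (hk' _ _ hk), ?_⟩
    · intro b hb'
      rcases List.mem_cons.1 hb' with rfl | hb'
      · exact hsa
      · exact hsb b (hs b hb')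
    · rw [Category.assoc, hγ', hγ]

/-- The test object: iterated cones of the elements on `R`. -/
theorem exists_generator (l : List R) :
    ∃ K : Dual.D R, DRing.IsPerfect R K ∧ (∀ a ∈ l, Supp a K) ∧
      ∀ E : Dual.D R, (∀ a ∈ l, Supp a E) → (∀ (n : ℤ) (φ : K⟦n⟧ ⟶ E), φ = 0) → IsZero E := by
  induction l with
  | nil =>
    refine ⟨Dual.inD R R, isPerfect_inD, by simp, fun E _ h => isZero_of_pt fun i x => ?_⟩
    exact (cancel_epi (singleShiftIso i (ModuleCat.of R R)).hom).1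
      ((h (-i) (_ ≫ x)).trans comp_zero.symm)
  | cons a l ih =>
    obtain ⟨K, hK, hs, hgen⟩ := ih
    obtain ⟨K', g, h, hT⟩ := distinguished_cocone_triangle (a • 𝟙 K)
    refine ⟨K', isPerfect_triangle₂ _ (rot_of_distTriang _ hT) hK (isPerfect_shift _ hK), ?_, fun E hE h0 => ?_⟩
    · intro b hb
      rcases List.mem_cons.1 hb with rfl | hb
      · exact supp_cone 1 (by rw [pow_one]; exact hT)
      · exact supp_triangle₃ _ hT (hs b hb) (hs b hb)
    · refine hgen E (fun b hb => hE b (List.mem_cons_of_mem _ hb)) fun n φ => ?_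
      have hinj : ∀ ψ : K⟦n⟧ ⟶ E, a • ψ = 0 → ψ = 0 := fun ψ hψ => by
        obtain ⟨χ, hχ⟩ := (shiftFunctor (Dual.D R) n).map_surjective (ψ ≫ (shiftNegShift E n).inv)
        have hχa : a • χ = 0 := (shiftFunctor (Dual.D R) n).map_injective (by
          rw [Functor.map_smul, hχ, ← Linear.smul_comp, hψ, zero_comp, Functor.map_zero])
        have hex : ∃ ξ : K' ⟶ E⟦-n⟧, χ = g ≫ ξ := Triangle.yoneda_exact₂ _ hT χ
          (show (a • 𝟙 K) ≫ χ = 0 by rw [Linear.smul_comp, Category.id_comp, hχa])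
        obtain ⟨ξ, hξ⟩ := hex
        have hξ0 : ξ⟦n⟧' = 0 := (cancel_mono (shiftNegShift E n).hom).1 ((h0 n _).trans zero_comp.symm)
        apply (cancel_mono (shiftNegShift E n).inv).1
        rw [← hχ, zero_comp, hξ, Functor.map_comp, hξ0, comp_zero]
      obtain ⟨m, hm⟩ := kill (hE a List.mem_cons_self) (isPerfect_shift n hK) φ
      clear h0
      induction m with
      | zero => simpa using hm
      | succ m ihm => exact ihm (hinj _ (by rw [smul_smul, ← pow_succ']; exact hm))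

end Groth.Agent.DGen9
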