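import Groth.Agent.Lib.DGen9.Ext
import Groth.Agent.Lib.DPerf.Amp
import Groth.Agent.Lib.DPerf.Tilde
import Groth.Agent.Lib.DPerf.Top

/-! Splitting a perfect object on an open as the part of a restricted one above a degree. -/

set_option autoImplicit false
set_option linter.unusedSectionVars false
set_option linter.style.haveILetI false
set_option backward.isDefEq.respectTransparency false
set_option backward.isDefEq.respectTransparency.types false
set_option maxHeartbeats 1600000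

universe u

open CategoryTheory CategoryTheory.Limits AlgebraicGeometry Pretriangulated

attribute [local instance] HasDerivedCategory.standard

namespace Groth.Agent.DGen9

attribute [local instance] DBC9.hasRpush

open DMon9 DPerf

variable {X : Scheme.{u}}

/-- Below everything: the lowest cohomology of a cone is flat. -/
theorem isFlat_HD_of_triangle (c : ℤ) (P : CochainComplex X.Modules ℤ) (hP : DCoh.IsStrictlyPerfect P)
    (hPc : ∀ i, i < c → IsZero (P.X i)) {E K : DCoh.D X} (γ : DCoh.toD X P ⟶ E) (v : E ⟶ K)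
    (w : K ⟶ (DCoh.toD X P)⟦(1 : ℤ)⟧) (hT : Triangle.mk γ v w ∈ distTriang _)
    (hE : ∀ x : X, ∃ (V : X.Opens) (a b : ℤ), x ∈ V ∧ c - 1 ≤ a ∧
      DCoh.HasFlatAmplitudeIn a b ((resD V.ι).obj E))
    (hK : ∀ i, c ≤ i → IsZero (DCoh.HD K i)) : FlatMod.IsFlat (DCoh.HD K (c - 1)) := by
  refine DPerf.isFlat_of_locally fun x => ?_
  obtain ⟨V, a, b, hxV, ha, F, hF, hflat, ⟨e⟩⟩ := hE x
  obtain ⟨Z, k, hk, hxk, β, hβ⟩ := exists_represent (isStrictlyPerfect_res V.ι hP)
    ((resFac V.ι).inv.app P ≫ (resD V.ι).map γ ≫ e.inv) (⟨x, hxV⟩ : (V : Scheme.{u}))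
  obtain ⟨z, hz⟩ := id hxk
  obtain ⟨W, k', hk', hxW, hkk⟩ := DPerf.exists_opens (k ≫ V.ι) (x := x)
    ⟨z, by rw [Scheme.Hom.comp_apply, hz]; rfl⟩
  refine ⟨W, hxW, ?_⟩
  suffices h : FlatMod.IsFlat ((DCoh.HD K (c - 1)).restrict (k ≫ V.ι)) from
    (KFlat.Sch.isFlat_iff _).1 (((KFlat.Sch.isFlat_iff _).2 (DPerf.isFlat_res k' h)).of_iso
      (M1.restrictRestrictIso (DCoh.HD K (c - 1)) (k ≫ V.ι) k' W.ι hkk).symm)
  let T' := DerivedCategory.Q.mapTriangle.obj (CochainComplex.mappingCone.triangle β)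
  have hT' : T' ∈ distTriang _ := DerivedCategory.mappingCone_triangle_distinguished β
  let e₁ : (resD k).obj ((resD V.ι).obj (DCoh.toD X P)) ≅ T'.obj₁ :=
    (resD k).mapIso ((resFac V.ι).app P) ≪≫ (resFac k).app _
  let e₂ : (resD k).obj ((resD V.ι).obj E) ≅ T'.obj₂ := (resD k).mapIso e.symm ≪≫ (resFac k).app _
  have hT'' := (resD k).map_distinguished _ ((resD V.ι).map_distinguished _ hT)
  let eT := isoTriangleOfIso₁₂ _ _ hT'' hT' e₁ e₂ (by
    show (resD k).map ((resD V.ι).map γ) ≫ (resD k).map e.inv ≫ (resFac k).hom.app F = _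
    have h1 : (resD k).map ((resFac V.ι).inv.app P ≫ (resD V.ι).map γ ≫ e.inv) ≫ (resFac k).hom.app F =
        (resFac k).hom.app _ ≫ DerivedCategory.Q.map β := by
      rw [show (resD k).map ((resFac V.ι).inv.app P ≫ (resD V.ι).map γ ≫ e.inv) = _ from hβ]
      simp [resFac]
    show _ = ((resD k).map ((resFac V.ι).hom.app P) ≫ (resFac k).hom.app _) ≫ DerivedCategory.Q.map β
    rw [Category.assoc, ← h1, ← Category.assoc, ← Category.assoc, ← Functor.map_comp, ← Functor.map_comp,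
      Iso.hom_inv_id_app_assoc])
  let eK : DCoh.toD Z (CochainComplex.mappingCone β) ≅ (resD k).obj ((resD V.ι).obj K) :=
    (Triangle.π₃.mapIso eT).symm
  let eH : ∀ i : ℤ, (CochainComplex.mappingCone β).homology i ≅ (DCoh.HD K i).restrict (k ≫ V.ι) := fun i =>
    ((DerivedCategory.homologyFunctorFactors _ i).app _).symm ≪≫
      (DerivedCategory.homologyFunctor _ i).mapIso eK ≪≫ hdResIso k _ i ≪≫
      (Scheme.Modules.restrictFunctor k).mapIso (hdResIso V.ι K i) ≪≫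
      M1.restrictRestrictIso (DCoh.HD K i) V.ι k (k ≫ V.ι) rfl
  have hex : ∀ i, c - 1 < i → (CochainComplex.mappingCone β).ExactAt i := fun i hi =>
    (HomologicalComplex.exactAt_iff_isZero_homology _ _).2
      (((Scheme.Modules.restrictFunctor (k ≫ V.ι)).map_isZero (hK i (by omega))).of_iso (eH i))
  obtain ⟨⟨c₀, d, hv⟩, hf⟩ := isStrictlyPerfect_res k (isStrictlyPerfect_res V.ι hP)
  have hF' : ∀ i, i < a ∨ b < i → IsZero (((resX k).obj F).X i) := fun i hi =>
    (Scheme.Modules.restrictFunctor k).map_isZero (hF i hi)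
  have hCflat : ∀ i, FlatMod.IsFlat ((CochainComplex.mappingCone β).X i) := fun i =>
    (KFlat.Sch.isFlat_iff _).1 (((((KFlat.Sch.isFlat_iff _).2
      (KFlat.Sch.isFlat_of_isFinLocFree (hf (i + 1)))).biprod ((KFlat.Sch.isFlat_iff _).2 (isFlat_res k (hflat i)))).of_iso
        (HomologicalComplex.homotopyCofiber.XIsoBiprod β i (i + 1) rfl)))
  have hb : ∀ i, max d b < i → IsZero ((CochainComplex.mappingCone β).X i) := fun i hi =>
    IsZero.of_iso (biprod_isZero_iff _ _ |>.2 ⟨hv (i + 1) (by omega), hF' i (Or.inr (by omega))⟩)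
      (HomologicalComplex.homotopyCofiber.XIsoBiprod β i (i + 1) rfl)
  have hlow : IsZero ((CochainComplex.mappingCone β).X (c - 2)) :=
    IsZero.of_iso (biprod_isZero_iff _ _ |>.2
      ⟨(Scheme.Modules.restrictFunctor k).map_isZero
        ((Scheme.Modules.restrictFunctor V.ι).map_isZero (hPc (c - 2 + 1) (by omega))),
        hF' (c - 2) (Or.inl (by omega))⟩)
      (HomologicalComplex.homotopyCofiber.XIsoBiprod β (c - 2) (c - 2 + 1) rfl)
  have hZ : FlatMod.IsFlat ((CochainComplex.mappingCone β).cycles (c - 1)) :=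
    DPerf.cycles_prop (C := Z.Modules) (fun M : Z.Modules => FlatMod.IsFlat M)
      (fun h => (KFlat.Sch.isFlat_iff _).1 (KFlat.isFlat_of_isZero h)) (fun i p w => DPerf.isFlat_kernel i p w)
      (CochainComplex.mappingCone β) (max d b) hb hCflat (max d b + 1 - (c - 1)).toNat (c - 1) (by omega)
      hex
  exact (KFlat.Sch.isFlat_iff _).1 (((KFlat.Sch.isFlat_iff _).2 hZ).of_iso
    (((CochainComplex.mappingCone β).isoHomologyπ (c - 2) (c - 1) (by simp; omega) (hlow.eq_of_src _ _)) ≪≫ eH (c - 1)).symm)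

/-- Approximating from the ambient affine scheme, arbitrarily far down. -/
theorem exists_approx_open [IsAffine X] {U : X.Opens} (hU : IsCompact (U : Set X))
    {F : DCoh.D (U : Scheme.{u})} (hF : DCoh.IsPerfect F) (m : ℤ) :
    ∃ (P : DerivedCategory (ModuleCat.{u} Γ(X, ⊤))) (α : (DPerf.resD U.ι).obj ((tX X.isoSpec).obj P) ⟶ F)
      (N : DCoh.D (U : Scheme.{u})) (u : F ⟶ N) (v : N ⟶ ((DPerf.resD U.ι).obj ((tX X.isoSpec).obj P))⟦(1 : ℤ)⟧),
      DRing.IsPerfect Γ(X, ⊤) P ∧ Triangle.mk α u v ∈ distTriang _ ∧ ∀ i, m ≤ i → IsZero (DCoh.HD N i) := by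
  have hT : IsClosed (Set.univ : Set X) := isClosed_univ
  have hTc : IsCompact (Set.univ : Set X)ᶜ := by rw [Set.compl_univ]; exact isCompact_empty
  have hFT : SuppOn (U.ι ⁻¹' Set.univ) F := fun _ _ _ => trivial
  classical
  haveI : CompactSpace U := isCompact_iff_compactSpace.1 hU
  haveI : QuasiSeparatedSpace U := QuasiSeparatedSpace.of_isOpenEmbedding U.ι.isOpenEmbedding
  let e := X.isoSpec
  have hFq := isQCohD_of_isPerfect hF
  let E := (DCoh.Rpush U.ι).obj F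
  have hEq : DCoh.IsQCohD E := isQCohD_rpushι hU hFq
  have hET : SuppOn Set.univ E := suppOn_rpush U.ι hT hFT
  obtain ⟨M, ⟨iM⟩⟩ := exists_tX_iso e hEq
  obtain ⟨l, hl⟩ := exists_covers e hT hTc
  obtain ⟨gs, hgs⟩ := exists_covers e (T := (U : Set X)ᶜ) U.2.isClosed_compl (by rwa [compl_compl])
  have hgs' : ∀ x : X, x ∈ U ↔ ∃ g ∈ gs, e.hom x ∈ M1.bo g := fun x => by
    simpa using hgs x
  haveI := quasiCompact_ι hU
  obtain ⟨b₀, hb₀⟩ := DPerf.exists_isLE_of_pseudoCoherent (isPseudoCoherentD_of_isPerfect hF 0)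
  obtain ⟨N, hN⟩ := DPush.exists_bound U.ι
  have hMle : M.IsLE (b₀ + N) := by
    refine (DerivedCategory.isLE_iff _ _).2 fun q hq => ?_
    have h1 : IsZero (DCoh.HD ((tX e).obj M) q) :=
      (hN F hFq b₀ hb₀ q (by omega)).of_iso ((DerivedCategory.homologyFunctor X.Modules q).mapIso iM)
    refine DPerf.isZero_of_tilde (IsZero.of_iso ?_ (DPerf.hdTildeIso M q).symm)
    refine DPerf.isZero_of_stalks fun y => ?_
    obtain ⟨x, rfl⟩ := e.hom.homeomorph.surjective y
    exact AddCommGrpCat.subsingleton_of_isZero ((RHom.stalkZero_restrict_iff e.hom x _).1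
      (RHom.stalkZero_iso (DPerf.hdResIso e.hom _ q) ((M1.stalkAb x).map_isZero h1)))
  -- vanishing over `U` from the vanishing away from `V(gs)`
  have hloc : ∀ (Q : DerivedCategory (ModuleCat.{u} _)) (i : ℤ), Loc0 gs Q i →
      IsZero (DCoh.HD ((DPerf.resD U.ι).obj ((tX e).obj Q)) i) := fun Q i hQ => by
    refine (DPerf.isZero_of_stalks fun z => ?_).of_iso (DPerf.hdResIso U.ι _ i)
    refine AddCommGrpCat.subsingleton_of_isZero ((RHom.stalkZero_restrict_iff U.ι z _).2 ?_)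
    obtain ⟨g, hg, hzg⟩ := (hgs' _).1 z.2
    refine RHom.stalkZero_iso (DPerf.hdResIso e.hom _ i).symm ((RHom.stalkZero_restrict_iff e.hom (U.ι z) _).2 ?_)
    exact DMV.stalkZero_of_not_mem_support ((tors_iff_support g Q i).1 (hQ g hg) _ hzg)
  let GU := tX e ⋙ DPerf.resD U.ι
  let eF : GU.obj M ≅ F := (DPerf.resD U.ι).mapIso iM ≪≫ resPushIso U.ι F
  have hfg : ∀ (Q : DerivedCategory (ModuleCat.{u} _)) (e' : M ⟶ Q), Good l (b₀ + N) e' → ∀ k, m ≤ k →
      (∀ i, k < i → Loc0 gs Q i) → ∃ xs : List (pt k ⟶ Q), Gen gs Q xs := by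
    intro Q e' hG k _ hk
    obtain ⟨Z, u, v, hZT, hZ, -, -⟩ := hG
    have hQ : DCoh.IsPerfect (GU.obj Q) := isPerfect_obj₂ _ (GU.map_distinguished _ hZT)
      (isPerfect_of_iso eF.symm hF) (isPerfect_resD U.ι ((isPerfect_tX_iff e Z).2 hZ))
    have hft := DPerf.finiteType_top (isPseudoCoherentD_of_isPerfect hQ k) fun i hi => hloc Q i (hk i hi)
    have hspan : ∀ g ∈ gs, ∃ s : Finset ((DerivedCategory.homologyFunctor (ModuleCat.{u} Γ(X, ⊤)) k).obj Q : Type u),
        ∀ y, ∃ n : ℕ, g ^ n • y ∈ Submodule.span Γ(X, ⊤) (s : Set ((DerivedCategory.homologyFunctor (ModuleCat.{u} Γ(X, ⊤)) k).obj Q : Type u)) := by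
      intro g hg
      refine exists_span_of_isFT _ g ?_
      have hr : Set.range (M1.bo g).ι ⊆ Set.range (U.ι ≫ e.hom) := by
        rintro _ ⟨w, rfl⟩
        obtain ⟨x, hx⟩ := e.hom.homeomorph.surjective ((M1.bo g).ι w)
        refine ⟨⟨x, (hgs' x).2 ⟨g, hg, ?_⟩⟩, ?_⟩
        · rw [show e.hom x = (M1.bo g).ι w from hx]; exact w.2
        · exact hx
      let q := IsOpenImmersion.lift (U.ι ≫ e.hom) (M1.bo g).ι hr
      refine M1.isFT_of_isIso ?_ (M1.isFT_restrict (M1.isFT_of_isIso (DPerf.hdResIso U.ι _ k ≪≫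
        (Scheme.Modules.restrictFunctor U.ι).mapIso (DPerf.hdResIso e.hom _ k ≪≫
          (Scheme.Modules.restrictFunctor e.hom).mapIso (DPerf.hdTildeIso Q k)) ≪≫
        (Scheme.Modules.restrictFunctorComp U.ι e.hom).symm.app _) hft) q)
      exact (Scheme.Modules.restrictFunctorComp q (U.ι ≫ e.hom)).symm.app _ ≪≫
        (Scheme.Modules.restrictFunctorCongr (IsOpenImmersion.lift_fac _ _ hr)).app _
    choose s hs using hspan
    let big := gs.attach.flatMap fun g => ((s g.1 g.2).toList.map (eltEquiv k Q).symm)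
    refine ⟨big, fun g hg y => ?_⟩
    obtain ⟨n, hn⟩ := hs g hg (eltEquiv k Q y)
    refine ⟨n, ?_⟩
    have h2 := Submodule.mem_map_of_mem (f := (eltEquiv k Q).symm.toLinearMap) hn
    rw [Submodule.map_span, LinearEquiv.coe_coe, map_smul, LinearEquiv.symm_apply_apply] at h2
    refine Submodule.span_mono ?_ h2
    rintro _ ⟨z, hz, rfl⟩
    exact List.mem_flatMap.2 ⟨⟨g, hg⟩, List.mem_attach _ _, List.mem_map.2 ⟨z, Finset.mem_toList.2 hz, rfl⟩⟩
  obtain ⟨Q, e', hG, hQ⟩ := exists_approx l gs (E := M) (b₀ + N) m hMle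
    (fun a ha i _ => (suppOn_tX_iff e hl M).1 (suppOn_of_iso iM.symm hET) a ha i) hfg
  obtain ⟨Z, u, v, hZT, hZ, -, -⟩ := hG
  have hT' := GU.map_distinguished _ (inv_rot_of_distTriang _ hZT)
  let T' := GU.mapTriangle.obj (Triangle.mk e' u v).invRotate
  refine ⟨Z⟦(-1 : ℤ)⟧, T'.mor₁ ≫ eF.hom, T'.obj₃, eF.inv ≫ T'.mor₂, T'.mor₃,
    DBaseChange.isPerfect_shift (-1) hZ, isomorphic_distinguished _ hT' _
      (Triangle.isoMk _ _ (Iso.refl _) eF.symm (Iso.refl _) ?_ ?_ ?_), fun i hi => hloc Q i (hQ i hi)⟩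
  · change (T'.mor₁ ≫ eF.hom) ≫ eF.inv = 𝟙 _ ≫ T'.mor₁
    simp
  · change (eF.inv ≫ T'.mor₂) ≫ 𝟙 _ = eF.inv ≫ T'.mor₂
    simp
  · change T'.mor₃ ≫ (shiftFunctor _ 1).map (𝟙 _) = 𝟙 _ ≫ T'.mor₃
    simp

/-- A perfect object on a quasi-compact open plus a shifted locally free module extends. -/
theorem exists_extension_split [IsAffine X] {U : X.Opens} (hU : IsCompact (U : Set X))
    {E : DCoh.D (U : Scheme.{u})} (hE : DCoh.IsPerfect E) :
    ∃ (c : ℤ) (F : (U : Scheme.{u}).Modules) (G : DCoh.D X), FlatMod.IsFinLocFree F ∧ DCoh.IsPerfect G ∧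
      ∀ [HasBinaryBiproduct ((DCoh.inD (U : Scheme.{u}) F)⟦-c⟧) E],
        Nonempty ((DPerf.resD U.ι).obj G ≅ (DCoh.inD (U : Scheme.{u}) F)⟦-c⟧ ⊞ E) := by
  classical
  haveI : CompactSpace U := isCompact_iff_compactSpace.1 hU
  haveI : QuasiSeparatedSpace U := QuasiSeparatedSpace.of_isOpenEmbedding U.ι.isOpenEmbedding
  obtain ⟨a₁, b₁, hvan⟩ := DMV.exists_vanishing_range E hE
  choose V a b hxV hab hamp using DPerf.exists_flatAmplitude_of_isPerfect hE
  obtain ⟨s, hs⟩ := isCompact_univ.elim_finite_subcover (fun x => (V x : Set (U : Scheme.{u}))) (fun x => (V x).2)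
    (fun x _ => Set.mem_iUnion.2 ⟨x, hxV x⟩)
  obtain ⟨A, hA⟩ := (s.image fun x => -a x).exists_le
  obtain ⟨c, hc₁, hc₂⟩ : ∃ c : ℤ, c + A ≤ -1 ∧ c ≤ a₁ :=
    ⟨min (-A - 1) a₁, by have := min_le_left (-A - 1) a₁; omega, min_le_right _ _⟩
  have hloc : ∀ x : (U : Scheme.{u}), ∃ (W : (U : Scheme.{u}).Opens) (a b : ℤ), x ∈ W ∧ c < a ∧
      DCoh.HasFlatAmplitudeIn a b ((DPerf.resD W.ι).obj E) := fun x => by
    obtain ⟨y, hys, hy⟩ := Set.mem_iUnion₂.1 (hs (Set.mem_univ x))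
    have := hA _ (Finset.mem_image_of_mem (fun x => -a x) hys)
    exact ⟨V y, a y, b y, hy, by omega, hamp y⟩
  have hElow : ∀ i, i ≤ c → IsZero (DCoh.HD E i) := fun i hi => DPerf.isZero_of_stalks fun x => by
    obtain ⟨W, a', b', hxW, ha', F, hF, -, ⟨e⟩⟩ := hloc x
    have h0 : IsZero (DCoh.HD ((DPerf.resD W.ι).obj E) i) :=
      ((KFlat.Sch.isZero_HD_toD_iff F i).2 (ShortComplex.exact_of_isZero_X₂ _ (hF i (Or.inl (by omega))))).of_iso
        ((DerivedCategory.homologyFunctor _ i).mapIso e.symm)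
    exact AddCommGrpCat.subsingleton_of_isZero ((RHom.stalkZero_restrict_iff W.ι ⟨x, hxW⟩ _).1
      (RHom.stalkZero_iso (DPerf.hdResIso W.ι E i) ((M1.stalkAb _).map_isZero h0)))
  obtain ⟨P, α, N, u, v, hP, hT, hN⟩ := exists_approx_open hU hE c
  obtain ⟨L, aL, bL, hL, hLF, ⟨eL⟩⟩ := hP
  let L' := KFlat.brutGE L c
  have hL' : DRing.VanishesOutside L' c bL := fun i hi => by
    by_cases h : c ≤ i
    · exact (hL i (Or.inr (by omega))).of_iso (KFlat.brutIso L h)
    · exact KFlat.brutGE_isZero L (by omega)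
  have hLF' : DRing.TermwiseFiniteProjective L' := fun i => by
    by_cases h : c ≤ i
    · have := (hLF i).1; have := (hLF i).2
      exact ⟨Module.Finite.equiv (KFlat.brutIso L h).symm.toLinearEquiv,
        Module.Projective.of_equiv (KFlat.brutIso L h).symm.toLinearEquiv⟩
    · have := ModuleCat.subsingleton_of_isZero (KFlat.brutGE_isZero L (show i < c by omega))
      exact ⟨inferInstance, inferInstance⟩
  let e := X.isoSpec
  let GU := tX e ⋙ DPerf.resD U.ι
  let Pc := (DPerf.resX U.ι).obj ((DPerf.resX e.hom).obj ((DPerf.tildeX _).obj L'))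
  have hPc : DCoh.IsStrictlyPerfect Pc := DPerf.isStrictlyPerfect_res U.ι
    (DPerf.isStrictlyPerfect_res e.hom (DPerf.isStrictlyPerfect_tildeX hL' hLF'))
  have hPc0 : ∀ i, i < c → IsZero (Pc.X i) := fun i hi => (Scheme.Modules.restrictFunctor U.ι).map_isZero
    ((Scheme.Modules.restrictFunctor e.hom).map_isZero ((tilde.functor Γ(X, ⊤)).map_isZero (hL' i (Or.inl hi))))
  let G := (tX e).obj (DRing.toD L')
  have hG : DCoh.IsPerfect G := (isPerfect_tX_iff e _).2 ⟨L', c, bL, hL', hLF', ⟨Iso.refl _⟩⟩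
  let f : (DPerf.resD U.ι).obj G ≅ DCoh.toD _ Pc :=
    (DPerf.resD U.ι).mapIso ((DPerf.resD e.hom).mapIso ((tilde.functor _).mapDerivedCategoryFactors.app L') ≪≫
      (DPerf.resFac e.hom).app _) ≪≫ (DPerf.resFac U.ι).app _
  let γ : DCoh.toD _ Pc ⟶ E := f.inv ≫ GU.map (DerivedCategory.Q.map (KFlat.brutι L c) ≫ eL.hom) ≫ α
  have hγ : DPerf.DCond (Set.Ici c) γ := by
    refine (DPerf.dcond_of_isIso _).comp (DPerf.DCond.comp ?_ ?_)
    · exact DPerf.dcond_map (Scheme.Modules.restrictFunctor U.ι) (DPerf.dcond_map (Scheme.Modules.restrictFunctor e.hom)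
        (DPerf.dcond_map (tilde.functor Γ(X, ⊤))
        (((DPerf.dcond_Q_iff _).2 (DPerf.hcond_brutι L c)).comp (DPerf.dcond_of_isIso eL.hom))))
    · intro i hi
      exact ⟨(DerivedCategory.HomologySequence.epi_homologyMap_mor₁_iff _ hT i).2 ((hN i hi).eq_of_tgt _ _),
        (DerivedCategory.HomologySequence.mono_homologyMap_mor₁_iff _ hT i (i + 1) rfl).2 ((hN i hi).eq_of_src _ _)⟩
  obtain ⟨K, p, q, hK⟩ := distinguished_cocone_triangle γ
  have hKhigh : ∀ i, c ≤ i → IsZero (DCoh.HD K i) := fun i hi =>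
    DPerf.isZero_homology_of_dcond hK hγ hi
  have hKlow : ∀ i, i < c - 1 → IsZero (DCoh.HD K i) := fun i hi =>
    (DerivedCategory.HomologySequence.exact₃ _ hK i (i + 1) rfl).isZero_of_both_zeros
      ((hElow i (by omega)).eq_of_src _ _)
      (((KFlat.Sch.isZero_HD_toD_iff Pc (i + 1)).2
        (ShortComplex.exact_of_isZero_X₂ _ (hPc0 (i + 1) (by omega)))).eq_of_tgt _ _)
  have hKp : DCoh.IsPerfect K :=
    isPerfect_obj₃ _ hK (isPerfect_of_iso f (isPerfect_resD U.ι hG)) hE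
  let F := DCoh.HD K (c - 1)
  have hFflat : FlatMod.IsFlat F := isFlat_HD_of_triangle c Pc hPc hPc0 γ p q hK
    (fun x => by
      obtain ⟨W, a', b', hxW, ha', h⟩ := hloc x
      exact ⟨W, a', b', hxW, by omega, h⟩) hKhigh
  have hFP : CohB1.IsFP F := by
    have h := DPerf.finitePresentation_top (isPseudoCoherentD_of_isPerfect hKp (c - 2))
      fun i hi => hKhigh i (by omega)
    rwa [show c - 2 + 1 = c - 1 by ring] at h
  refine ⟨c, F, G, (M1.isFinLocFree_iff _).2 ⟨hFP, fun x => M1.free_stalk_of_flat hFP x (hFflat x)⟩, hG, ?_⟩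
  intro _
  haveI : K.IsLE (c - 1) := (DerivedCategory.isLE_iff K _).2 fun i hi => hKhigh i (by omega)
  haveI : K.IsGE (c - 1) := (DerivedCategory.isGE_iff K _).2 fun i hi => hKlow i (by omega)
  obtain ⟨Y, ⟨eY⟩⟩ := DerivedCategory.exists_iso_singleFunctor_obj_of_isGE_of_isLE K (c - 1)
  let eF : F ≅ Y := (DerivedCategory.homologyFunctor _ (c - 1)).mapIso eY ≪≫
    (DerivedCategory.singleFunctorCompHomologyFunctorIso _ (c - 1)).app Y
  let eK : K⟦(-1 : ℤ)⟧ ≅ (DCoh.inD (U : Scheme.{u}) F)⟦-c⟧ :=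
    (shiftFunctor _ (-1 : ℤ)).mapIso (eY ≪≫ (DerivedCategory.singleFunctor _ (c - 1)).mapIso eF.symm ≪≫
      (((DerivedCategory.singleFunctors _).shiftIso (-(c - 1)) (c - 1) 0 (by omega)).app F).symm) ≪≫
      ((shiftFunctorAdd' (DCoh.D (U : Scheme.{u})) (-(c - 1)) (-1) (-c) (by omega)).app _).symm
  have hp : p = 0 := hvan K (isQCohD_of_isPerfect hKp) (fun i hi hi' => hKhigh i (by omega)) p
  obtain ⟨eB, -⟩ := exists_iso_binaryBiproduct_of_distTriang _ (inv_rot_of_distTriang _ hK) (by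
    dsimp [Triangle.invRotate]; rw [hp]; simp)
  exact ⟨f ≪≫ eB ≪≫ biprod.mapIso eK (Iso.refl E)⟩

end Groth.Agent.DGen9
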