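import Groth.Agent.Lib.DGen9.GlobalApprox

/-! The induction step of approximation, without separation hypotheses on the ambient scheme. -/

set_option autoImplicit false
set_option linter.unusedSectionVars false
set_option linter.style.haveILetI false
set_option backward.isDefEq.respectTransparency false
set_option backward.isDefEq.respectTransparency.types false
set_option maxHeartbeats 3200000

universe u

open CategoryTheory CategoryTheory.Limits AlgebraicGeometry Pretriangulated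

attribute [local instance] HasDerivedCategory.standard

namespace Groth.Agent.DGen9

attribute [local instance] DBC9.hasRpush

variable {X : Scheme.{u}}

local notation "HH" => DerivedCategory.homologyFunctor

/-- Quasi-compactness of an open complementary to an affine open. -/
theorem quasiCompact_ι_of_cover {U V : X.Opens} (hV : IsAffineOpen V) (hUV : U ⊔ V = ⊤)
    (hUVc : IsCompact ((U ⊓ V : X.Opens) : Set X)) : QuasiCompact U.ι := by
  haveI : IsAffine (V : Scheme.{u}) := hV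
  refine IsZariskiLocalAtTarget.of_iSup_eq_top (P := @QuasiCompact) (fun b : Bool => bif b then U else V)
    (by rw [iSup_bool_eq]; exact hUV) fun b => ?_
  cases b
  · show QuasiCompact (U.ι ∣_ V)
    refine (HasAffineProperty.iff_of_isAffine (P := @QuasiCompact)).2 (isCompact_iff_compactSpace.1 ?_)
    refine U.ι.isOpenEmbedding.isInducing.isCompact_iff.2 ?_
    rwa [show U.ι '' (U.ι ⁻¹ᵁ V : Set U) = ((U ⊓ V : X.Opens) : Set X) by
      ext x; exact ⟨fun ⟨y, hy, e⟩ => e ▸ ⟨y.2, hy⟩, fun h => ⟨⟨x, h.1⟩, h.2, rfl⟩⟩]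
  · show QuasiCompact (U.ι ∣_ U)
    rw [show U.ι ∣_ U = (U.ι ⁻¹ᵁ U).ι from (cancel_mono U.ι).1 (morphismRestrict_ι U.ι U)]
    have key : ∀ W : (U : Scheme.{u}).Opens, W = ⊤ → QuasiCompact W.ι := fun W hW => by
      subst hW
      haveI : IsIso ((⊤ : (U : Scheme.{u}).Opens).ι) :=
        inferInstanceAs (IsIso (U : Scheme.{u}).topIso.hom)
      infer_instance
    exact key _ (Scheme.Opens.ι_preimage_self U)

set_option maxHeartbeats 3200000 in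
/-- Gluing over an open and an affine open. -/
theorem exists_glue' {U V : X.Opens} [QuasiCompact U.ι] (hUVc : IsCompact (V.ι ⁻¹' (U : Set X)))
    (hV : IsAffineOpen V) (hUV : U ⊔ V = ⊤) {T : Set X} (hT : IsClosed T) (hTV : IsCompact (V.ι ⁻¹' T)ᶜ)
    {P : DCoh.D (U : Scheme.{u})} (hP : DCoh.IsPerfect P) (hPT : SuppOn (U.ι ⁻¹' T) P) :
    ∃ R : DCoh.D X, DCoh.IsPerfect R ∧ SuppOn T R ∧
      Nonempty ((DPerf.resD U.ι).obj R ≅ P ⊞ P⟦(1 : ℤ)⟧) := by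
  haveI : IsAffine (V : Scheme.{u}) := hV
  let W : (V : Scheme.{u}).Opens := V.ι ⁻¹ᵁ U
  have hW : IsCompact (W : Set V) := hUVc
  let i := V.ι ∣_ U
  have hcomm : ∀ w, U.ι (i w) = V.ι (W.ι w) := fun w => by
    have := congrArg (fun g : (W : Scheme.{u}) ⟶ X => g w) (morphismRestrict_ι V.ι U)
    simpa [i, W] using this
  let F := (DPerf.resD i).obj P
  have hFT : SuppOn (W.ι ⁻¹' (V.ι ⁻¹' T)) F := suppOn_mono
    (fun w hw => show V.ι (W.ι w) ∈ T from hcomm w ▸ hw) (suppOn_resD i hPT)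
  obtain ⟨G, hG, hGT, ⟨eG⟩⟩ :=
    exists_extension hW (hT.preimage V.ι.continuous) hTV (isPerfect_resD i hP) hFT
  let PP := P ⊞ P⟦(1 : ℤ)⟧
  haveI : PreservesBinaryBiproducts (DPerf.resD i) := preservesBinaryBiproducts_of_preservesBiproducts _
  let eW : (DPerf.resD W.ι).obj G ≅ (DPerf.resD i).obj PP :=
    eG ≪≫ biprod.mapIso (Iso.refl _) (((DPerf.resD i).commShiftIso (1 : ℤ)).app P).symm ≪≫
      ((DPerf.resD i).mapBiprod P (P⟦(1 : ℤ)⟧)).symm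
  let adjW := adjR W.ι
  obtain ⟨S, δ, ε, hS⟩ := distinguished_cocone_triangle (adjW.unit.app G)
  let M := (DCoh.Rpush U.ι).obj PP
  obtain ⟨c⟩ := DBC9.nonempty_res_rpush U.ι W.ι V.ι i (isPullback_morphismRestrict V.ι U).flip
  let ρ : (DPerf.resD V.ι).obj M ≅ (DCoh.Rpush W.ι).obj ((DPerf.resD W.ι).obj G) :=
    c.app PP ≪≫ (DCoh.Rpush W.ι).mapIso eW.symm
  let adjV := adjR V.ι
  let f : M ⟶ (DCoh.Rpush V.ι).obj S := adjV.homEquiv _ _ (ρ.hom ≫ δ)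
  obtain ⟨R, a, b, hR⟩ := distinguished_cocone_triangle₁ f
  haveI := isIso_resD_unit W.ι G
  have hS0 : IsZero ((DPerf.resD W.ι).obj S) := isZero_resD_cone W.ι hS
  obtain ⟨c'⟩ := DBC9.nonempty_res_rpush V.ι i U.ι W.ι (isPullback_morphismRestrict V.ι U)
  have hfU : IsZero ((DPerf.resD U.ι).obj ((DCoh.Rpush V.ι).obj S)) :=
    (DMV.isZero_rpush _ hS0).of_iso (c'.app S)
  haveI hIU : IsIso ((DPerf.resD U.ι).map a) :=
    (Triangle.isZero₃_iff_isIso₁ _ ((DPerf.resD U.ι).map_distinguished _ hR)).1 hfU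
  let eU : (DPerf.resD U.ι).obj R ≅ PP := asIso ((DPerf.resD U.ι).map a) ≪≫ resPushIso U.ι PP
  -- the restriction to `V`
  have eVS : Nonempty ((DPerf.resD V.ι).obj R ≅ G) := by
    have hres : (DPerf.resD V.ι).map f ≫ (resPushIso V.ι S).hom = ρ.hom ≫ δ :=
      (adjV.homEquiv_counit (g := f)).symm.trans ((adjV.homEquiv _ _).symm_apply_apply _)
    let e := isoTriangleOfIso₁₂ _ _ (rot_of_distTriang _ ((DPerf.resD V.ι).map_distinguished _ hR))
      (rot_of_distTriang _ hS) ρ (resPushIso V.ι S) (by exact hres)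
    exact ⟨(shiftFunctor (DCoh.D (V : Scheme.{u})) (1 : ℤ)).preimageIso (Triangle.π₃.mapIso e)⟩
  obtain ⟨eV⟩ := eVS
  have hPP : DCoh.IsPerfect PP :=
    isPerfect_obj₂ _ (binaryBiproductTriangle_distinguished P (P⟦(1 : ℤ)⟧)) hP (isPerfect_shiftD hP 1)
  have hPPT : SuppOn (U.ι ⁻¹' T) PP :=
    suppOn_triangle₂ _ (binaryBiproductTriangle_distinguished P (P⟦(1 : ℤ)⟧)) hPT (suppOn_shift hPT 1)
  have hcov : ∀ x : X, x ∈ U ∨ x ∈ V := fun x => by
    have hx : x ∈ U ⊔ V := hUV ▸ trivial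
    exact hx
  refine ⟨R, DPerf.isPerfect_iff_approx.2 fun x => ?_, suppOn_of_stalks fun x hx q => ?_, ⟨eU⟩⟩
  · rcases hcov x with hx | hx
    · obtain ⟨Z, k, hk, ⟨z, hz⟩, P', hP', α, hα⟩ :=
        (DPerf.isPerfect_iff_approx.1 (isPerfect_of_iso eU.symm hPP)) ⟨x, hx⟩
      exact ⟨Z, k ≫ U.ι, inferInstance, ⟨z, by simp [hz]⟩, P', hP', α ≫ (DPerf.resDComp U.ι k).hom.app R,
        hα.comp (DPerf.dcond_of_isIso _)⟩
    · obtain ⟨Z, k, hk, ⟨z, hz⟩, P', hP', α, hα⟩ :=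
        (DPerf.isPerfect_iff_approx.1 (isPerfect_of_iso eV.symm hG)) ⟨x, hx⟩
      exact ⟨Z, k ≫ V.ι, inferInstance, ⟨z, by simp [hz]⟩, P', hP', α ≫ (DPerf.resDComp V.ι k).hom.app R,
        hα.comp (DPerf.dcond_of_isIso _)⟩
  · rcases hcov x with hxU | hxV
    · exact (RHom.stalkZero_restrict_iff U.ι ⟨x, hxU⟩ _).1 (RHom.stalkZero_iso (DPerf.hdResIso U.ι R q)
        (stalkZero_of_suppOn (suppOn_of_iso eU.symm hPPT) (show (⟨x, hxU⟩ : U) ∉ U.ι ⁻¹' T from hx) q))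
    · exact (RHom.stalkZero_restrict_iff V.ι ⟨x, hxV⟩ _).1 (RHom.stalkZero_iso (DPerf.hdResIso V.ι R q)
        (stalkZero_of_suppOn (suppOn_of_iso eV.symm hGT) (show (⟨x, hxV⟩ : V) ∉ V.ι ⁻¹' T from hx) q))

theorem exists_lift_step' {U V : X.Opens} [QuasiCompact U.ι] (hUVc : IsCompact (V.ι ⁻¹' (U : Set X)))
    (hV : IsAffineOpen V) (hUV : U ⊔ V = ⊤) {T : Set X} (hT : IsClosed T) (hTV : IsCompact (V.ι ⁻¹' T)ᶜ)
    {A B : DCoh.D X} (hA : DCoh.IsPerfect A) (hAT : SuppOn T A) (hB : DCoh.IsQCohD B)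
    (α : (DPerf.resD U.ι).obj A ⟶ (DPerf.resD U.ι).obj B) :
    ∃ (A₁ : DCoh.D X) (π : A₁ ⟶ A) (β : A₁ ⟶ B), DCoh.IsPerfect A₁ ∧ SuppOn T A₁ ∧
      IsIso ((DPerf.resD U.ι).map π) ∧ (DPerf.resD U.ι).map π ≫ α = (DPerf.resD U.ι).map β := by
  haveI : IsAffine (V : Scheme.{u}) := hV
  let T₀ : Set X := (U : Set X)ᶜ
  have hT₀ : IsClosed T₀ := U.2.isClosed_compl
  have hT₀V : T₀ ⊆ (V : Set X) := fun x hx => by
    have h : x ∈ U ⊔ V := hUV ▸ trivial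
    exact Or.resolve_left h hx
  have hT₀c : IsCompact (V.ι ⁻¹' T₀)ᶜ := by rw [← Set.preimage_compl, compl_compl]; exact hUVc
  let adj := adjR U.ι
  let adjV := adjR V.ι
  let a : A ⟶ (DCoh.Rpush U.ι).obj ((DPerf.resD U.ι).obj B) := adj.homEquiv _ _ α
  obtain ⟨S, δ, ε, hS⟩ := distinguished_cocone_triangle (adj.unit.app B)
  have hSq : DCoh.IsQCohD S :=
    DPush.isQCohD_obj₃ _ hS hB (DPush.isQCohD_rpush U.ι _ (DQC.isQCohD_resD U.ι hB))
  haveI := isIso_resD_unit U.ι B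
  have hST : SuppOn T₀ S := by
    refine suppOn_mono (le_of_eq ?_) (suppOn_of_isZero_resD U.ι (isZero_resD_cone U.ι hS))
    erw [Scheme.Opens.range_ι]
  obtain ⟨eS⟩ := DMV.nonempty_iso_rpush_restrict V T₀ hT₀ hT₀V S hST
  obtain ⟨C, ι, γ, hC, hC₀, hCT, hιγ⟩ := exists_factor_affine₂ (hT₀.preimage V.ι.continuous)
    hT₀c (hT.preimage V.ι.continuous) hTV
    (isQCohD_of_isPerfect (isPerfect_resD V.ι hA)) (isPerfect_resD V.ι hA) (suppOn_resD V.ι hAT)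
    (DQC.isQCohD_resD V.ι hSq) (suppOn_resD V.ι hST) ((adjV.homEquiv _ _).symm (a ≫ δ ≫ eS.hom))
  let C' := (DCoh.Rpush V.ι).obj C
  let ι' : A ⟶ C' := adjV.homEquiv _ _ ι
  have hι' : ι' ≫ (DCoh.Rpush V.ι).map γ = a ≫ δ ≫ eS.hom := by
    rw [← adjV.homEquiv_naturality_right, hιγ, Equiv.apply_symm_apply]
  obtain ⟨A₁, π, ε', hA₁⟩ := distinguished_cocone_triangle₁ ι'
  have hC'0 : SuppOn T₀ C' := suppOn_rpush V.ι hT₀ hC₀
  haveI hπ : IsIso ((DPerf.resD U.ι).map π) :=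
    (Triangle.isZero₃_iff_isIso₁ _ ((DPerf.resD U.ι).map_distinguished _ hA₁)).1
      (isZero_resD_of_suppOn U.ι hC'0 fun x h => h x.2)
  have hC'p : DCoh.IsPerfect C' := DMV.isPerfect_rpush_of_support V C hC _ hT₀ hT₀V
    fun i => Set.image_subset_iff.2 (hC₀ i)
  have hex : ∃ β : A₁ ⟶ B, π ≫ a = β ≫ adj.unit.app B := Triangle.coyoneda_exact₂ _ hS (π ≫ a) (by
    show (π ≫ a) ≫ δ = 0
    rw [← cancel_mono eS.hom, zero_comp, Category.assoc, Category.assoc, ← hι',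
      reassoc_of% (show π ≫ ι' = 0 from comp_distTriang_mor_zero₁₂ _ hA₁), zero_comp])
  obtain ⟨β, hβ⟩ := hex
  refine ⟨A₁, π, β, isPerfect_obj₁ _ hA₁ hA hC'p, suppOn_triangle₁ _ hA₁ hAT (suppOn_rpush V.ι hT hCT), hπ,
    (adj.homEquiv _ _).injective ?_⟩
  rw [adj.homEquiv_naturality_left, adj.homEquiv_unit (f := (DPerf.resD U.ι).map β)]
  exact hβ.trans (adj.unit.naturality β)

theorem exists_glue_odd' {U V : X.Opens} [QuasiCompact U.ι] (hUVc : IsCompact (V.ι ⁻¹' (U : Set X)))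
    (hV : IsAffineOpen V) (hUV : U ⊔ V = ⊤) {T : Set X} (hT : IsClosed T) (hTV : IsCompact (V.ι ⁻¹' T)ᶜ)
    {P : DCoh.D (U : Scheme.{u})} (hP : DCoh.IsPerfect P) (hPT : SuppOn (U.ι ⁻¹' T) P) (k : ℕ) :
    ∃ R : DCoh.D X, DCoh.IsPerfect R ∧ SuppOn T R ∧
      Nonempty ((DPerf.resD U.ι).obj R ≅ P ⊞ P⟦(2 * k + 1 : ℤ)⟧) := by
  obtain ⟨R₀, hR₀, hR₀T, ⟨e₀⟩⟩ := exists_glue' hUVc hV hUV hT hTV hP hPT
  let R' := DPerf.resD U.ι
  induction k with
  | zero => exact ⟨R₀, hR₀, hR₀T, ⟨e₀ ≪≫ biprod.mapIso (Iso.refl _) (eqToIso (by norm_num))⟩⟩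
  | succ k ih =>
    obtain ⟨Rk, hRk, hRkT, ⟨ek⟩⟩ := ih
    obtain ⟨c, hc⟩ : ∃ c : ℤ, (2 * k + 1 : ℤ) = c := ⟨_, rfl⟩
    rw [hc] at ek
    let Sh := shiftFunctor (DCoh.D (U : Scheme.{u})) c
    haveI : PreservesBinaryBiproducts Sh := preservesBinaryBiproducts_of_preservesBiproducts _
    let eA : R'.obj (R₀⟦c⟧) ≅ P⟦c⟧ ⊞ (P⟦(1 : ℤ)⟧)⟦c⟧ :=
      (R'.commShiftIso c).app R₀ ≪≫ Sh.mapIso e₀ ≪≫ Sh.mapBiprod P (P⟦(1 : ℤ)⟧)
    let φ₀ : R'.obj (R₀⟦c⟧) ⟶ R'.obj Rk := eA.hom ≫ biprod.fst ≫ biprod.inr ≫ ek.inv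
    obtain ⟨A₁, π, β, hA₁, hA₁T, hπ, hβ⟩ := exists_lift_step' hUVc hV hUV hT hTV (isPerfect_shiftD hR₀ c)
      (suppOn_shift hR₀T c) (isQCohD_of_isPerfect hRk) φ₀
    obtain ⟨G, u, v, hG⟩ := distinguished_cocone_triangle β
    refine ⟨G, isPerfect_obj₃ _ hG hA₁ hRk, suppOn_triangle₃ _ hG hA₁T hRkT, ?_⟩
    let e₁ : R'.obj A₁ ≅ P⟦c⟧ ⊞ (P⟦(1 : ℤ)⟧)⟦c⟧ := @asIso _ _ _ _ (R'.map π) hπ ≪≫ eA
    have hmap : R'.map β = e₁.hom ≫ biprod.fst ≫ biprod.inr ≫ ek.inv := by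
      rw [← hβ]; simp [e₁, φ₀]
      rfl
    let T' := R'.mapTriangle.obj (Triangle.mk β u v)
    have hT' : T' ∈ distTriang _ := R'.map_distinguished _ hG
    obtain ⟨e⟩ := nonempty_cone_split (φ := T'.mor₁) (u := T'.mor₂) (v := T'.mor₃) hT'
      (biprod.inl ≫ ek.inv) (ek.hom ≫ biprod.fst) (by simp)
      (by
        show R'.map β ≫ _ = 0
        rw [hmap]; simp)
      (by
        have hz : biprod.inr ≫ ek.inv ≫ T'.mor₂ = 0 := by
          have h := comp_distTriang_mor_zero₁₂ _ hT'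
          change R'.map β ≫ T'.mor₂ = 0 at h
          rw [hmap] at h
          have h2 := congrArg ((biprod.inl ≫ e₁.inv) ≫ ·) h
          simpa using h2
        have htot := congrArg (fun z => ek.hom ≫ z ≫ ek.inv ≫ T'.mor₂) (biprod.total (X := P) (Y := P⟦c⟧))
        simp only [Preadditive.add_comp, Preadditive.comp_add, Category.assoc, hz, comp_zero, add_zero,
          Category.id_comp, Iso.hom_inv_id_assoc] at htot
        simpa using htot)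
      (biprod.inr ≫ e₁.inv) (e₁.hom ≫ biprod.snd) (by simp)
      (by
        show _ ≫ R'.map β = 0
        rw [hmap]; simp)
      (by
        have hz : T'.mor₃ ≫ (e₁.hom ≫ biprod.fst)⟦(1 : ℤ)⟧' = 0 := by
          have h := comp_distTriang_mor_zero₃₁ _ hT'
          change T'.mor₃ ≫ (R'.map β)⟦(1 : ℤ)⟧' = 0 at h
          rw [hmap] at h
          have h2 := congrArg (· ≫ (ek.hom ≫ biprod.snd)⟦(1 : ℤ)⟧') h
          simp only [Category.assoc, ← Functor.map_comp, zero_comp] at h2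
          simpa using h2
        have htot : e₁.hom ≫ biprod.fst ≫ biprod.inl ≫ e₁.inv + e₁.hom ≫ biprod.snd ≫ biprod.inr ≫ e₁.inv = 𝟙 _ := by
          have h := congrArg (fun z => e₁.hom ≫ z ≫ e₁.inv) (biprod.total (X := P⟦c⟧) (Y := (P⟦(1 : ℤ)⟧)⟦c⟧))
          simp only [Preadditive.add_comp, Preadditive.comp_add, Category.assoc] at h
          exact h.trans (by erw [Category.id_comp, e₁.hom_inv_id])
        have h3 := congrArg (fun z => T'.mor₃ ≫ z⟦(1 : ℤ)⟧') htot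
        simp only [Functor.map_add, Preadditive.comp_add, CategoryTheory.Functor.map_id, Category.comp_id] at h3
        rw [Functor.map_comp] at hz
        simp only [Functor.map_comp, Category.assoc] at h3 hz ⊢
        rw [reassoc_of% hz, zero_comp, zero_add] at h3
        refine h3.trans ?_
        erw [CategoryTheory.Functor.map_id, Category.comp_id])
    exact ⟨e ≪≫ biprod.mapIso (Iso.refl _)
      (((shiftFunctorAdd' _ c (1 : ℤ) (c + 1) rfl).app _).symm ≪≫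
        ((shiftFunctorAdd' _ (1 : ℤ) (c + 1) (2 * ((k + 1 : ℕ) : ℤ) + 1) (by rw [← hc]; push_cast; ring)).app P).symm)⟩

theorem approx_step {U V : X.Opens} [CompactSpace U] [QuasiCompact U.ι] (hUVc : IsCompact (V.ι ⁻¹' (U : Set X)))
    (hV : IsAffineOpen V) (hUV : U ⊔ V = ⊤) {T : Set X} (hT : IsClosed T) (hTV : IsCompact (V.ι ⁻¹' T)ᶜ)
    (ha : ∃ r : ℤ, ∀ (m : ℤ) (E : DCoh.D (U : Scheme.{u})), DCoh.IsQCohD E → DCoh.IsPseudoCoherentD (m - r) E →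
      (∀ i : ℤ, m - r ≤ i → CohB1.support (DCoh.HD E i) ⊆ U.ι ⁻¹' T) →
      ∃ (P : DCoh.D (U : Scheme.{u})) (α : P ⟶ E), DCoh.IsPerfect P ∧ SuppOn (U.ι ⁻¹' T) P ∧ ApproxMap m α) :
    ∃ r : ℤ, ∀ (m : ℤ) (E : DCoh.D X), DCoh.IsQCohD E → DCoh.IsPseudoCoherentD (m - r) E →
      (∀ i : ℤ, m - r ≤ i → CohB1.support (DCoh.HD E i) ⊆ T) →
      ∃ (P : DCoh.D X) (α : P ⟶ E), DCoh.IsPerfect P ∧ SuppOn T P ∧ ApproxMap m α := by
  haveI : IsAffine (V : Scheme.{u}) := hV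
  have hcov : ∀ x : X, x ∈ U ∨ x ∈ V := fun x => by
    have hx : x ∈ U ⊔ V := hUV ▸ trivial
    exact hx
  let T' : Set X := T ∩ (U : Set X)ᶜ
  have hT' : IsClosed T' := hT.inter U.2.isClosed_compl
  have hT'c : IsCompact (V.ι ⁻¹' T')ᶜ := by
    have : (V.ι ⁻¹' T')ᶜ = (V.ι ⁻¹' T)ᶜ ∪ V.ι ⁻¹' (U : Set X) := by
      simp only [T', Set.preimage_inter, Set.compl_inter, Set.preimage_compl, compl_compl]
    rw [this]
    exact hTV.union hUVc
  have hT'V : T' ⊆ (V : Set X) := fun x hx => (hcov x).resolve_left hx.2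
  obtain ⟨rU₀, hrU₀⟩ := ha
  obtain ⟨rV, hrV⟩ := hasApprox_affine (V : Scheme.{u}) (V.ι ⁻¹' T') (hT'.preimage V.ι.continuous) hT'c
  obtain ⟨rU, hrU⟩ : ∃ rU : ℕ, rU₀ ≤ rU := ⟨rU₀.toNat, Int.self_le_toNat _⟩
  refine ⟨rU + rV + 1, fun m E hE hpc hsupp => ?_⟩
  obtain ⟨m₁, hm₁⟩ : ∃ m₁ : ℤ, m₁ = m - rV - 1 := ⟨_, rfl⟩
  let RU := DPerf.resD U.ι
  let RV := DPerf.resD V.ι
  obtain ⟨P₁, α₁, hP₁, hP₁T, hα₁⟩ := hrU₀ m₁ _ (DQC.isQCohD_resD U.ι hE)
    (isPseudoCoherentD_mono (isPseudoCoherentD_resD U.ι hpc) (by omega))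
    (fun i hi => support_resD U.ι (hsupp i (by omega)))
  obtain ⟨b, hb⟩ := DPerf.exists_isLE_of_pseudoCoherent (isPseudoCoherentD_of_isPerfect hP₁ 0)
  obtain ⟨R₀, hR₀, hR₀T, ⟨e₀⟩⟩ := exists_glue_odd' hUVc hV hUV hT hTV hP₁ hP₁T (b - m₁).toNat
  obtain ⟨c, hc⟩ : ∃ c : ℤ, (2 * (b - m₁).toNat + 1 : ℤ) = c := ⟨_, rfl⟩
  rw [hc] at e₀
  obtain ⟨R₁, π, β, hR₁, hR₁T, hπ, hβ⟩ :=
    exists_lift_step' hUVc hV hUV hT hTV hR₀ hR₀T hE (e₀.hom ≫ biprod.fst ≫ α₁)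
  obtain ⟨E₁, u₁, v₁, hE₁⟩ := distinguished_cocone_triangle β
  have hfst : ApproxMap m₁ (biprod.fst : P₁ ⊞ P₁⟦c⟧ ⟶ P₁) := by
    have key : ∀ i, m₁ ≤ i → IsIso ((HH (U : Scheme.{u}).Modules i).map (biprod.fst : P₁ ⊞ P₁⟦c⟧ ⟶ P₁)) := fun i hi => by
      let H := HH (U : Scheme.{u}).Modules i
      have hz : IsZero (H.obj (P₁⟦c⟧)) :=
        DMV.isZero_HD_shift P₁ c i ((DerivedCategory.isLE_iff _ _).1 hb (c + i) (by omega))
      refine ⟨H.map biprod.inl, ?_, ?_⟩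
      · have h := congrArg H.map (biprod.total (X := P₁) (Y := P₁⟦c⟧))
        rw [Functor.map_add, Functor.map_comp, Functor.map_comp, hz.eq_of_tgt (H.map biprod.snd) 0, zero_comp,
          add_zero, CategoryTheory.Functor.map_id] at h
        exact h
      · rw [← Functor.map_comp, biprod.inl_fst, CategoryTheory.Functor.map_id]
    intro i hi
    haveI := key i hi
    haveI := key (i + 1) (by omega)
    exact ⟨inferInstance, inferInstance⟩
  have hE₁U : ∀ i, m₁ ≤ i → IsZero (DCoh.HD (RU.obj E₁) i) :=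
    (approxMap_iff_isZero _ (RU.map_distinguished _ hE₁)).1 (show ApproxMap m₁ (RU.map β) by
      rw [← hβ]
      haveI : IsIso (RU.map π) := hπ
      refine ApproxMap.iso_comp (ApproxMap.iso_comp (fun i hi => ?_) e₀.hom) (RU.map π)
      obtain ⟨h₁, h₂⟩ := hfst i hi
      obtain ⟨h₃, h₄⟩ := hα₁ i hi
      rw [Functor.map_comp, Functor.map_comp]
      exact ⟨epi_comp _ _, mono_comp _ _⟩)
  have hxU : ∀ x, x ∈ U → ∀ i, m₁ ≤ i → RHom.StalkZero x (DCoh.HD E₁ i) := fun x hx i hi =>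
    (stalkZero_HD_resD U.ι E₁ ⟨x, hx⟩ i).1 (stalkZero_of_isZero _ (hE₁U i hi))
  have hE₁q : DCoh.IsQCohD E₁ := DPush.isQCohD_obj₃ _ hE₁ (isQCohD_of_isPerfect hR₁) hE
  have hE₁pc : DCoh.IsPseudoCoherentD (m - rV) E₁ :=
    isPseudoCoherentD_mono (DPerf.isPseudoCoherentD_of_approx (DPerf.approx_Ici₃ _ _ hE₁
      (DPerf.approx_of_isPseudoCoherentD (isPseudoCoherentD_of_isPerfect hR₁ _))
      (DPerf.approx_of_isPseudoCoherentD hpc))) (by omega)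
  have hE₁supp : ∀ i, m - rV ≤ i → CohB1.support (DCoh.HD E₁ i) ⊆ T' := fun i hi x hx => by
    refine ⟨?_, fun hxU' => hx (AddCommGrpCat.subsingleton_of_isZero (hxU x hxU' i (by omega)))⟩
    by_contra hxT
    exact hx (AddCommGrpCat.subsingleton_of_isZero (stalkZero₃ _ hE₁ x i
      (DMV.stalkZero_of_not_mem_support fun h => hxT (hsupp i (by omega) h)) (stalkZero_of_suppOn hR₁T hxT _)))
  obtain ⟨P₂, α₂, hP₂, hP₂T, hα₂⟩ := hrV m _ (DQC.isQCohD_resD V.ι hE₁q) (isPseudoCoherentD_resD V.ι hE₁pc)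
    (fun i hi => support_resD V.ι (hE₁supp i hi))
  let Q := (DCoh.Rpush V.ι).obj P₂
  have hQ : DCoh.IsPerfect Q := DMV.isPerfect_rpush_of_support V P₂ hP₂ _ hT' hT'V
    fun i => Set.image_subset_iff.2 (hP₂T i)
  have hQT : SuppOn T' Q := suppOn_rpush V.ι hT' hP₂T
  let adjV := adjR V.ι
  obtain ⟨W, uW, vW, hW⟩ := distinguished_cocone_triangle (adjV.unit.app E₁)
  have hVU : (V : Set X)ᶜ ⊆ (U : Set X) := fun x hx => (hcov x).resolve_right hx
  haveI := isIso_resD_unit V.ι E₁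
  obtain ⟨eW⟩ := DMV.nonempty_iso_rpush_restrict U _ V.2.isClosed_compl hVU W (by
    have h : SuppOn ((V : Set X)ᶜ) W := by
      refine suppOn_mono (le_of_eq ?_) (suppOn_of_isZero_resD V.ι (isZero_resD_cone V.ι hW))
      erw [Scheme.Opens.range_ι]
    exact h)
  obtain ⟨γ, hγ⟩ := (DGam9.bijective_comp U.ι (isZero_resD_of_suppOn U.ι hQT fun x h => h.2 x.2) hW eW).2
    ((DCoh.Rpush V.ι).map α₂)
  simp only at hγ
  have hγV : RV.map γ = (resPushIso V.ι P₂).hom ≫ α₂ := by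
    haveI := isIso_counit V.ι
    have h := congrArg (fun z => RV.map z ≫ adjV.counit.app (RV.obj E₁)) hγ
    simp only [Functor.map_comp, Category.assoc] at h
    have ht : RV.map (adjV.unit.app E₁) ≫ adjV.counit.app (RV.obj E₁) = 𝟙 _ := adjV.left_triangle_components E₁
    rw [ht, Category.comp_id] at h
    exact h.trans (adjV.counit.naturality α₂)
  obtain ⟨E₂, u₂, v₂, hE₂⟩ := distinguished_cocone_triangle γ
  have hE₂z : ∀ i, m ≤ i → IsZero (DCoh.HD E₂ i) := fun i hi => by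
    refine DPerf.isZero_of_stalks fun x => AddCommGrpCat.subsingleton_of_isZero ?_
    rcases hcov x with hx | hx
    · exact stalkZero₃ _ hE₂ x i (hxU x hx i (by omega)) (stalkZero_of_suppOn hQT (fun h => h.2 hx) _)
    · refine (stalkZero_HD_resD V.ι E₂ ⟨x, hx⟩ i).1 (stalkZero_of_isZero _ ?_)
      refine (approxMap_iff_isZero _ (RV.map_distinguished _ hE₂)).1 (show ApproxMap m (RV.map γ) from ?_) i hi
      rw [hγV]
      exact hα₂.iso_comp _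
  obtain ⟨P, α, v, hP⟩ := distinguished_cocone_triangle₁ (u₁ ≫ u₂)
  let o := Triangulated.someOctahedron rfl (rot_of_distTriang _ hE₁) (rot_of_distTriang _ hE₂)
    (rot_of_distTriang _ hP)
  refine ⟨P, α, ?_, ?_, (approxMap_iff_isZero _ hP).2 hE₂z⟩
  · have h : DCoh.IsPerfect (P⟦(1 : ℤ)⟧) :=
      isPerfect_obj₂ o.triangle o.mem (isPerfect_shiftD hR₁ 1) (isPerfect_shiftD hQ 1)
    exact isPerfect_of_iso ((shiftFunctorCompIsoId (DCoh.D X) (1 : ℤ) (-1) (by omega)).app P) (isPerfect_shiftD h (-1))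
  · have h : SuppOn T (P⟦(1 : ℤ)⟧) :=
      suppOn_triangle₂ o.triangle o.mem (suppOn_shift hR₁T 1) (suppOn_shift (suppOn_mono Set.inter_subset_left hQT) 1)
    exact suppOn_of_iso ((shiftFunctorCompIsoId (DCoh.D X) (1 : ℤ) (-1) (by omega)).app P) (suppOn_shift h (-1))

end Groth.Agent.DGen9
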